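import Mathlib
import Cfsg.Agent.Lib.Blocks.Idempotent
import Cfsg.Agent.Lib.BrauerFeit.RegularPart

/-!
# Class functions modulo `M` fixed by a block idempotent lift to the span of the block

Independent functions modulo `M` of this kind are at most as many as the dimension of the span of
the characters of the block, on any set of elements on which they stay independent.
-/

set_option autoImplicit false

namespace Cfsg.Agent.Lib.BlockAlg

open Cfsg MonoidAlgebra
open Cfsg.Agent.Lib
open Cfsg.Agent.Lib.Blocks

universe u

attribute [local instance] Classical.propDecidable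

variable {G : Type u} [Group G] [Fintype G] {M : Ideal AlgInt} [M.IsPrime]
  {B : Set (IrrCharacter G)}

/-- The idempotent of a block picks out its characters. -/
theorem sum_blockCoeff_mul_apply (χ : IrrCharacter G) (g : G) :
    ∑ h : G, blockCoeff B h * (χ : G → ℂ) (h * g) = if χ ∈ B then (χ : G → ℂ) g else 0 := by
  have h1 := omega_mul χ (idemC_mem_center B) (single g (1 : ℂ))
  rw [omega_idemC, omega_single, one_mul, omega_eq_sum, ← Equiv.sum_comp (Equiv.mulRight g)] at h1
  simp only [Equiv.coe_mulRight, coeff_mul_single_apply, mul_inv_cancel_right, mul_one, idemC,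
    coeff_ofFun] at h1
  have hne := Chars.irr_apply_one_ne_zero χ
  simp only [mul_div_assoc', ← Finset.sum_div] at h1
  rw [div_left_inj' hne] at h1
  rw [h1, ite_mul, one_mul, zero_mul]

/-- A class function fixed by the idempotent of a block is in the span of the block. -/
theorem mem_span_of_fixed {f : G → ℂ} (hf : IsClassFunction G f) :
    (fun g => ∑ h : G, blockCoeff B h * f (h * g)) ∈
      Submodule.span ℂ ((fun χ : IrrCharacter G => (χ : G → ℂ)) '' B) := by
  have hexp := Chars.isClassFunction_eq_sum_classInner hf
  have key : (fun g => ∑ h : G, blockCoeff B h * f (h * g)) =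
      ∑ χ : IrrCharacter G, (if χ ∈ B then classInner f (χ : G → ℂ) else 0) • (χ : G → ℂ) := by
    funext g
    conv_lhs => arg 2; ext h; rw [congrFun hexp (h * g)]
    simp only [Finset.sum_apply, Pi.smul_apply, smul_eq_mul, Finset.mul_sum]
    rw [Finset.sum_comm]
    refine Finset.sum_congr rfl fun χ _ => ?_
    rw [Finset.sum_congr rfl fun h _ => mul_left_comm _ _ _, ← Finset.mul_sum,
      sum_blockCoeff_mul_apply]
    split_ifs <;> simp
  rw [key]
  refine Submodule.sum_mem _ fun χ _ => ?_
  split_ifs with h
  · exact Submodule.smul_mem _ _ (Submodule.subset_span ⟨χ, h, rfl⟩)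
  · rw [zero_smul]
    exact Submodule.zero_mem _

/-- Functions modulo `M` fixed by the idempotent of `B` and independent on `S` are at most as many
as the dimension of the span of the characters of `B` cut off outside `S`. -/
theorem card_le_finrank_span (hB : IsPBlock M B) (S : Set G) {m : ℕ} (c : Fin m → G → Residue M)
    (hclass : ∀ a g x, c a (x * g * x⁻¹) = c a g)
    (hfix : ∀ a g, ∑ h : G, (toF M G ((blockIdem M hB : RCenter M G) :
      MonoidAlgebra (localRing M) G)).coeff h * c a (h * g) = c a g)
    (X : Fin m → G → Residue M) (hXS : ∀ b g, g ∉ S → X b g = 0)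
    (hX : ∀ a b, ∑ g : G, X b g * c a g = if a = b then 1 else 0) :
    m ≤ Module.finrank ℂ (Submodule.span ℂ
      ((fun χ : IrrCharacter G => S.indicator (χ : G → ℂ)) '' B)) := by
  choose r₀ hr₀ using IsLocalRing.residue_surjective (R := localRing M)
  let r : Residue M → localRing M := fun x => if x = 0 then 0 else r₀ x
  have hr : ∀ x, residue M (r x) = x := fun x => by
    by_cases h : x = 0
    · simp [r, h]
    · simp [r, h, hr₀]
  have hr0 : ∀ b g, g ∉ S → r (X b g) = 0 := fun b g hg => if_pos (hXS b g hg)
  let eR : G → localRing M := fun h =>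
    ((blockIdem M hB : RCenter M G) : MonoidAlgebra (localRing M) G).coeff h
  have he : ∀ h, (toF M G ((blockIdem M hB : RCenter M G) :
      MonoidAlgebra (localRing M) G)).coeff h = residue M (eR h) := fun h => by
    simp [eR]
  let cl : Fin m → G → localRing M := fun a g => r (c a (classRep (ConjClasses.mk g)))
  have hcl : ∀ a g, residue M (cl a g) = c a g := fun a g => by
    obtain ⟨x, hx⟩ := isConj_iff.1 (isConj_classRep_mk g)
    show residue M (r _) = _
    rw [hr]
    conv_rhs => rw [← hx, hclass]
  let F : Fin m → G → localRing M := fun a g => ∑ h : G, eR h * cl a (h * g)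
  have hF : ∀ a g, residue M (F a g) = c a g := fun a g => by
    simp only [F, map_sum, map_mul, hcl, ← he, hfix]
  let f : Fin m → G → ℂ := fun a => S.indicator fun g => (F a g : ℂ)
  have hmem : ∀ a, f a ∈ Submodule.span ℂ
      ((fun χ : IrrCharacter G => S.indicator (χ : G → ℂ)) '' B) := fun a => by
    have hcf : IsClassFunction G fun g => ((cl a g : localRing M) : ℂ) := fun g x => by
      simp only [cl]
      rw [show ConjClasses.mk (x * g * x⁻¹) = ConjClasses.mk g from
        ConjClasses.mk_eq_mk_iff_isConj.2 (isConj_iff.2 ⟨x⁻¹, by group⟩)]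
    let T : (G → ℂ) →ₗ[ℂ] (G → ℂ) :=
      { toFun := fun φ => S.indicator φ
        map_add' := fun φ ψ => Set.indicator_add S φ ψ
        map_smul' := fun z φ => Set.indicator_const_smul S z φ }
    have h1 := Submodule.mem_map_of_mem (f := T) (mem_span_of_fixed (B := B) hcf)
    rw [Submodule.map_span, Set.image_image] at h1
    refine (congrArg (· ∈ _) (congrArg T (funext fun g => ?_))).mp h1
    simp only [F, eR, AddSubmonoidClass.coe_finsetSum, Subring.coe_mul, coe_coeff_blockIdem]
  have hind : LinearIndependent ℂ f := by
    rw [Fintype.linearIndependent_iff]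
    intro lam hlam
    let A : Matrix (Fin m) (Fin m) (localRing M) := fun a b => ∑ g : G, r (X b g) * F a g
    have hA : A.map (residue M) = 1 := by
      ext a b
      rw [Matrix.map_apply, show A a b = ∑ g, r (X b g) * F a g from rfl]
      simp only [map_sum, map_mul, hr, hF, hX, Matrix.one_apply]
    have hdet : ((A.det : localRing M) : ℂ) ≠ 0 := fun h0 => by
      have h1 := RingHom.map_det (residue M) A
      rw [show (residue M).mapMatrix A = A.map (residue M) from rfl, hA, Matrix.det_one,
        show A.det = 0 from Subtype.ext h0, map_zero] at h1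
      exact zero_ne_one h1
    let Ac : Matrix (Fin m) (Fin m) ℂ := A.map (localRing M).subtype
    have hv : Matrix.vecMul lam Ac = 0 := by
      funext b
      have hAc : ∀ a, Ac a b = ∑ g, ((r (X b g) : localRing M) : ℂ) * (F a g : ℂ) := fun a => by
        show ((∑ g, r (X b g) * F a g : localRing M) : ℂ) = _
        simp only [AddSubmonoidClass.coe_finsetSum, Subring.coe_mul]
      simp only [Matrix.vecMul, dotProduct, hAc, Pi.zero_apply, Finset.mul_sum]
      rw [Finset.sum_comm]
      refine Finset.sum_eq_zero fun g _ => ?_
      by_cases hg : g ∈ S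
      · have h2 := congrFun hlam g
        simp only [Finset.sum_apply, Pi.smul_apply, smul_eq_mul, f, Set.indicator_of_mem hg,
          Pi.zero_apply] at h2
        rw [Finset.sum_congr rfl fun a _ => mul_left_comm _ _ _, ← Finset.mul_sum, h2, mul_zero]
      · exact Finset.sum_eq_zero fun a _ => by rw [show r (X b g) = 0 from hr0 b g hg]; simp
    exact congrFun (Matrix.eq_zero_of_vecMul_eq_zero (by
      rw [show Ac.det = ((A.det : localRing M) : ℂ) from (RingHom.map_det (localRing M).subtype A).symm]
      exact hdet) hv)
  simpa using (LinearIndependent.of_comp (Submodule.subtype _)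
    (v := fun a => (⟨f a, hmem a⟩ : Submodule.span ℂ
      ((fun χ : IrrCharacter G => S.indicator (χ : G → ℂ)) '' B))) hind).fintype_card_le_finrank

end Cfsg.Agent.Lib.BlockAlg
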