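import Mathlib
import Cfsg.Agent.Lib.BlockAlg.Lift
import Cfsg.Agent.Lib.Contrib.BlockTwo

/-!
# The algebra of a block modulo `M`

The group algebra modulo the annihilator of a block idempotent: its dimension, its traces, and the
ranks of its idempotents.
-/

set_option autoImplicit false

namespace Cfsg.Agent.Lib.BlockAlg

open Cfsg MonoidAlgebra
open Cfsg.Agent.Lib
open Cfsg.Agent.Lib.Blocks

universe u

attribute [local instance] Classical.propDecidable

variable {G : Type u} [Group G] [Fintype G] {M : Ideal AlgInt} [M.IsPrime]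
  {B : Set (IrrCharacter G)} (hB : IsPBlock M B)

/-- The block idempotent modulo `M`. -/
noncomputable def idem : MonoidAlgebra (Residue M) G :=
  toF M G ((blockIdem M hB : RCenter M G) : MonoidAlgebra (localRing M) G)

theorem idem_comm (z : MonoidAlgebra (Residue M) G) : idem hB * z = z * idem hB :=
  (Subalgebra.mem_center_iff.1 (map_mem_center (residue M) (blockIdem M hB).2) z).symm

theorem idem_mul_self : idem hB * idem hB = idem hB := by
  rw [idem, ← map_mul, ← MulMemClass.coe_mul, blockIdem_mul_self]

/-- The annihilator of the block idempotent. -/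
noncomputable def annIdeal : Ideal (MonoidAlgebra (Residue M) G) where
  carrier := {x | idem hB * x = 0}
  add_mem' := fun {x y} hx hy => by
    show idem hB * (x + y) = 0
    rw [mul_add, hx, hy, add_zero]
  zero_mem' := mul_zero _
  smul_mem' := fun c x hx => by
    show idem hB * (c * x) = 0
    rw [← mul_assoc, idem_comm hB c, mul_assoc, hx, mul_zero]

instance : (annIdeal hB).IsTwoSided :=
  ⟨fun c hx => show idem hB * (_ * c) = 0 by
    rw [← mul_assoc, show idem hB * _ = 0 from hx, zero_mul]⟩

/-- The block algebra. -/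
abbrev Alg := MonoidAlgebra (Residue M) G ⧸ annIdeal hB

/-- The projection onto the block algebra. -/
noncomputable def proj : MonoidAlgebra (Residue M) G →ₐ[Residue M] Alg hB :=
  Ideal.Quotient.mkₐ (Residue M) (annIdeal hB)

theorem proj_surjective : Function.Surjective (proj hB) := Ideal.Quotient.mk_surjective

theorem proj_eq_zero_iff {x : MonoidAlgebra (Residue M) G} : proj hB x = 0 ↔ idem hB * x = 0 :=
  Ideal.Quotient.eq_zero_iff_mem

theorem proj_idem_mul (x : MonoidAlgebra (Residue M) G) : proj hB (idem hB * x) = proj hB x := by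
  rw [← sub_eq_zero, ← map_sub, proj_eq_zero_iff, mul_sub, ← mul_assoc, idem_mul_self hB, sub_self]

instance : FiniteDimensional (Residue M) (Alg hB) :=
  Module.Finite.of_surjective (proj hB).toLinearMap (proj_surjective hB)

/-- The images of the group elements. -/
noncomputable def elt : G →* Alg hB :=
  (proj hB).toMonoidHom.comp (MonoidAlgebra.of (Residue M) G)

theorem elt_apply (g : G) : elt hB g = proj hB (single g 1) := rfl

theorem proj_eq_sum (z : MonoidAlgebra (Residue M) G) :
    proj hB z = ∑ g : G, z.coeff g • elt hB g := by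
  conv_lhs => rw [← z.sum_coeff_single]
  rw [Finsupp.sum_fintype _ _ (fun g => by simp), map_sum]
  exact Finset.sum_congr rfl fun g _ => by rw [elt_apply, ← map_smul, smul_single', mul_one]

theorem span_elt : Submodule.span (Residue M) (Set.range (elt hB)) = ⊤ := by
  refine eq_top_iff.2 fun x _ => ?_
  obtain ⟨z, rfl⟩ := proj_surjective hB x
  rw [proj_eq_sum]
  exact Submodule.sum_mem _ fun g _ => Submodule.smul_mem _ _ (Submodule.subset_span ⟨g, rfl⟩)

theorem finrank_alg :
    Module.finrank (Residue M) (Alg hB) = ∑ χ ∈ B.toFinset, charDegree (χ : G → ℂ) ^ 2 := by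
  have heR2 : ((blockIdem M hB : RCenter M G) : MonoidAlgebra (localRing M) G) *
      ((blockIdem M hB : RCenter M G) : MonoidAlgebra (localRing M) G) =
      ((blockIdem M hB : RCenter M G) : MonoidAlgebra (localRing M) G) :=
    congrArg Subtype.val (blockIdem_mul_self hB)
  set eR := ((blockIdem M hB : RCenter M G) : MonoidAlgebra (localRing M) G)
  haveI : CharZero (localRing M) :=
    ⟨fun m n h => by exact_mod_cast congrArg (fun x : localRing M => (x : ℂ)) h⟩
  have h := congrArg (fun x : localRing M => (x : ℂ))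
    (Contrib.trace_eq_rank_reduction (residue M) (Contrib.regMatrix_mul_self heR2))
  have hmap : (Contrib.regMatrix eR).map (residue M) = Contrib.regMatrix (idem hB) := by
    ext g g'
    simp [Contrib.regMatrix, idem, eR]
  rw [hmap, ← Contrib.finrank_range_mulLeft, Contrib.trace_regMatrix] at h
  simp only [Subring.coe_mul, Subring.coe_natCast] at h
  rw [coe_coeff_blockIdem hB, Contrib.card_mul_blockCoeff_one] at h
  have h2 : ((∑ χ ∈ B.toFinset, charDegree (χ : G → ℂ) ^ 2 : ℕ) : ℂ) =
      (Module.finrank (Residue M)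
        (LinearMap.range (LinearMap.mulLeft (Residue M) (idem hB))) : ℂ) := by
    rw [← h]
    push_cast
    exact Finset.sum_congr rfl fun χ _ => by rw [(exists_degree_eq χ).1]
  rw [Nat.cast_inj] at h2
  rw [h2]
  let Φ : LinearMap.range (LinearMap.mulLeft (Residue M) (idem hB)) →ₗ[Residue M] Alg hB :=
    (proj hB).toLinearMap.comp (Submodule.subtype _)
  have hfix : ∀ x : LinearMap.range (LinearMap.mulLeft (Residue M) (idem hB)),
      idem hB * (x : MonoidAlgebra (Residue M) G) = x := by
    rintro ⟨_, y, rfl⟩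
    show idem hB * (idem hB * y) = idem hB * y
    rw [← mul_assoc, idem_mul_self]
  refine (LinearEquiv.ofBijective Φ ⟨fun x y hxy => Subtype.ext ?_, fun a => ?_⟩).finrank_eq.symm
  · have h' : proj hB (x : MonoidAlgebra (Residue M) G) = proj hB y := hxy
    rw [← sub_eq_zero, ← map_sub, proj_eq_zero_iff, mul_sub, hfix, hfix, sub_eq_zero] at h'
    exact h'
  · obtain ⟨z, rfl⟩ := proj_surjective hB a
    exact ⟨⟨idem hB * z, z, rfl⟩, proj_idem_mul hB z⟩

include hB in
theorem finrank_pos : 0 < Module.finrank (Residue M) (Alg hB) := by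
  rw [finrank_alg]
  obtain ⟨χ, hχ⟩ := isPBlock_nonempty hB
  refine lt_of_lt_of_le ?_ (Finset.single_le_sum (fun ψ _ => Nat.zero_le _) (Set.mem_toFinset.2 hχ))
  exact pow_pos (Nat.pos_of_ne_zero (HeightZero.charDegree_eq χ).2) 2

theorem card_dvd_finrank_mulRight {p : ℕ} [Fact p.Prime] (hM : IsPModular p M) {H : Subgroup G}
    (hH : IsPGroup p H) {i : Alg hB} (hi : IsIdempotentElem i) :
    Nat.card H ∣ Module.finrank (Residue M) (LinearMap.range (LinearMap.mulRight (Residue M) i)) := by
  haveI := charP_residue hM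
  obtain ⟨x, hx⟩ := proj_surjective hB i
  set y := idem hB * x with hy
  have hyI : IsIdempotentElem y := by
    have h0 : proj hB (x * x - x) = 0 := by rw [map_sub, map_mul, hx, hi.eq, sub_self]
    rw [proj_eq_zero_iff, mul_sub, sub_eq_zero] at h0
    show idem hB * x * (idem hB * x) = idem hB * x
    rw [mul_assoc, ← mul_assoc x, ← idem_comm hB x, ← mul_assoc, ← mul_assoc, idem_mul_self,
      mul_assoc, h0]
  have hye : idem hB * y = y := by rw [hy, ← mul_assoc, idem_mul_self]
  have hqy : proj hB y = i := by rw [hy, proj_idem_mul, hx]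
  have hdvd := Contrib.card_dvd_finrank_mulRight H hH hyI
  let Θ : LinearMap.range (LinearMap.mulRight (Residue M) y) →ₗ[Residue M]
      LinearMap.range (LinearMap.mulRight (Residue M) i) :=
    LinearMap.codRestrict _ ((proj hB).toLinearMap.comp (Submodule.subtype _)) (by
      rintro ⟨_, u, rfl⟩
      exact ⟨proj hB u, by
        show proj hB u * i = proj hB (u * y)
        rw [map_mul, hqy]⟩)
  have hfix : ∀ a : LinearMap.range (LinearMap.mulRight (Residue M) y),
      idem hB * (a : MonoidAlgebra (Residue M) G) = a := by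
    rintro ⟨_, u, rfl⟩
    show idem hB * (u * y) = u * y
    rw [← mul_assoc, idem_comm hB u, mul_assoc, hye]
  rw [(LinearEquiv.ofBijective Θ ⟨fun a c hac => Subtype.ext ?_, fun a => ?_⟩).finrank_eq] at hdvd
  · exact hdvd
  · have h' : proj hB (a : MonoidAlgebra (Residue M) G) = proj hB c := congrArg Subtype.val hac
    rw [← sub_eq_zero, ← map_sub, proj_eq_zero_iff, mul_sub, hfix, hfix, sub_eq_zero] at h'
    exact h'
  · obtain ⟨b, hb⟩ := a.2
    obtain ⟨u, rfl⟩ := proj_surjective hB b
    refine ⟨⟨u * y, u, rfl⟩, Subtype.ext ?_⟩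
    show proj hB (u * y) = (a : Alg hB)
    rw [← hb, LinearMap.mulRight_apply, map_mul, hqy]

/-- Independent traces detected on `S` are at most as many as the dimension of the block there. -/
theorem card_traces_le (S : Set G) (r : G → G) (hrS : ∀ g, r g ∈ S) {m : ℕ}
    (t : Fin m → (Alg hB →ₗ[Residue M] Residue M)) (ht : ∀ a x y, t a (x * y) = t a (y * x))
    (htr : ∀ a g, t a (elt hB (r g)) = t a (elt hB g)) (x : Fin m → Alg hB)
    (hx : ∀ a b, t a (x b) = if a = b then 1 else 0) :
    m ≤ Module.finrank ℂ (Submodule.span ℂ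
      ((fun χ : IrrCharacter G => S.indicator (χ : G → ℂ)) '' B)) := by
  choose z hz using proj_surjective hB
  refine card_le_finrank_span hB S (fun a g => t a (elt hB g)) (fun a g y => ?_) (fun a g => ?_)
    (fun b y => ∑ g ∈ Finset.univ.filter (fun g => r g = y), (z (x b)).coeff g)
    (fun b y hy => ?_) fun a b => ?_
  · show t a (elt hB (y * g * y⁻¹)) = t a (elt hB g)
    rw [map_mul, ht, ← map_mul, ← mul_assoc, inv_mul_cancel, one_mul]
  · have h1 : proj hB (idem hB * single g 1) = ∑ h : G, (idem hB).coeff h • elt hB (h * g) := by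
      rw [map_mul, proj_eq_sum hB (idem hB), Finset.sum_mul]
      exact Finset.sum_congr rfl fun h _ => by
        rw [smul_mul_assoc, ← elt_apply, ← map_mul]
    rw [proj_idem_mul, ← elt_apply] at h1
    conv_rhs => rw [h1, map_sum]
    exact Finset.sum_congr rfl fun h _ => by rw [map_smul, smul_eq_mul]; rfl
  · refine Finset.sum_eq_zero fun g hg => ?_
    exact absurd ((Finset.mem_filter.1 hg).2 ▸ hrS g) hy
  · rw [← hx a b]
    conv_rhs => rw [← hz (x b), proj_eq_sum, map_sum]
    simp only [map_smul, smul_eq_mul, Finset.sum_mul]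
    rw [← Finset.sum_fiberwise (s := Finset.univ) (g := r)
      (f := fun g => (z (x b)).coeff g * t a (elt hB g))]
    refine Finset.sum_congr rfl fun y _ => Finset.sum_congr rfl fun g hg => ?_
    rw [← (Finset.mem_filter.1 hg).2, htr]

/-- The block has at most as many independent traces as characters. -/
theorem finrank_quot_le (W : Submodule (Residue M) (Alg hB)) (hW : ∀ x y, x * y - y * x ∈ W) :
    Module.finrank (Residue M) (Alg hB ⧸ W) ≤ Nat.card B := by
  let bb := Module.finBasis (Residue M) (Alg hB ⧸ W)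
  choose x hx using fun b => Submodule.Quotient.mk_surjective W (bb b)
  refine (card_traces_le hB Set.univ id (fun g => Set.mem_univ _)
    (fun a => (bb.coord a).comp W.mkQ) (fun a u v => ?_) (fun a g => rfl) x fun a b => ?_).trans ?_
  · show bb.coord a (W.mkQ (u * v)) = bb.coord a (W.mkQ (v * u))
    congr 1
    exact (Submodule.Quotient.eq W).2 (hW u v)
  · show bb.coord a (W.mkQ (x b)) = _
    rw [Submodule.mkQ_apply, hx, Module.Basis.coord_apply, Module.Basis.repr_self,
      Finsupp.single_apply]
    exact if_congr eq_comm rfl rfl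
  · rw [Set.image_eq_range, Nat.card_eq_fintype_card]
    exact finrank_range_le_card _

/-- The number of factors of a semisimple quotient is at most the `p`-regular rank. -/
theorem card_factors_le {p : ℕ} [Fact p.Prime] (hM : IsPModular p M) {m : ℕ} (d : Fin m → ℕ)
    (P : Alg hB →ₐ[Residue M] ∀ a, Matrix (Fin (d a)) (Fin (d a)) (Residue M))
    (hd : ∀ a, 0 < d a) (hP : Function.Surjective P) : m ≤ blockRank p B := by
  haveI := charP_residue hM
  choose x hx using fun b : Fin m => hP fun a =>
    if a = b then Matrix.single (⟨0, hd a⟩ : Fin (d a)) ⟨0, hd a⟩ 1 else 0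
  have hset : ∀ χ : IrrCharacter G, {g : G | ¬ p ∣ orderOf g}.indicator (χ : G → ℂ) =
      pRegularPart p (χ : G → ℂ) := fun χ => funext fun g => by
    rw [BrauerFeit.pRegularPart_apply]
    by_cases h : p ∣ orderOf g <;> simp [h]
  refine (card_traces_le hB {g : G | ¬ p ∣ orderOf g} (fun g => (g ^ pPartExp G p)⁻¹ * g)
    (fun g => ?_)
    (fun a => (Matrix.traceLinearMap (Fin (d a)) (Residue M) (Residue M)).comp
      ((LinearMap.proj a).comp P.toLinearMap)) (fun a u v => ?_) (fun a g => ?_) x
    fun a b => ?_).trans (le_of_eq ?_)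
  · obtain ⟨y, hy, -, -, hy'⟩ := isPPart_iff.2 (rfl : g ^ pPartExp G p = _)
    show ¬ p ∣ orderOf ((g ^ pPartExp G p)⁻¹ * g)
    rwa [show (g ^ pPartExp G p)⁻¹ * g = y by
      conv_lhs => arg 2; rw [← hy]
      rw [inv_mul_cancel_left]]
  · show Matrix.trace (P (u * v) a) = Matrix.trace (P (v * u) a)
    rw [map_mul, map_mul, Pi.mul_apply, Pi.mul_apply, Matrix.trace_mul_comm]
  · show Matrix.trace (P (elt hB _) a) = Matrix.trace (P (elt hB g) a)
    obtain ⟨y, hy, hc, ⟨j, hj⟩, -⟩ := isPPart_iff.2 (rfl : g ^ pPartExp G p = _)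
    set v := g ^ pPartExp G p
    conv_rhs => rw [← hy]
    rw [show v⁻¹ * g = y by conv_lhs => arg 2; rw [← hy]
                            rw [inv_mul_cancel_left], map_mul, map_mul, Pi.mul_apply]
    set U := P (elt hB v) a
    set Y := P (elt hB y) a
    haveI : Nonempty (Fin (d a)) := ⟨⟨0, hd a⟩⟩
    haveI : CharP (Matrix (Fin (d a)) (Fin (d a)) (Residue M)) p :=
      charP_of_injective_algebraMap (FaithfulSMul.algebraMap_injective (Residue M) _) p
    have hUY : Commute U Y := by
      show U * Y = Y * U
      rw [← Pi.mul_apply, ← Pi.mul_apply, ← map_mul, ← map_mul, ← map_mul, ← map_mul, hc.eq]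
    have hn : IsNilpotent ((U - 1) * Y) := by
      refine (hUY.sub_left (Commute.one_left _)).isNilpotent_mul_right ⟨p ^ j, ?_⟩
      rw [sub_pow_char_pow_of_commute p j (Commute.one_right _), one_pow, ← Pi.pow_apply,
        ← map_pow, ← map_pow, ← hj, pow_orderOf_eq_one, map_one, map_one, Pi.one_apply, sub_self]
    have h := (Matrix.isNilpotent_trace_of_isNilpotent hn).eq_zero
    rw [sub_mul, one_mul, Matrix.trace_sub, sub_eq_zero] at h
    exact h.symm
  · show Matrix.trace (P (x b) a) = _
    rw [hx]
    by_cases h : a = b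
    · simp [h]
    · simp [h]
  · unfold blockRank
    rw [Set.image_congr' hset]

end Cfsg.Agent.Lib.BlockAlg
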