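import Mathlib

/-!
# Peirce components of idempotents and their ranks in the semisimple quotient

For a finite dimensional algebra with a surjection onto a product of matrix algebras with nil
kernel, the dimension of `e A g` for idempotents `e` and `g` is a bilinear expression in the ranks
of their images, with the Cartan matrix as coefficients.
-/

set_option autoImplicit false

namespace Cfsg.Agent.Lib.BlockAlg

variable {k : Type*} [Field k]

section Algebra

variable {A : Type*} [Ring A] [Algebra k A]

variable (k) in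
/-- The dimension of `e A g`. -/
noncomputable def peirceDim (e g : A) : ℕ :=
  Module.finrank k (LinearMap.range ((LinearMap.mulLeft k e).comp (LinearMap.mulRight k g)))

/-- Idempotents related by a pair `x, y` with `x y = e` and `y x = f`. -/
def IdemEquiv {R : Type*} [Mul R] (e f : R) : Prop := ∃ x y : R, x * y = e ∧ y * x = f

theorem IdemEquiv.symm {R : Type*} [Mul R] {e f : R} (h : IdemEquiv e f) : IdemEquiv f e := by
  obtain ⟨x, y, h1, h2⟩ := h
  exact ⟨y, x, h2, h1⟩

theorem mem_range_peirce {e g x : A} (he : IsIdempotentElem e) (hg : IsIdempotentElem g) :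
    x ∈ LinearMap.range ((LinearMap.mulLeft k e).comp (LinearMap.mulRight k g)) ↔
      e * x = x ∧ x * g = x := by
  constructor
  · rintro ⟨z, rfl⟩
    show e * (e * (z * g)) = e * (z * g) ∧ e * (z * g) * g = e * (z * g)
    rw [← mul_assoc, he.eq, mul_assoc, mul_assoc z, hg.eq]
    exact ⟨rfl, rfl⟩
  · rintro ⟨h1, h2⟩
    exact ⟨x, show e * (x * g) = x by rw [h2, h1]⟩

/-- Equivalent idempotents can be linked inside their Peirce components. -/
theorem IdemEquiv.normalize {e f : A} (he : IsIdempotentElem e) (hf : IsIdempotentElem f)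
    (h : IdemEquiv e f) :
    ∃ x y, x * y = e ∧ y * x = f ∧ e * x = x ∧ x * f = x ∧ f * y = y ∧ y * e = y := by
  obtain ⟨x, y, h1, h2⟩ := h
  refine ⟨e * x * f, f * y * e, ?_, ?_, ?_, ?_, ?_, ?_⟩
  · calc e * x * f * (f * y * e) = e * (x * ((f * f) * y)) * e := by simp only [mul_assoc]
      _ = e * ((x * y) * (x * y)) * e := by rw [hf.eq, ← h2]; simp only [mul_assoc]
      _ = e := by rw [h1, he.eq, he.eq, he.eq]
  · calc f * y * e * (e * x * f) = f * (y * ((e * e) * x)) * f := by simp only [mul_assoc]
      _ = f * ((y * x) * (y * x)) * f := by rw [he.eq, ← h1]; simp only [mul_assoc]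
      _ = f := by rw [h2, hf.eq, hf.eq, hf.eq]
  · rw [← mul_assoc, ← mul_assoc, he.eq]
  · rw [mul_assoc, hf.eq]
  · rw [← mul_assoc, ← mul_assoc, hf.eq]
  · rw [mul_assoc, he.eq]

theorem peirceDim_congr_left {e f g : A} (he : IsIdempotentElem e) (hf : IsIdempotentElem f)
    (hg : IsIdempotentElem g) (h : IdemEquiv e f) : peirceDim k e g = peirceDim k f g := by
  obtain ⟨x, y, hxy, hyx, hex, hxf, hfy, hye⟩ := h.normalize he hf
  let toF : LinearMap.range ((LinearMap.mulLeft k e).comp (LinearMap.mulRight k g)) →ₗ[k]
      LinearMap.range ((LinearMap.mulLeft k f).comp (LinearMap.mulRight k g)) :=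
    LinearMap.codRestrict _ ((LinearMap.mulLeft k y).comp (Submodule.subtype _)) fun z => by
      obtain ⟨h1, h2⟩ := (mem_range_peirce he hg).1 z.2
      refine (mem_range_peirce hf hg).2 ⟨?_, ?_⟩
      · show f * (y * (z : A)) = y * z
        rw [← mul_assoc, hfy]
      · show y * (z : A) * g = y * z
        rw [mul_assoc, h2]
  let toE : LinearMap.range ((LinearMap.mulLeft k f).comp (LinearMap.mulRight k g)) →ₗ[k]
      LinearMap.range ((LinearMap.mulLeft k e).comp (LinearMap.mulRight k g)) :=
    LinearMap.codRestrict _ ((LinearMap.mulLeft k x).comp (Submodule.subtype _)) fun z => by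
      obtain ⟨h1, h2⟩ := (mem_range_peirce hf hg).1 z.2
      refine (mem_range_peirce he hg).2 ⟨?_, ?_⟩
      · show e * (x * (z : A)) = x * z
        rw [← mul_assoc, hex]
      · show x * (z : A) * g = x * z
        rw [mul_assoc, h2]
  refine (LinearEquiv.ofLinearMap toF toE (LinearMap.ext fun z => Subtype.ext ?_)
    (LinearMap.ext fun z => Subtype.ext ?_)).finrank_eq
  · show y * (x * (z : A)) = z
    rw [← mul_assoc, hyx, ((mem_range_peirce hf hg).1 z.2).1]
  · show x * (y * (z : A)) = z
    rw [← mul_assoc, hxy, ((mem_range_peirce he hg).1 z.2).1]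

theorem peirceDim_congr_right {e f g : A} (he : IsIdempotentElem e) (hf : IsIdempotentElem f)
    (hg : IsIdempotentElem g) (h : IdemEquiv e f) : peirceDim k g e = peirceDim k g f := by
  obtain ⟨x, y, hxy, hyx, hex, hxf, hfy, hye⟩ := h.normalize he hf
  let toF : LinearMap.range ((LinearMap.mulLeft k g).comp (LinearMap.mulRight k e)) →ₗ[k]
      LinearMap.range ((LinearMap.mulLeft k g).comp (LinearMap.mulRight k f)) :=
    LinearMap.codRestrict _ ((LinearMap.mulRight k x).comp (Submodule.subtype _)) fun z => by
      obtain ⟨h1, h2⟩ := (mem_range_peirce hg he).1 z.2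
      refine (mem_range_peirce hg hf).2 ⟨?_, ?_⟩
      · show g * ((z : A) * x) = (z : A) * x
        rw [← mul_assoc, h1]
      · show (z : A) * x * f = (z : A) * x
        rw [mul_assoc, hxf]
  let toE : LinearMap.range ((LinearMap.mulLeft k g).comp (LinearMap.mulRight k f)) →ₗ[k]
      LinearMap.range ((LinearMap.mulLeft k g).comp (LinearMap.mulRight k e)) :=
    LinearMap.codRestrict _ ((LinearMap.mulRight k y).comp (Submodule.subtype _)) fun z => by
      obtain ⟨h1, h2⟩ := (mem_range_peirce hg hf).1 z.2
      refine (mem_range_peirce hg he).2 ⟨?_, ?_⟩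
      · show g * ((z : A) * y) = (z : A) * y
        rw [← mul_assoc, h1]
      · show (z : A) * y * e = (z : A) * y
        rw [mul_assoc, hye]
  refine (LinearEquiv.ofLinearMap toF toE (LinearMap.ext fun z => Subtype.ext ?_)
    (LinearMap.ext fun z => Subtype.ext ?_)).finrank_eq
  · show (z : A) * y * x = z
    rw [mul_assoc, hyx, ((mem_range_peirce hg hf).1 z.2).2]
  · show (z : A) * x * y = z
    rw [mul_assoc, hxy, ((mem_range_peirce hg he).1 z.2).2]

variable [FiniteDimensional k A]

theorem peirceDim_sum_left {ι : Type*} [DecidableEq ι] (s : Finset ι) {e : ι → A}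
    (he : OrthogonalIdempotents e) {g : A} (hg : IsIdempotentElem g) :
    peirceDim k (∑ i ∈ s, e i) g = ∑ i ∈ s, peirceDim k (e i) g := by
  have hid : IsIdempotentElem (∑ i ∈ s, e i) := he.isIdempotentElem_sum
  have hmul : ∀ i ∈ s, e i * ∑ j ∈ s, e j = e i := fun i hi => he.mul_sum_of_mem hi
  let toPi : LinearMap.range ((LinearMap.mulLeft k (∑ i ∈ s, e i)).comp (LinearMap.mulRight k g)) →ₗ[k]
      (∀ i : s, LinearMap.range ((LinearMap.mulLeft k (e i.1)).comp (LinearMap.mulRight k g))) :=
    LinearMap.pi fun i => LinearMap.codRestrict _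
      ((LinearMap.mulLeft k (e i.1)).comp (Submodule.subtype _)) fun z =>
        (mem_range_peirce (he.idem _) hg).2
          ⟨show e i.1 * (e i.1 * (z : A)) = e i.1 * z by rw [← mul_assoc, (he.idem _).eq],
           show e i.1 * (z : A) * g = e i.1 * z by
             rw [mul_assoc, ((mem_range_peirce hid hg).1 z.2).2]⟩
  have hval : ∀ z i, ((toPi z i : _) : A) = e i.1 * (z : A) := fun z i => rfl
  have hbij : Function.Bijective toPi := by
    refine ⟨fun z w hzw => Subtype.ext ?_, fun f => ?_⟩
    · rw [← ((mem_range_peirce hid hg).1 z.2).1, ← ((mem_range_peirce hid hg).1 w.2).1,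
        Finset.sum_mul, Finset.sum_mul]
      refine Finset.sum_congr rfl fun i hi => ?_
      rw [← hval z ⟨i, hi⟩, ← hval w ⟨i, hi⟩, hzw]
    · have hmem : ∑ j : s, (f j : A) ∈
          LinearMap.range ((LinearMap.mulLeft k (∑ i ∈ s, e i)).comp (LinearMap.mulRight k g)) := by
        refine Submodule.sum_mem _ fun j _ => (mem_range_peirce hid hg).2 ?_
        obtain ⟨h1, h2⟩ := (mem_range_peirce (he.idem _) hg).1 (f j).2
        refine ⟨?_, h2⟩
        rw [← h1, ← mul_assoc, Finset.sum_mul,
          Finset.sum_eq_single j.1 (fun b _ hb => he.ortho hb) (fun h => absurd j.2 h),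
          (he.idem _).eq]
      refine ⟨⟨_, hmem⟩, funext fun i => Subtype.ext ?_⟩
      rw [hval, Finset.mul_sum, Finset.sum_eq_single i]
      · exact ((mem_range_peirce (he.idem _) hg).1 (f i).2).1
      · intro b _ hb
        obtain ⟨h1, -⟩ := (mem_range_peirce (he.idem _) hg).1 (f b).2
        rw [← h1, ← mul_assoc, he.ortho fun h => hb (Subtype.ext h.symm), zero_mul]
      · exact fun h => absurd (Finset.mem_univ _) h
  rw [peirceDim, (LinearEquiv.ofBijective toPi hbij).finrank_eq, Module.finrank_pi_fintype]
  exact Finset.sum_coe_sort s (fun i => peirceDim k (e i) g)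

theorem peirceDim_sum_right {ι : Type*} [DecidableEq ι] (s : Finset ι) {e : ι → A}
    (he : OrthogonalIdempotents e) {g : A} (hg : IsIdempotentElem g) :
    peirceDim k g (∑ i ∈ s, e i) = ∑ i ∈ s, peirceDim k g (e i) := by
  have hid : IsIdempotentElem (∑ i ∈ s, e i) := he.isIdempotentElem_sum
  let toPi : LinearMap.range ((LinearMap.mulLeft k g).comp (LinearMap.mulRight k (∑ i ∈ s, e i))) →ₗ[k]
      (∀ i : s, LinearMap.range ((LinearMap.mulLeft k g).comp (LinearMap.mulRight k (e i.1)))) :=
    LinearMap.pi fun i => LinearMap.codRestrict _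
      ((LinearMap.mulRight k (e i.1)).comp (Submodule.subtype _)) fun z =>
        (mem_range_peirce hg (he.idem _)).2
          ⟨show g * ((z : A) * e i.1) = (z : A) * e i.1 by
             rw [← mul_assoc, ((mem_range_peirce hg hid).1 z.2).1],
           show (z : A) * e i.1 * e i.1 = (z : A) * e i.1 by rw [mul_assoc, (he.idem _).eq]⟩
  have hval : ∀ z i, ((toPi z i : _) : A) = (z : A) * e i.1 := fun z i => rfl
  have hbij : Function.Bijective toPi := by
    refine ⟨fun z w hzw => Subtype.ext ?_, fun f => ?_⟩
    · rw [← ((mem_range_peirce hg hid).1 z.2).2, ← ((mem_range_peirce hg hid).1 w.2).2,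
        Finset.mul_sum, Finset.mul_sum]
      refine Finset.sum_congr rfl fun i hi => ?_
      rw [← hval z ⟨i, hi⟩, ← hval w ⟨i, hi⟩, hzw]
    · have hmem : ∑ j : s, (f j : A) ∈
          LinearMap.range ((LinearMap.mulLeft k g).comp (LinearMap.mulRight k (∑ i ∈ s, e i))) := by
        refine Submodule.sum_mem _ fun j _ => (mem_range_peirce hg hid).2 ?_
        obtain ⟨h1, h2⟩ := (mem_range_peirce hg (he.idem _)).1 (f j).2
        refine ⟨h1, ?_⟩
        rw [← h2, mul_assoc, he.mul_sum_of_mem j.2]
      refine ⟨⟨_, hmem⟩, funext fun i => Subtype.ext ?_⟩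
      rw [hval, Finset.sum_mul, Finset.sum_eq_single i]
      · exact ((mem_range_peirce hg (he.idem _)).1 (f i).2).2
      · intro b _ hb
        obtain ⟨-, h2⟩ := (mem_range_peirce hg (he.idem _)).1 (f b).2
        rw [← h2, mul_assoc, he.ortho fun h => hb (Subtype.ext h), mul_zero]
      · exact fun h => absurd (Finset.mem_univ _) h
  rw [peirceDim, (LinearEquiv.ofBijective toPi hbij).finrank_eq, Module.finrank_pi_fintype]
  exact Finset.sum_coe_sort s (fun i => peirceDim k g (e i))

omit [FiniteDimensional k A] in
theorem finrank_range_mulRight_eq (g : A) :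
    Module.finrank k (LinearMap.range (LinearMap.mulRight k g)) = peirceDim k (1 : A) g := by
  rw [peirceDim, LinearMap.mulLeft_one, LinearMap.id_comp]

omit [FiniteDimensional k A] in
theorem finrank_eq_peirceDim : Module.finrank k A = peirceDim k (1 : A) (1 : A) := by
  rw [← finrank_range_mulRight_eq, LinearMap.mulRight_one, LinearMap.range_id, finrank_top]

end Algebra

section Matrices

/-- Idempotent matrices of equal rank are equivalent. -/
theorem idemEquiv_matrix {n : ℕ} {E F : Matrix (Fin n) (Fin n) k} (hE : IsIdempotentElem E)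
    (hF : IsIdempotentElem F) (h : E.rank = F.rank) : IdemEquiv E F := by
  classical
  let T : Matrix (Fin n) (Fin n) k ≃ₐ[k] Module.End k (Fin n → k) := Matrix.toLinAlgEquiv'
  set e := T E
  set f := T F
  have hee : ∀ v, e (e v) = e v := fun v => LinearMap.congr_fun (hE.map T).eq v
  have hff : ∀ v, f (f v) = f v := fun v => LinearMap.congr_fun (hF.map T).eq v
  have hr : Module.finrank k (LinearMap.range e) = Module.finrank k (LinearMap.range f) := h
  let φ := LinearEquiv.ofFinrankEq (LinearMap.range e) (LinearMap.range f) hr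
  let y : Module.End k (Fin n → k) :=
    (LinearMap.range f).subtype.comp (φ.toLinearMap.comp e.rangeRestrict)
  let x : Module.End k (Fin n → k) :=
    (LinearMap.range e).subtype.comp (φ.symm.toLinearMap.comp f.rangeRestrict)
  have hfix : ∀ w : LinearMap.range f, f.rangeRestrict (w : Fin n → k) = w := by
    rintro ⟨_, v, rfl⟩
    exact Subtype.ext (hff v)
  have hfix' : ∀ w : LinearMap.range e, e.rangeRestrict (w : Fin n → k) = w := by
    rintro ⟨_, v, rfl⟩
    exact Subtype.ext (hee v)
  refine ⟨T.symm x, T.symm y, T.injective ?_, T.injective ?_⟩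
  · rw [map_mul, T.apply_symm_apply, T.apply_symm_apply]
    refine LinearMap.ext fun v => ?_
    show ((φ.symm (f.rangeRestrict ((φ (e.rangeRestrict v) : LinearMap.range f) : Fin n → k)) :
      LinearMap.range e) : Fin n → k) = e v
    rw [hfix, φ.symm_apply_apply]
    rfl
  · rw [map_mul, T.apply_symm_apply, T.apply_symm_apply]
    refine LinearMap.ext fun v => ?_
    show ((φ (e.rangeRestrict ((φ.symm (f.rangeRestrict v) : LinearMap.range e) : Fin n → k)) :
      LinearMap.range f) : Fin n → k) = f v
    rw [hfix', φ.apply_symm_apply]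
    rfl

end Matrices

variable {A : Type*} [Ring A] [Algebra k A]

/-- Equivalence of idempotents lifts along a surjection with nil kernel. -/
theorem IdemEquiv.of_map {S : Type*} [Ring S] (π : A →+* S) (hπ : Function.Surjective π)
    (hker : ∀ x, π x = 0 → IsNilpotent x) {e f : A} (he : IsIdempotentElem e)
    (hf : IsIdempotentElem f) (h : IdemEquiv (π e) (π f)) : IdemEquiv e f := by
  obtain ⟨X, Y, hXY, hYX⟩ := h
  obtain ⟨x₀, rfl⟩ := hπ X
  obtain ⟨y₀, rfl⟩ := hπ Y
  set x := e * x₀ * f with hx
  set y := f * y₀ * e with hy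
  have hfE : π f * π f = π f := by rw [← map_mul, hf.eq]
  have heE : π e * π e = π e := by rw [← map_mul, he.eq]
  have hpxy : π (x * y) = π e := by
    simp only [hx, hy, map_mul]
    calc π e * π x₀ * π f * (π f * π y₀ * π e)
        = π e * ((π x₀ * (π f * π f)) * π y₀) * π e := by simp only [mul_assoc]
      _ = π e * ((π x₀ * π y₀) * (π x₀ * π y₀)) * π e := by
          rw [hfE, ← hYX]; simp only [mul_assoc]
      _ = π e := by rw [hXY, heE, heE, heE]
  have hpyx : π (y * x) = π f := by
    simp only [hx, hy, map_mul]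
    calc π f * π y₀ * π e * (π e * π x₀ * π f)
        = π f * ((π y₀ * (π e * π e)) * π x₀) * π f := by simp only [mul_assoc]
      _ = π f * ((π y₀ * π x₀) * (π y₀ * π x₀)) * π f := by
          rw [heE, ← hXY]; simp only [mul_assoc]
      _ = π f := by rw [hYX, hfE, hfE, hfE]
  have hex : e * x = x := by rw [hx, ← mul_assoc, ← mul_assoc, he.eq]
  have hxf : x * f = x := by rw [hx, mul_assoc, hf.eq]
  have hfy : f * y = y := by rw [hy, ← mul_assoc, ← mul_assoc, hf.eq]
  have hye : y * e = y := by rw [hy, mul_assoc, he.eq]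
  have hp1 : π (x * y + (1 - e)) = 1 := by
    rw [map_add, hpxy, map_sub, map_one, add_sub_cancel]
  obtain ⟨w, hw⟩ : IsUnit (x * y + (1 - e)) := by
    have hn : IsNilpotent (x * y + (1 - e) - 1) := hker _ (by rw [map_sub, hp1, map_one, sub_self])
    simpa using hn.isUnit_one_add
  have hwe : (w : A) * e = x * y := by
    rw [hw, add_mul, sub_mul, one_mul, he.eq, sub_self, add_zero, mul_assoc, hye]
  have hew : e * (w : A) = x * y := by
    rw [hw, mul_add, mul_sub, mul_one, he.eq, sub_self, add_zero, ← mul_assoc, hex]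
  set z : A := ((w⁻¹ : Aˣ) : A) with hz
  have hze : z * (x * y) = e := by rw [← hwe, hz, ← mul_assoc, Units.inv_mul, one_mul]
  have hxyz : x * y * z = e := by rw [← hew, hz, mul_assoc, Units.mul_inv, mul_one]
  have hpz : π z = 1 := by
    have := congrArg π (Units.inv_mul w)
    rwa [map_mul, map_one, hw, hp1, mul_one] at this
  refine ⟨x, y * z, by rw [← mul_assoc, hxyz], ?_⟩
  have hidem : IsIdempotentElem (y * z * x) := by
    show y * z * x * (y * z * x) = y * z * x
    calc y * z * x * (y * z * x) = y * (z * (x * y)) * (z * x) := by simp only [mul_assoc]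
      _ = y * z * x := by rw [hze, hye, ← mul_assoc]
  have h1 : f * (y * z * x) = y * z * x := by rw [mul_assoc y z, ← mul_assoc f, hfy]
  have h2 : y * z * x * f = y * z * x := by rw [mul_assoc, hxf]
  refine (sub_eq_zero.1 ?_).symm
  refine IsIdempotentElem.eq_zero_of_isNilpotent ?_ (hker _ ?_)
  · show (f - y * z * x) * (f - y * z * x) = f - y * z * x
    rw [sub_mul, mul_sub, mul_sub, hf.eq, h1, h2, hidem.eq, sub_self, sub_zero]
  · rw [map_sub, map_mul, map_mul, hpz, mul_one, ← map_mul, hpyx, sub_self]

variable [FiniteDimensional k A]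

/-- The ranks in the semisimple quotient: there are naturals `C` such that `dim e A g` is the value
of `C` on the ranks of `e` and `g`; the `C a b` come from idempotents `i a` of rank one at `a`. -/
theorem exists_cartan {m : ℕ} (d : Fin m → ℕ) (hd : ∀ a, 0 < d a)
    (P : A →ₐ[k] ∀ a, Matrix (Fin (d a)) (Fin (d a)) k) (hP : Function.Surjective P)
    (hker : ∀ x, P x = 0 → IsNilpotent x) :
    ∃ i : Fin m → A, (∀ a, IsIdempotentElem (i a)) ∧
      (∀ a b, (P (i a) b).rank = if b = a then 1 else 0) ∧
      ∀ e g : A, IsIdempotentElem e → IsIdempotentElem g → peirceDim k e g =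
        ∑ a, ∑ b, (P e a).rank * (P g b).rank * peirceDim k (i a) (i b) := by
  classical
  have hk : ∀ x ∈ RingHom.ker P.toRingHom, IsNilpotent x := fun x hx => hker x hx
  let D : (Σ a, Fin (d a)) → (∀ a, Matrix (Fin (d a)) (Fin (d a)) k) :=
    fun q => Pi.single q.1 (Matrix.single q.2 q.2 1)
  have hD : CompleteOrthogonalIdempotents D :=
    { idem := fun q => by
        show D q * D q = D q
        rw [← Pi.single_mul, Matrix.single_mul_single_same, one_mul]
      ortho := fun q r hqr => by
        obtain ⟨a, s⟩ := q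
        obtain ⟨b, t⟩ := r
        show Pi.single (M := fun a => Matrix (Fin (d a)) (Fin (d a)) k) a (Matrix.single s s 1) *
          Pi.single b (Matrix.single t t 1) = 0
        by_cases hab : a = b
        · subst hab
          rw [← Pi.single_mul, Matrix.single_mul_single_of_ne _ _ _ _ (fun h => hqr (by rw [h])),
            Pi.single_zero]
        · funext c
          by_cases hc : c = a
          · subst hc; simp [hab]
          · simp [hc]
      complete := by
        funext a
        rw [Fintype.sum_sigma, Finset.sum_apply, Finset.sum_eq_single a]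
        · ext i j
          simp [D, Matrix.sum_apply, Matrix.single_apply, Matrix.one_apply, ite_and]
        · intro b _ hb
          simp [D, hb.symm]
        · exact fun h => absurd (Finset.mem_univ _) h }
  obtain ⟨E, hE, hPE⟩ := CompleteOrthogonalIdempotents.lift_of_isNilpotent_ker P.toRingHom hk hD
    fun q => RingHom.mem_range.2 (hP _)
  have hPE' : ∀ q, P (E q) = D q := fun q => congrFun hPE q
  have hrk : ∀ (q : Σ a, Fin (d a)) b, (P (E q) b).rank = if b = q.1 then 1 else 0 := by
    rintro ⟨a, s⟩ b
    rw [hPE']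
    by_cases hb : b = a
    · subst hb
      rw [if_pos rfl]
      show (Pi.single (M := fun a => Matrix (Fin (d a)) (Fin (d a)) k) b (Matrix.single s s 1) b).rank = 1
      rw [Pi.single_eq_same, ← Matrix.diagonal_single, Matrix.rank_diagonal]
      rw [Fintype.card_subtype, Finset.card_eq_one]
      exact ⟨s, by ext t; simp [Pi.single_apply]⟩
    · rw [if_neg hb]
      show (Pi.single (M := fun a => Matrix (Fin (d a)) (Fin (d a)) k) a (Matrix.single s s 1) b).rank = 0
      rw [Pi.single_eq_of_ne hb, Matrix.rank_zero]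
  have hequiv : ∀ e f : A, IsIdempotentElem e → IsIdempotentElem f →
      (∀ a, (P e a).rank = (P f a).rank) → IdemEquiv e f := fun e f he hf h => by
    have hloc : ∀ a, IdemEquiv (P e a) (P f a) := fun a => idemEquiv_matrix
      ((he.map P).map (Pi.evalRingHom (fun a => Matrix (Fin (d a)) (Fin (d a)) k) a))
      ((hf.map P).map (Pi.evalRingHom (fun a => Matrix (Fin (d a)) (Fin (d a)) k) a)) (h a)
    choose X Y hXY hYX using hloc
    exact IdemEquiv.of_map P.toRingHom hP hker he hf ⟨X, Y, funext hXY, funext hYX⟩
  let i : Fin m → A := fun a => E ⟨a, ⟨0, hd a⟩⟩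
  have hEi : ∀ q, IdemEquiv (E q) (i q.1) := fun q =>
    hequiv _ _ (hE.idem q) (hE.idem _) fun b => by rw [hrk, hrk]
  have hdec : ∀ e : A, IsIdempotentElem e → ∀ g : A, IsIdempotentElem g →
      peirceDim k e g = ∑ a, (P e a).rank * peirceDim k (i a) g ∧
      peirceDim k g e = ∑ a, (P e a).rank * peirceDim k g (i a) := by
    intro e he g hg
    set S : Finset (Σ a, Fin (d a)) :=
      Finset.univ.filter fun q => (q.2 : ℕ) < (P e q.1).rank with hS
    have hPsum : ∀ a, (P (∑ q ∈ S, E q) a).rank = (P e a).rank := by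
      intro a
      have hle : (P e a).rank ≤ d a := (Matrix.rank_le_card_width _).trans (by simp)
      have hdiag : P (∑ q ∈ S, E q) a =
          Matrix.diagonal fun s : Fin (d a) => if (s : ℕ) < (P e a).rank then (1 : k) else 0 := by
        rw [map_sum, Finset.sum_apply, hS, Finset.sum_filter, Fintype.sum_sigma,
          Finset.sum_eq_single a]
        · ext s t
          simp only [hPE', D, Matrix.sum_apply, Matrix.diagonal_apply]
          rw [Finset.sum_eq_single s]
          · by_cases hl : (s : ℕ) < (P e a).rank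
            · rw [if_pos hl, if_pos hl]
              simp [Matrix.single_apply]
            · rw [if_neg hl, if_neg hl]
              simp
          · intro u _ hu
            split_ifs <;> simp [hu]
          · exact fun h => absurd (Finset.mem_univ _) h
        · intro b _ hb
          refine Finset.sum_eq_zero fun s _ => ?_
          split_ifs
          · simp [hPE', D, hb.symm]
          · rfl
        · exact fun h => absurd (Finset.mem_univ _) h
      rw [hdiag, Matrix.rank_diagonal, Fintype.card_subtype]
      simp only [ne_eq, ite_eq_right_iff, one_ne_zero, imp_false, not_not]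
      rw [Fin.card_filter_val_lt, min_eq_right hle]
    have hidS : IsIdempotentElem (∑ q ∈ S, E q) := hE.toOrthogonalIdempotents.isIdempotentElem_sum
    have heq : IdemEquiv e (∑ q ∈ S, E q) := hequiv _ _ he hidS fun a => (hPsum a).symm
    have hcount : ∀ F : Fin m → ℕ, ∑ q ∈ S, F q.1 = ∑ a, (P e a).rank * F a := fun F => by
      rw [hS, Finset.sum_filter, Fintype.sum_sigma]
      refine Finset.sum_congr rfl fun a _ => ?_
      dsimp only
      rw [← Finset.sum_filter, Finset.sum_const, smul_eq_mul]
      congr 1
      convert (Fin.card_filter_val_lt (n := d a) (m := (P e a).rank)).trans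
        (min_eq_right ((Matrix.rank_le_card_width _).trans (by simp))) using 2
    constructor
    · rw [peirceDim_congr_left he hidS hg heq, peirceDim_sum_left S hE.toOrthogonalIdempotents hg,
        ← hcount fun a => peirceDim k (i a) g]
      exact Finset.sum_congr rfl fun q _ =>
        peirceDim_congr_left (hE.idem q) (hE.idem _) hg (hEi q)
    · rw [peirceDim_congr_right he hidS hg heq, peirceDim_sum_right S hE.toOrthogonalIdempotents hg,
        ← hcount fun a => peirceDim k g (i a)]
      exact Finset.sum_congr rfl fun q _ =>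
        peirceDim_congr_right (hE.idem q) (hE.idem _) hg (hEi q)
  refine ⟨i, fun a => hE.idem _, fun a b => hrk _ b, fun e g he hg => ?_⟩
  rw [(hdec e he g hg).1]
  refine Finset.sum_congr rfl fun a _ => ?_
  rw [(hdec g hg (i a) (hE.idem _)).2, Finset.mul_sum]
  exact Finset.sum_congr rfl fun b _ => (mul_assoc _ _ _).symm

/-- A finite dimensional algebra over an algebraically closed field surjects onto a product of
matrix algebras with nil kernel. -/
theorem exists_semisimple_quotient [IsAlgClosed k] :
    ∃ (m : ℕ) (d : Fin m → ℕ) (P : A →ₐ[k] ∀ a, Matrix (Fin (d a)) (Fin (d a)) k),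
      (∀ a, 0 < d a) ∧ Function.Surjective P ∧ ∀ x, P x = 0 → IsNilpotent x := by
  have : IsArtinianRing A := IsArtinianRing.of_finite k A
  set J := Ring.jacobson A with hJ
  obtain ⟨N, hN⟩ := IsSemiprimaryRing.isNilpotent (R := A)
  have : IsSemisimpleRing (A ⧸ J) := IsSemiprimaryRing.isSemisimpleRing
  have : FiniteDimensional k (A ⧸ J) := Module.Finite.of_surjective
    (Ideal.Quotient.mkₐ k J).toLinearMap Ideal.Quotient.mk_surjective
  obtain ⟨m, d, hd, ⟨E⟩⟩ := IsSemisimpleRing.exists_algEquiv_pi_matrix_of_isAlgClosed k (A ⧸ J)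
  refine ⟨m, d, E.toAlgHom.comp (Ideal.Quotient.mkₐ k J), fun a => Nat.pos_of_ne_zero (hd a).out,
    E.surjective.comp Ideal.Quotient.mk_surjective, fun x hx => ⟨N, ?_⟩⟩
  have hxJ : x ∈ J := by
    rw [← Ideal.Quotient.eq_zero_iff_mem]
    exact (map_eq_zero_iff _ E.injective).1 hx
  have := Ideal.pow_mem_pow hxJ N
  rwa [hN] at this

end Cfsg.Agent.Lib.BlockAlg
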