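import Mathlib
import Cfsg.Agent.Lib.BlockAlg.Block
import Cfsg.Agent.Lib.BlockAlg.Ranks
import Cfsg.Agent.Lib.Blocks.BlockOrth
import Cfsg.Agent.Lib.Chars.Induced

/-!
# Ordinary multiplicities as dimensions in the block algebra

For linear characters of subgroups of order prime to `p` the corresponding idempotents live over
the local ring, and the inner products in the block of the multiplicity vectors are dimensions of
Peirce components of the block algebra.
-/

set_option autoImplicit false

namespace Cfsg.Agent.Lib.BlockAlg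

open Cfsg MonoidAlgebra
open Cfsg.Agent.Lib
open Cfsg.Agent.Lib.Blocks
open scoped ComplexConjugate

universe u

attribute [local instance] Classical.propDecidable

/-- A linear character of a subgroup of order prime to `p`. -/
structure LinPair (p : ℕ) (G : Type u) [Group G] where
  /-- The subgroup. -/
  A : Subgroup G
  /-- The linear character. -/
  μ : A →* ℂˣ
  hA : ¬ p ∣ Nat.card A

variable {G : Type u} [Group G] [Fintype G] {p : ℕ} [Fact p.Prime] {M : Ideal AlgInt} [M.IsPrime]
  (hM : IsPModular p M) {B : Set (IrrCharacter G)} (hB : IsPBlock M B)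

/-- The multiplicity of the linear character in the restriction of `f`. -/
noncomputable def mult (f : G → ℂ) (a : LinPair p G) : ℂ :=
  (Nat.card a.A : ℂ)⁻¹ * ∑ x : a.A, f x * conj ((a.μ x : ℂ))

omit [Fact p.Prime] in
theorem mult_eq_classInner (f : G → ℂ) (a : LinPair p G) :
    mult f a = classInner (fun x : a.A => f x) (fun x : a.A => (a.μ x : ℂ)) := rfl

omit [Fact p.Prime] in
theorem exists_nat_mult {f : G → ℂ} (hf : IsCharacter G f) (a : LinPair p G) :
    ∃ n : ℕ, mult f a = n :=
  Chars.isCharacter_classInner_nat (Chars.isCharacter_restrict a.A hf) (Chars.isCharacter_hom a.μ)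

omit [Fact p.Prime] in
theorem conj_mult_irr (χ : IrrCharacter G) (a : LinPair p G) :
    conj (mult (χ : G → ℂ) a) = mult (χ : G → ℂ) a := by
  obtain ⟨n, hn⟩ := exists_nat_mult (Chars.irr_isCharacter χ) a
  rw [hn, Complex.conj_natCast]

include hM in
omit [Fact p.Prime] in
theorem mem_localRing_weight (a : LinPair p G) (x : a.A) :
    (Nat.card a.A : ℂ)⁻¹ * conj ((a.μ x : ℂ)) ∈ localRing M :=
  Subring.mul_mem _ (inv_natCast_mem_localRing hM a.hA) (isIntegral_mem_localRing (by
    rw [← Chars.isCharacter_inv_apply (Chars.isCharacter_hom a.μ) x]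
    exact Chars.isCharacter_isIntegral (Chars.isCharacter_hom a.μ) x⁻¹))

omit [Fact p.Prime] in
include hM in
/-- The idempotent of a linear pair over the local ring. -/
theorem exists_linIdem (a : LinPair p G) : ∃ ε : MonoidAlgebra (localRing M) G,
    IsIdempotentElem ε ∧ ∀ (F : G → ℂ), ∑ g : G, ((ε.coeff g : localRing M) : ℂ) * F g = mult F a := by
  let w : a.A → localRing M := fun x => ⟨_, mem_localRing_weight hM a x⟩
  have hw : ∀ x y, w x * w y = (⟨_, inv_natCast_mem_localRing hM a.hA⟩ : localRing M) * w (x * y) :=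
    fun x y => Subtype.ext (by
      show (Nat.card a.A : ℂ)⁻¹ * conj ((a.μ x : ℂ)) * ((Nat.card a.A : ℂ)⁻¹ * conj ((a.μ y : ℂ))) =
        (Nat.card a.A : ℂ)⁻¹ * ((Nat.card a.A : ℂ)⁻¹ * conj ((a.μ (x * y) : ℂ)))
      rw [map_mul a.μ, Units.val_mul, map_mul]
      ring)
  refine ⟨∑ x : a.A, single (x : G) (w x), ?_, fun F => ?_⟩
  · show (∑ x : a.A, single (x : G) (w x)) * (∑ x : a.A, single (x : G) (w x)) = _
    simp only [Finset.sum_mul, Finset.mul_sum, single_mul_single, hw, ← Subgroup.coe_mul]
    rw [Finset.sum_comm]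
    refine (Finset.sum_congr rfl fun y _ => Fintype.sum_equiv (Equiv.mulLeft y) _
      (fun z : a.A => single (z : G) ((⟨_, inv_natCast_mem_localRing hM a.hA⟩ : localRing M) * w z))
      fun x => rfl).trans ?_
    rw [Finset.sum_const, Finset.card_univ, Finset.smul_sum]
    refine Finset.sum_congr rfl fun z _ => ?_
    rw [← Nat.cast_smul_eq_nsmul (localRing M), smul_single', ← mul_assoc]
    refine congrArg _ ?_
    refine Subtype.ext ?_
    show ((Fintype.card a.A : localRing M) : ℂ) * (Nat.card a.A : ℂ)⁻¹ * (w z : ℂ) = (w z : ℂ)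
    rw [← Nat.card_eq_fintype_card, Subring.coe_natCast,
      mul_inv_cancel₀ (Nat.cast_ne_zero.2 Nat.card_pos.ne'), one_mul]
  · rw [mult, Finset.mul_sum]
    simp only [MonoidAlgebra.coeff_sum, Finsupp.coe_finsetSum, Finset.sum_apply, coeff_single,
      Finsupp.single_apply]
    push_cast [apply_ite (fun z : localRing M => (z : ℂ)), Finset.sum_mul, ite_mul, zero_mul]
    rw [Finset.sum_comm]
    refine Finset.sum_congr rfl fun x _ => ?_
    rw [Finset.sum_ite_eq, if_pos (Finset.mem_univ _)]
    show (Nat.card a.A : ℂ)⁻¹ * conj ((a.μ x : ℂ)) * F x = _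
    ring

/-- The idempotent over the local ring. -/
noncomputable def linIdemR (a : LinPair p G) : MonoidAlgebra (localRing M) G :=
  (exists_linIdem hM a).choose

theorem linIdemR_isIdem (a : LinPair p G) : IsIdempotentElem (linIdemR hM a) :=
  (exists_linIdem hM a).choose_spec.1

theorem sum_linIdemR_mul (a : LinPair p G) (F : G → ℂ) :
    ∑ g : G, (((linIdemR hM a).coeff g : localRing M) : ℂ) * F g = mult F a :=
  (exists_linIdem hM a).choose_spec.2 F

/-- Its image in the block algebra. -/
noncomputable def linIdem (a : LinPair p G) : Alg hB := proj hB (toF M G (linIdemR hM a))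

theorem linIdem_isIdem (a : LinPair p G) : IsIdempotentElem (linIdem hM hB a) :=
  ((linIdemR_isIdem hM a).map (toF M G)).map (proj hB)

section Bimatrix

variable {R : Type*} [CommRing R]

/-- The matrix of two sided multiplication. -/
noncomputable def bimatrix (x y : MonoidAlgebra R G) : Matrix G G R :=
  fun g h => (x * single h 1 * y).coeff g

theorem bimatrix_mulVec (x y z : MonoidAlgebra R G) :
    (bimatrix x y).mulVec (Contrib.coeffEquiv R z) = Contrib.coeffEquiv R (x * z * y) := by
  induction z using MonoidAlgebra.induction_linear with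
  | zero => simp
  | add u v hu hv => rw [map_add, Matrix.mulVec_add, hu, hv, mul_add, add_mul, map_add]
  | single a r =>
    funext g
    have h : single a r = r • single a (1 : R) := by rw [smul_single', mul_one]
    simp only [Matrix.mulVec, dotProduct, bimatrix, Contrib.coeffEquiv_apply, coeff_single,
      Finsupp.single_apply, mul_ite, mul_zero, Finset.sum_ite_eq, Finset.mem_univ, if_true]
    rw [h, mul_smul_comm, smul_mul_assoc, coeff_smul, Finsupp.smul_apply, smul_eq_mul, mul_comm]

theorem bimatrix_mul_self {x y : MonoidAlgebra R G} (hx : x * x = x) (hy : y * y = y) :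
    bimatrix x y * bimatrix x y = bimatrix x y := by
  refine Matrix.ext_of_mulVec_single fun g => ?_
  rw [← Matrix.mulVec_mulVec, ← (Contrib.coeffEquiv R).apply_symm_apply (Pi.single g 1),
    bimatrix_mulVec, bimatrix_mulVec]
  congr 1
  calc x * (x * (Contrib.coeffEquiv R).symm (Pi.single g 1) * y) * y
      = (x * x) * (Contrib.coeffEquiv R).symm (Pi.single g 1) * (y * y) := by simp only [mul_assoc]
    _ = _ := by rw [hx, hy]

end Bimatrix

include hB in
/-- The coefficient of the product of a linear idempotent and the block idempotent. -/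
theorem coe_coeff_linIdemR_mul (a : LinPair p G) (u : G) :
    ((((linIdemR hM a) * ((blockIdem M hB : RCenter M G) : MonoidAlgebra (localRing M) G)).coeff u :
      localRing M) : ℂ) = mult (fun g => blockCoeff B (g⁻¹ * u)) a := by
  rw [← sum_linIdemR_mul hM a]
  set eR := ((blockIdem M hB : RCenter M G) : MonoidAlgebra (localRing M) G)
  conv_lhs => rw [← (linIdemR hM a).sum_coeff_single]
  rw [Finsupp.sum_fintype _ _ (fun g => by simp), Finset.sum_mul]
  simp only [MonoidAlgebra.coeff_sum, Finsupp.coe_finsetSum, Finset.sum_apply,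
    coeff_single_mul_apply]
  push_cast
  exact Finset.sum_congr rfl fun g _ => by rw [coe_coeff_blockIdem hB]

theorem sum_blockCoeff_conj_mul (x v : G) :
    ∑ g : G, blockCoeff B (x * (g * v * g⁻¹)) =
      ∑ χ ∈ B.toFinset, conj ((χ : G → ℂ) x) * conj ((χ : G → ℂ) v) := by
  simp only [blockCoeff_eq_sum, ← Finset.sum_filter]
  rw [← Finset.mul_sum, Finset.sum_comm, Finset.mul_sum]
  refine Finset.sum_congr (by ext; simp) fun χ _ => ?_
  rw [← Finset.mul_sum, ← map_sum, sum_irr_mul_conj]
  obtain ⟨hd, -, -⟩ := exists_degree_eq χ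
  have hne := Chars.irr_apply_one_ne_zero χ
  rw [map_div₀, map_mul, map_mul, Complex.conj_natCast, hd, Complex.conj_natCast]
  rw [hd] at hne
  have hG : (Nat.card G : ℂ) ≠ 0 := Nat.cast_ne_zero.2 Nat.card_pos.ne'
  field_simp

include hB in
/-- The trace of two sided multiplication in the block. -/
theorem coe_trace_bimatrix (a b : LinPair p G) :
    ((Matrix.trace (bimatrix ((linIdemR hM a) *
        ((blockIdem M hB : RCenter M G) : MonoidAlgebra (localRing M) G)) (linIdemR hM b)) :
      localRing M) : ℂ) = ∑ χ ∈ B.toFinset, mult (χ : G → ℂ) a * mult (χ : G → ℂ) b := by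
  set X := linIdemR hM a * ((blockIdem M hB : RCenter M G) : MonoidAlgebra (localRing M) G)
  have h1 : ((Matrix.trace (bimatrix X (linIdemR hM b)) : localRing M) : ℂ) =
      mult (fun v => ∑ g : G, ((X.coeff (g * v⁻¹ * g⁻¹) : localRing M) : ℂ)) b := by
    rw [← sum_linIdemR_mul hM b]
    simp only [Matrix.trace, Matrix.diag, bimatrix]
    conv_lhs => enter [1, 2, g]; rw [← (linIdemR hM b).sum_coeff_single,
      Finsupp.sum_fintype _ _ (fun v => by simp), Finset.mul_sum]
    simp only [MonoidAlgebra.coeff_sum, Finsupp.coe_finsetSum, Finset.sum_apply, coeff_mul_single_apply,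
      mul_one]
    push_cast
    rw [Finset.sum_comm]
    simp only [Finset.mul_sum]
    exact Finset.sum_congr rfl fun v _ => Finset.sum_congr rfl fun g _ => mul_comm _ _
  rw [h1]
  have h2 : ∀ v : G, ∑ g : G, ((X.coeff (g * v⁻¹ * g⁻¹) : localRing M) : ℂ) =
      ∑ χ ∈ B.toFinset, mult (χ : G → ℂ) a * (χ : G → ℂ) v := by
    intro v
    simp only [X, coe_coeff_linIdemR_mul hM hB a, mult]
    simp only [Finset.mul_sum, Finset.sum_mul]
    rw [Finset.sum_comm]
    conv_rhs => rw [Finset.sum_comm]
    refine Finset.sum_congr rfl fun x _ => ?_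
    rw [← Finset.mul_sum, ← Finset.sum_mul, sum_blockCoeff_conj_mul, Finset.sum_mul, Finset.mul_sum]
    refine Finset.sum_congr rfl fun χ _ => ?_
    rw [Chars.isCharacter_inv_apply (Chars.irr_isCharacter χ) (x : G),
      Chars.isCharacter_inv_apply (Chars.irr_isCharacter χ) v, Complex.conj_conj, Complex.conj_conj]
    ring
  simp only [h2, mult, Finset.sum_mul, Finset.mul_sum]
  rw [Finset.sum_comm]
  refine Finset.sum_congr rfl fun χ _ => Finset.sum_congr rfl fun y _ =>
    Finset.sum_congr rfl fun x _ => ?_
  ring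

theorem finrank_range_bimatrix {k : Type*} [Field k] (x y : MonoidAlgebra k G) :
    Module.finrank k (LinearMap.range (bimatrix x y).mulVecLin) =
      Module.finrank k (LinearMap.range
        ((LinearMap.mulLeft k x).comp (LinearMap.mulRight k y))) := by
  refine (LinearEquiv.finrank_eq (LinearEquiv.ofSubmodules (Contrib.coeffEquiv k) _ _ ?_)).symm
  ext v
  simp only [Submodule.mem_map, LinearMap.mem_range, Matrix.mulVecLin_apply]
  constructor
  · rintro ⟨_, ⟨z, rfl⟩, rfl⟩
    exact ⟨Contrib.coeffEquiv k z, by
      rw [LinearEquiv.coe_coe, bimatrix_mulVec]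
      exact congrArg _ (mul_assoc _ _ _)⟩
  · rintro ⟨w, rfl⟩
    exact ⟨x * ((Contrib.coeffEquiv k).symm w * y), ⟨_, rfl⟩, by
      rw [LinearEquiv.coe_coe, ← mul_assoc, ← bimatrix_mulVec, LinearEquiv.apply_symm_apply]⟩

include hB in
theorem peirceDim_proj {x y : MonoidAlgebra (Residue M) G} (hex : idem hB * x = x) :
    peirceDim (Residue M) (proj hB x) (proj hB y) =
      Module.finrank (Residue M) (LinearMap.range
        ((LinearMap.mulLeft (Residue M) x).comp (LinearMap.mulRight (Residue M) y))) := by
  have hfix : ∀ z : LinearMap.range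
      ((LinearMap.mulLeft (Residue M) x).comp (LinearMap.mulRight (Residue M) y)),
      idem hB * (z : MonoidAlgebra (Residue M) G) = z := by
    rintro ⟨_, w, rfl⟩
    show idem hB * (x * (w * y)) = x * (w * y)
    rw [← mul_assoc, hex]
  let Θ : LinearMap.range
      ((LinearMap.mulLeft (Residue M) x).comp (LinearMap.mulRight (Residue M) y)) →ₗ[Residue M]
      LinearMap.range ((LinearMap.mulLeft (Residue M) (proj hB x)).comp
        (LinearMap.mulRight (Residue M) (proj hB y))) :=
    LinearMap.codRestrict _ ((proj hB).toLinearMap.comp (Submodule.subtype _)) (by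
      rintro ⟨_, w, rfl⟩
      exact ⟨proj hB w, by
        show proj hB x * (proj hB w * proj hB y) = proj hB (x * (w * y))
        rw [map_mul, map_mul]⟩)
  rw [peirceDim]
  refine (LinearEquiv.ofBijective Θ ⟨fun z w hzw => Subtype.ext ?_, fun z => ?_⟩).finrank_eq.symm
  · have h' : proj hB (z : MonoidAlgebra (Residue M) G) = proj hB w := congrArg Subtype.val hzw
    rw [← sub_eq_zero, ← map_sub, proj_eq_zero_iff, mul_sub, hfix, hfix, sub_eq_zero] at h'
    exact h'
  · obtain ⟨_, w', rfl⟩ := z
    obtain ⟨w, rfl⟩ := proj_surjective hB w'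
    refine ⟨⟨x * (w * y), w, rfl⟩, Subtype.ext ?_⟩
    show proj hB (x * (w * y)) = proj hB x * (proj hB w * proj hB y)
    rw [map_mul, map_mul]

include hB in
/-- Inner products of multiplicity vectors in the block. -/
theorem sum_mult_mul_eq_peirceDim (a b : LinPair p G) :
    ∑ χ ∈ B.toFinset, mult (χ : G → ℂ) a * mult (χ : G → ℂ) b =
      (peirceDim (Residue M) (linIdem hM hB a) (linIdem hM hB b) : ℂ) := by
  set eR := ((blockIdem M hB : RCenter M G) : MonoidAlgebra (localRing M) G)
  have heR : eR * eR = eR := congrArg Subtype.val (blockIdem_mul_self hB)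
  have hc : ∀ z, eR * z = z * eR := fun z =>
    (Subalgebra.mem_center_iff.1 (blockIdem M hB).2 z).symm
  set X := linIdemR hM a * eR
  have hX : X * X = X := by
    show linIdemR hM a * eR * (linIdemR hM a * eR) = _
    rw [mul_assoc, ← mul_assoc eR, hc, mul_assoc _ eR eR, heR, ← mul_assoc,
      (linIdemR_isIdem hM a).eq]
  have : CharZero (localRing M) :=
    ⟨fun m n h => by exact_mod_cast congrArg (fun x : localRing M => (x : ℂ)) h⟩
  have hmap : (bimatrix X (linIdemR hM b)).map (residue M) =
      bimatrix (toF M G X) (toF M G (linIdemR hM b)) := by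
    ext g h
    show residue M ((X * single h 1 * linIdemR hM b).coeff g) = _
    simp only [bimatrix]
    rw [show single h (1 : Residue M) = toF M G (single h 1) by simp, ← map_mul, ← map_mul]
    rfl
  have h := congrArg (fun z : localRing M => (z : ℂ))
    (Contrib.trace_eq_rank_reduction (residue M) (bimatrix_mul_self hX (linIdemR_isIdem hM b)))
  simp only [Subring.coe_natCast] at h
  rw [coe_trace_bimatrix hM hB a b, hmap, finrank_range_bimatrix] at h
  rw [h]
  have hex : idem hB * toF M G X = toF M G X := by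
    show toF M G eR * toF M G (linIdemR hM a * eR) = toF M G (linIdemR hM a * eR)
    rw [← map_mul, ← mul_assoc, hc, mul_assoc, heR]
  rw [← peirceDim_proj hB hex]
  congr 2
  show proj hB (toF M G (linIdemR hM a * eR)) = proj hB (toF M G (linIdemR hM a))
  rw [map_mul, ← idem, ← idem_comm hB, proj_idem_mul]

end Cfsg.Agent.Lib.BlockAlg
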