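import Mathlib
import Cfsg.Agent.Lib.BlockAlg.Bimodule
import Cfsg.Agent.Lib.BrauerFeit.Orth
import Cfsg.Agent.Lib.BrauerFeit.RegGen
import Cfsg.Agent.Lib.BrauerInd.Nilpotent
import Cfsg.Agent.Lib.Chars.Completeness

/-!
# The irreducible Brauer characters of a block

The dual basis of the multiplicity vectors of the block algebra: class functions on the regular
elements spanning the regular parts of the block, which are integral combinations of the regular
parts of the members of the block, and whose values at one are the dimensions of the simple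
modules.
-/

set_option autoImplicit false

namespace Cfsg.Agent.Lib.BlockAlg

open Cfsg MonoidAlgebra
open Cfsg.Agent.Lib
open Cfsg.Agent.Lib.Blocks
open Cfsg.Agent.Lib.BrauerFeit (regCoef pRegularPart_apply)
open scoped ComplexConjugate

universe u

attribute [local instance] Classical.propDecidable

variable {G : Type u} [Group G] [Fintype G] {p : ℕ} [Fact p.Prime] {M : Ideal AlgInt} [M.IsPrime]
  (hM : IsPModular p M) {B : Set (IrrCharacter G)} (hB : IsPBlock M B)

variable (p B) in
/-- The span of the regular parts of the members of the block. -/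
noncomputable def regSpan : Submodule ℂ (G → ℂ) :=
  Submodule.span ℂ ((fun χ : IrrCharacter G => pRegularPart p (χ : G → ℂ)) '' B)

theorem classInner_self_eq_zero_iff {f : G → ℂ} (h : classInner f f = 0) : f = 0 := by
  rw [classInner, mul_eq_zero, inv_eq_zero] at h
  have h' := h.resolve_left Chars.natCard_ne_zero
  simp only [Complex.mul_conj] at h'
  have h'' : ∑ g : G, Complex.normSq (f g) = 0 := by exact_mod_cast h'
  exact funext fun g => Complex.normSq_eq_zero.1
    ((Finset.sum_eq_zero_iff_of_nonneg fun g _ => Complex.normSq_nonneg _).1 h'' g (Finset.mem_univ _))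

omit [Fintype G] [Fact p.Prime] in
theorem regular_of_mem_regSpan {y : G → ℂ} (hy : y ∈ regSpan p B) (g : G) (hg : p ∣ orderOf g) :
    y g = 0 := by
  induction hy using Submodule.span_induction with
  | mem x hx => obtain ⟨χ, -, rfl⟩ := hx; simp [pRegularPart_apply, hg]
  | zero => rfl
  | add x z _ _ h1 h2 => simp [h1, h2]
  | smul c x _ h1 => simp [h1]

omit [Fintype G] [Fact p.Prime] in
theorem classFunction_of_mem_regSpan {y : G → ℂ} (hy : y ∈ regSpan p B) :
    IsClassFunction G y := by
  induction hy using Submodule.span_induction with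
  | mem x hx =>
    obtain ⟨χ, -, rfl⟩ := hx
    exact BrauerFeit.isClassFunction_pRegularPart p (Chars.irr_isClassFunction χ)
  | zero => exact Chars.isClassFunction_zero
  | add x z _ _ h1 h2 => exact Chars.isClassFunction_add h1 h2
  | smul c x _ h1 => exact Chars.isClassFunction_smul c h1

include hM hB in
theorem classInner_eq_zero_of_mem_regSpan {y : G → ℂ} (hy : y ∈ regSpan p B) {ψ : IrrCharacter G}
    (hψ : ψ ∉ B) : classInner y (ψ : G → ℂ) = 0 := by
  induction hy using Submodule.span_induction with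
  | mem x hx =>
    obtain ⟨χ, hχ, rfl⟩ := hx
    exact BrauerFeit.regCoef_eq_zero_of_not_mem (BrauerFeit.regOrth hM) hB hχ hψ
  | zero => simp [classInner]
  | add x z _ _ h1 h2 => rw [Chars.classInner_add_left, h1, h2, add_zero]
  | smul c x _ h1 => rw [Chars.classInner_smul_left, h1, mul_zero]

omit [M.IsPrime] [Fact p.Prime] in
/-- A combination of regular parts only sees the block. -/
theorem sum_regPart_eq (w : IrrCharacter G → ℂ) (ψ : IrrCharacter G) :
    classInner (∑ χ : IrrCharacter G, w χ • pRegularPart p (χ : G → ℂ)) (ψ : G → ℂ) =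
      ∑ χ : IrrCharacter G, w χ * regCoef p χ ψ := by
  rw [Chars.classInner_sum_left]
  exact Finset.sum_congr rfl fun χ _ => Chars.classInner_smul_left _ _ _

include hM hB in
/-- A class function in the span is the block part of any expression by regular parts. -/
theorem eq_block_sum {y : G → ℂ} (hy : y ∈ regSpan p B) (w : IrrCharacter G → ℂ)
    (h : y = ∑ χ : IrrCharacter G, w χ • pRegularPart p (χ : G → ℂ)) :
    y = ∑ χ ∈ B.toFinset, w χ • pRegularPart p (χ : G → ℂ) := by
  refine Chars.isClassFunction_ext_classInner (classFunction_of_mem_regSpan hy)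
    (Chars.isClassFunction_sum _ fun χ _ => Chars.isClassFunction_smul _
      (BrauerFeit.isClassFunction_pRegularPart p (Chars.irr_isClassFunction χ))) fun ψ => ?_
  rw [Chars.classInner_sum_left]
  simp only [Chars.classInner_smul_left]
  by_cases hψ : ψ ∈ B
  · conv_lhs => rw [h, sum_regPart_eq]
    refine (Finset.sum_subset (Finset.subset_univ _) fun χ _ hχ => ?_).symm
    rw [BrauerFeit.regCoef_comm, BrauerFeit.regCoef_eq_zero_of_not_mem (BrauerFeit.regOrth hM) hB hψ
      (by simpa using hχ), mul_zero]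
  · rw [classInner_eq_zero_of_mem_regSpan hM hB hy hψ]
    refine (Finset.sum_eq_zero fun χ hχ => ?_).symm
    rw [show classInner (pRegularPart p (χ : G → ℂ)) (ψ : G → ℂ) = regCoef p χ ψ from rfl,
      BrauerFeit.regCoef_eq_zero_of_not_mem (BrauerFeit.regOrth hM) hB (by simpa using hχ) hψ,
      mul_zero]

/-- The part in the block of an induced linear character. -/
noncomputable def psi (B : Set (IrrCharacter G)) (a : LinPair p G) : G → ℂ :=
  ∑ χ ∈ B.toFinset, mult (χ : G → ℂ) a • (χ : G → ℂ)

omit [Fact p.Prime] in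
theorem classInner_irr_indFun (χ : IrrCharacter G) (a : LinPair p G) :
    classInner (indFun a.A (fun x : a.A => (a.μ x : ℂ))) (χ : G → ℂ) = mult (χ : G → ℂ) a := by
  rw [← Chars.conj_classInner, Chars.classInner_indFun_right a.A _ _ (Chars.irr_isClassFunction χ)]
  exact conj_mult_irr χ a

omit [Fact p.Prime] in
theorem indFun_regular (a : LinPair p G) (g : G) (hg : p ∣ orderOf g) :
    indFun a.A (fun x : a.A => (a.μ x : ℂ)) g = 0 := by
  rw [indFun, Finset.sum_eq_zero, mul_zero]
  intro x _
  refine Chars.extendByZero_of_not_mem _ fun hx => a.hA ?_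
  have hord : orderOf (x⁻¹ * g * x) = orderOf g := by
    simpa using orderOf_injective (MulAut.conj x⁻¹).toMonoidHom (MulAut.conj x⁻¹).injective g
  exact (hord ▸ hg).trans (Subgroup.orderOf_dvd_natCard a.A hx)

include hM hB in
theorem psi_eq_regSum (a : LinPair p G) :
    psi B a = ∑ χ ∈ B.toFinset, mult (χ : G → ℂ) a • pRegularPart p (χ : G → ℂ) := by
  set f := indFun a.A (fun x : a.A => (a.μ x : ℂ))
  have hf : IsClassFunction G f := Chars.isClassFunction_indFun _ _
  have hfs : f = ∑ χ : IrrCharacter G, mult (χ : G → ℂ) a • pRegularPart p (χ : G → ℂ) := by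
    funext g
    simp only [Finset.sum_apply, Pi.smul_apply, smul_eq_mul, pRegularPart_apply]
    by_cases hg : p ∣ orderOf g
    · simp only [hg, if_true, mul_zero, Finset.sum_const_zero]
      exact indFun_regular a g hg
    · simp only [hg, if_false]
      rw [Chars.isClassFunction_apply_eq_sum_classInner hf g]
      exact Finset.sum_congr rfl fun χ _ => by rw [classInner_irr_indFun]
  refine Chars.isClassFunction_ext_classInner
    (Chars.isClassFunction_sum _ fun χ _ => Chars.isClassFunction_smul _ (Chars.irr_isClassFunction χ))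
    (Chars.isClassFunction_sum _ fun χ _ => Chars.isClassFunction_smul _
      (BrauerFeit.isClassFunction_pRegularPart p (Chars.irr_isClassFunction χ))) fun ψ => ?_
  rw [psi, Chars.classInner_sum_left, Chars.classInner_sum_left]
  simp only [Chars.classInner_smul_left, Chars.classInner_irr, mul_ite, mul_one, mul_zero,
    Finset.sum_ite_eq', Set.mem_toFinset]
  split_ifs with hψ
  · have h : classInner f (ψ : G → ℂ) = ∑ χ ∈ B.toFinset, mult (χ : G → ℂ) a * regCoef p χ ψ := by
      conv_lhs => rw [hfs, sum_regPart_eq]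
      refine (Finset.sum_subset (Finset.subset_univ _) fun χ _ hχ => ?_).symm
      rw [BrauerFeit.regCoef_comm, BrauerFeit.regCoef_eq_zero_of_not_mem (BrauerFeit.regOrth hM) hB
        hψ (by simpa using hχ), mul_zero]
    rw [classInner_irr_indFun] at h
    exact h
  · refine (Finset.sum_eq_zero fun χ hχ => ?_).symm
    rw [show classInner (pRegularPart p (χ : G → ℂ)) (ψ : G → ℂ) = regCoef p χ ψ from rfl,
      BrauerFeit.regCoef_eq_zero_of_not_mem (BrauerFeit.regOrth hM) hB (by simpa using hχ) hψ,
      mul_zero]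

include hM hB in
theorem psi_mem_regSpan (a : LinPair p G) : psi B a ∈ regSpan p B := by
  rw [psi_eq_regSum hM hB]
  exact Submodule.sum_mem _ fun χ hχ =>
    Submodule.smul_mem _ _ (Submodule.subset_span ⟨χ, Set.mem_toFinset.1 hχ, rfl⟩)

include hM hB in
theorem mult_eq_classInner_psi {y : G → ℂ} (hy : y ∈ regSpan p B) (a : LinPair p G) :
    mult y a = classInner y (psi B a) := by
  rw [mult_eq_classInner, ← Chars.classInner_indFun_right a.A _ _ (classFunction_of_mem_regSpan hy),
    Chars.classInner_eq_sum_mul_conj (classFunction_of_mem_regSpan hy)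
      (Chars.isClassFunction_indFun _ _), psi, Chars.classInner_sum_right]
  simp only [classInner_irr_indFun, conj_mult_irr, Chars.classInner_smul_right]
  refine (Finset.sum_subset (Finset.subset_univ B.toFinset) fun χ _ hχ => ?_).symm.trans
    (Finset.sum_congr rfl fun χ _ => by rw [mul_comm])
  rw [classInner_eq_zero_of_mem_regSpan hM hB hy (by simpa using hχ), zero_mul]

omit [Fact p.Prime] in
/-- The linear pairs separate the functions in the span. -/
theorem eq_zero_of_mult_eq_zero {y : G → ℂ} (hy : y ∈ regSpan p B)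
    (h : ∀ a : LinPair p G, mult y a = 0) : y = 0 := by
  funext g
  by_cases hg : p ∣ orderOf g
  · exact regular_of_mem_regSpan hy g hg
  · set A := Subgroup.zpowers g
    have hA : ¬ p ∣ Nat.card A := by rwa [Nat.card_zpowers]
    have hcomm : IsMulCommutative A := inferInstance
    have hf : IsClassFunction A (fun x : A => y x) := fun x z => by
      have := hcomm.is_comm.comm z x
      show y ((z * x * z⁻¹ : A) : G) = y x
      rw [this, mul_assoc, mul_inv_cancel, mul_one]
    have h0 := Chars.eq_zero_of_forall_classInner_eq_zero hf fun χ => by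
      obtain ⟨μ, hμ⟩ := Chars.exists_hom_of_degree_one (Chars.irr_isCharacter χ)
        (Chars.irr_apply_one_of_comm χ)
      have h' := h ⟨A, μ, hA⟩
      rw [mult_eq_classInner] at h'
      rw [hμ]
      exact h'
    exact congrFun h0 ⟨g, Subgroup.mem_zpowers g⟩

omit [Fact p.Prime] in
theorem classInner_psi_psi (a b : LinPair p G) :
    classInner (psi B a) (psi B b) =
      ∑ χ ∈ B.toFinset, mult (χ : G → ℂ) a * mult (χ : G → ℂ) b := by
  rw [psi, psi, Chars.classInner_sum_left]
  refine Finset.sum_congr rfl fun χ hχ => ?_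
  rw [Chars.classInner_smul_left, Chars.classInner_sum_right,
    Finset.sum_eq_single χ]
  · rw [Chars.classInner_smul_right, Chars.classInner_irr_self, mul_one, conj_mult_irr]
  · intro ψ _ hne
    rw [Chars.classInner_smul_right, Chars.classInner_irr_of_ne hne.symm, mul_zero]
  · exact fun hn => absurd hχ hn

/-- The bilinear pairing of a function with the conjugates. -/
noncomputable def biPair : (G → ℂ) →ₗ[ℂ] (G → ℂ) →ₗ[ℂ] ℂ :=
  LinearMap.mk₂ ℂ (fun y z => (Nat.card G : ℂ)⁻¹ * ∑ g : G, y g * z g)
    (fun y y' z => by simp [add_mul, Finset.sum_add_distrib, mul_add])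
    (fun c y z => by simp [Finset.mul_sum, mul_left_comm, mul_assoc])
    (fun y z z' => by simp [mul_add, Finset.sum_add_distrib])
    (fun c y z => by simp [Finset.mul_sum, mul_left_comm])

theorem biPair_conj (y z : G → ℂ) : biPair y (fun g => conj (z g)) = classInner y z := rfl

include hM hB in
/-- The dual basis in the span of the regular parts. -/
theorem exists_dual {m : ℕ} (d : Fin m → ℕ)
    (P : Alg hB →ₐ[Residue M] ∀ a, Matrix (Fin (d a)) (Fin (d a)) (Residue M))
    (hd : ∀ a, 0 < d a) (hP : Function.Surjective P) (hker : ∀ x, P x = 0 → IsNilpotent x) :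
    m = blockRank p B ∧ ∃ φ : Fin m → G → ℂ, (∀ b, φ b ∈ regSpan p B) ∧
      LinearIndependent ℂ φ ∧
      ∀ b (a : LinPair p G), mult (φ b) a = ((P (linIdem hM hB a) b).rank : ℂ) := by
  obtain ⟨i, hi, -, hC⟩ := exists_cartan d hd P hP hker
  let n : LinPair p G → Fin m → ℂ := fun a b => ((P (linIdem hM hB a) b).rank : ℂ)
  let Λ : (LinPair p G →₀ ℂ) →ₗ[ℂ] (Fin m → ℂ) := Finsupp.linearCombination ℂ n
  let T' : (LinPair p G →₀ ℂ) →ₗ[ℂ] (G → ℂ) :=
    Finsupp.linearCombination ℂ fun a => fun g => conj (psi B a g)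
  have hgram : ∀ a b, classInner (psi B a) (psi B b) =
      ∑ α, ∑ β, n a α * n b β * (peirceDim (Residue M) (i α) (i β) : ℂ) := fun a b => by
    rw [classInner_psi_psi, sum_mult_mul_eq_peirceDim hM hB,
      hC _ _ (linIdem_isIdem hM hB a) (linIdem_isIdem hM hB b)]
    push_cast
    rfl
  have hker' : LinearMap.ker Λ ≤ LinearMap.ker T' := by
    intro c hc
    rw [LinearMap.mem_ker] at hc ⊢
    have hT : T' c = fun g => conj ((∑ a ∈ c.support, conj (c a) • psi B a) g) := funext fun g => by
      simp [T', Finsupp.linearCombination_apply, Finsupp.sum, Finset.sum_apply, map_sum]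
    have hc' : ∀ β, ∑ a ∈ c.support, conj (c a) * n a β = 0 := fun β => by
      have h := congrArg (fun f : Fin m → ℂ => conj (f β)) hc
      simpa [Λ, n, Finsupp.linearCombination_apply, Finsupp.sum, Finset.sum_apply, map_sum] using h
    have h0 : classInner (∑ a ∈ c.support, conj (c a) • psi B a)
        (∑ a ∈ c.support, conj (c a) • psi B a) = 0 := by
      rw [Chars.classInner_sum_left]
      have hterm : ∀ a, classInner (conj (c a) • psi B a) (∑ b ∈ c.support, conj (c b) • psi B b) =
          ∑ α, conj (c a) * n a α * ∑ b ∈ c.support, ∑ β,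
            c b * n b β * (peirceDim (Residue M) (i α) (i β) : ℂ) := fun a => by
        simp only [Chars.classInner_smul_left, Chars.classInner_sum_right,
          Chars.classInner_smul_right, Complex.conj_conj, hgram, Finset.mul_sum]
        rw [Finset.sum_comm]
        exact Finset.sum_congr rfl fun α _ => Finset.sum_congr rfl fun b _ =>
          Finset.sum_congr rfl fun β _ => by ring
      rw [Finset.sum_congr rfl fun a _ => hterm a, Finset.sum_comm]
      refine Finset.sum_eq_zero fun α _ => ?_
      rw [← Finset.sum_mul, hc' α, zero_mul]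
    rw [hT, classInner_self_eq_zero_iff h0]
    funext g
    simp
  let emb : regSpan p B →ₗ[ℂ] Module.Dual ℂ (LinearMap.range T') :=
    { toFun := fun y => (biPair (y : G → ℂ)).comp (Submodule.subtype _)
      map_add' := fun y z => by ext w; simp
      map_smul' := fun c y => by ext w; simp }
  have hmult : ∀ (y : regSpan p B) (a : LinPair p G),
      mult (y : G → ℂ) a = biPair (y : G → ℂ) (T' (Finsupp.single a 1)) := fun y a => by
    rw [mult_eq_classInner_psi hM hB y.2, ← biPair_conj]
    simp [T']
  have hemb : Function.Injective emb := by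
    rw [← LinearMap.ker_eq_bot, eq_bot_iff]
    intro y hy
    refine (Submodule.mem_bot ℂ).2 (Subtype.ext (eq_zero_of_mult_eq_zero y.2 fun a => ?_))
    rw [hmult]
    exact LinearMap.congr_fun (LinearMap.mem_ker.1 hy) ⟨_, LinearMap.mem_range_self T' _⟩
  have hrank : Module.finrank ℂ (regSpan p B) = blockRank p B := rfl
  have hle1 : blockRank p B ≤ Module.finrank ℂ (LinearMap.range T') := by
    rw [← hrank, ← Subspace.dual_finrank_eq (V := LinearMap.range T')]
    exact LinearMap.finrank_le_finrank_of_injective (f := emb) hemb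
  obtain ⟨Φ, hΦ⟩ : ∃ Φ : LinearMap.range Λ →ₗ[ℂ] (G → ℂ), ∀ c, Φ (Λ.rangeRestrict c) = T' c := by
    refine ⟨((LinearMap.ker Λ).liftQ T' hker').comp Λ.quotKerEquivRange.symm.toLinearMap,
      fun c => ?_⟩
    have h1 : Λ.quotKerEquivRange.symm (Λ.rangeRestrict c) = Submodule.Quotient.mk c :=
      (LinearEquiv.symm_apply_eq _).2 (Subtype.ext (Λ.quotKerEquivRange_apply_mk c).symm)
    simp [h1]
  have hle2 : Module.finrank ℂ (LinearMap.range T') ≤ Module.finrank ℂ (LinearMap.range Λ) := by
    refine (Submodule.finrank_mono (t := LinearMap.range Φ) ?_).trans (LinearMap.finrank_range_le Φ)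
    rintro _ ⟨c, rfl⟩
    exact ⟨_, hΦ c⟩
  have hle3 : m ≤ blockRank p B := card_factors_le hB hM d P hd hP
  have hle4 : Module.finrank ℂ (LinearMap.range Λ) ≤ m :=
    (Submodule.finrank_le _).trans (by simp)
  have hm : m = blockRank p B := le_antisymm hle3 (hle1.trans (hle2.trans hle4))
  have hsurj : Function.Surjective Λ := by
    refine LinearMap.range_eq_top.1 (Submodule.eq_top_of_finrank_eq ?_)
    rw [Module.finrank_fintype_fun_eq_card, Fintype.card_fin]
    omega
  choose c hc using fun β : Fin m => hsurj (Pi.single β 1)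
  let L : regSpan p B →ₗ[ℂ] (Fin m → ℂ) :=
    LinearMap.pi fun β => ((biPair.flip (T' (c β))).comp (Submodule.subtype _))
  have hLmult : ∀ (y : regSpan p B) a, mult (y : G → ℂ) a = ∑ β, n a β * L y β := by
    intro y a
    have h0 : Finsupp.single a 1 - ∑ β, n a β • c β ∈ LinearMap.ker Λ := by
      rw [LinearMap.mem_ker, map_sub, map_sum]
      simp only [map_smul, hc, Λ, Finsupp.linearCombination_single, one_smul]
      funext β
      simp [Finset.sum_apply, Pi.single_apply]
    have h1 := hker' h0
    rw [LinearMap.mem_ker, map_sub, sub_eq_zero] at h1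
    rw [hmult, h1, map_sum, map_sum]
    refine Finset.sum_congr rfl fun β _ => ?_
    rw [map_smul, map_smul, smul_eq_mul]
    rfl
  have hLinj : Function.Injective L := by
    rw [← LinearMap.ker_eq_bot, eq_bot_iff]
    intro y hy
    refine (Submodule.mem_bot ℂ).2 (Subtype.ext (eq_zero_of_mult_eq_zero y.2 fun a => ?_))
    rw [hLmult, LinearMap.mem_ker.1 hy]
    simp
  have hLsurj : Function.Surjective L :=
    (LinearMap.injective_iff_surjective_of_finrank_eq_finrank (by
      rw [hrank, Module.finrank_fintype_fun_eq_card, Fintype.card_fin, hm])).1 hLinj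
  let E := LinearEquiv.ofBijective L ⟨hLinj, hLsurj⟩
  refine ⟨hm, fun β => ((E.symm (Pi.single β 1) : regSpan p B) : G → ℂ), fun β => Subtype.coe_prop _,
    ?_, fun β a => ?_⟩
  · simpa [Function.comp_def] using
      ((Pi.basisFun ℂ (Fin m)).linearIndependent.map' E.symm.toLinearMap E.symm.ker).map'
        (Submodule.subtype _) (Submodule.ker_subtype _)
  · rw [hLmult]
    have : L (E.symm (Pi.single β 1)) = Pi.single β 1 := E.apply_symm_apply _
    rw [this]
    simp [Pi.single_apply, n]

section Lift

/-- The `p`-regular part of an element. -/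
noncomputable def regOf (p : ℕ) [Fact p.Prime] (g : G) : G := (g ^ pPartExp G p)⁻¹ * g

theorem regOf_spec (g : G) : ¬ p ∣ orderOf (regOf p g) ∧
    ∃ k, orderOf (g ^ pPartExp G p) = p ^ k := by
  obtain ⟨y, hy, -, hu, hy'⟩ := isPPart_iff.2 (rfl : g ^ pPartExp G p = _)
  refine ⟨?_, hu⟩
  rwa [show regOf p g = y by
    rw [regOf]
    conv_lhs => arg 2; rw [← hy]
    rw [inv_mul_cancel_left]]

theorem regOf_of_regular {g : G} (hg : ¬ p ∣ orderOf g) : regOf p g = g := by
  rw [regOf, pow_pPartExp_of_pRegular hg, inv_one, one_mul]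

theorem regOf_conj (g h : G) : regOf p (h * g * h⁻¹) = h * regOf p g * h⁻¹ := by
  rw [regOf, regOf, conj_pow]
  group

/-- In an elementary subgroup the regular part is a homomorphism onto the `p`-complement. -/
theorem exists_regOf_hom (E : Subgroup G) {q : ℕ} (hq : q.Prime) (hE : IsElementary q E) :
    ∃ (L : Subgroup G) (ρ : E →* L), ¬ p ∣ Nat.card L ∧ ∀ e : E, (ρ e : G) = regOf p (e : G) := by
  have hnil := BrauerInd.isNilpotent_of_isElementary hq hE
  obtain ⟨L, hLn, hLp, k, hk⟩ := BrauerFeit.exists_pComplement_of_isElementary p hq hE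
  obtain ⟨Q⟩ : Nonempty (Sylow p E) := inferInstance
  have hQn : (Q : Subgroup E).Normal := inferInstance
  have hPQ : ∀ u : E, (∃ k, orderOf u = p ^ k) → u ∈ (Q : Subgroup E) := by
    rintro u ⟨k, hk⟩
    have hu : IsPGroup p (Subgroup.zpowers u) := IsPGroup.of_card (n := k) (by
      rw [Nat.card_zpowers, hk])
    exact sup_eq_right.1 (Q.is_maximal' (hu.to_sup_of_normal_right Q.isPGroup') le_sup_right)
      (Subgroup.mem_zpowers u)
  have hdisj : ∀ u : E, u ∈ (Q : Subgroup E) → u ∈ L → u = 1 := by
    intro u hu1 hu2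
    obtain ⟨j, hj⟩ := IsPGroup.iff_orderOf.1 Q.isPGroup' ⟨u, hu1⟩
    rw [Subgroup.orderOf_mk] at hj
    rcases j with _ | j
    · exact orderOf_eq_one_iff.1 (by simpa using hj)
    · exact absurd ((hj ▸ dvd_pow_self p j.succ_ne_zero).trans (Subgroup.orderOf_dvd_natCard L hu2))
        hLp
  have hL : ∀ e : E, ¬ p ∣ orderOf e → e ∈ L := by
    intro e he
    rw [← QuotientGroup.eq_one_iff (N := L), ← orderOf_eq_one_iff]
    have h1 : orderOf (e : E ⧸ L) ∣ orderOf e := orderOf_map_dvd (QuotientGroup.mk' L) e
    have h2 : orderOf (e : E ⧸ L) ∣ p ^ k := by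
      rw [← hk, Subgroup.index]
      exact orderOf_dvd_natCard _
    exact Nat.eq_one_of_dvd_coprimes (((Fact.out : p.Prime).coprime_iff_not_dvd.2 he).symm.pow_right k)
      h1 h2
  let q' : E → E := fun e => (e ^ pPartExp G p)⁻¹ * e
  have hq' : ∀ e : E, ((q' e : E) : G) = regOf p (e : G) := fun e => by
    simp [q', regOf]
  have hq'L : ∀ e, q' e ∈ L := fun e => hL _ (by
    rw [← Subgroup.orderOf_coe, hq']; exact (regOf_spec (e : G)).1)
  have hq'Q : ∀ e : E, e * (q' e)⁻¹ ∈ (Q : Subgroup E) := fun e => by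
    have : e * (q' e)⁻¹ = e ^ pPartExp G p := by simp [q']
    rw [this]
    refine hPQ _ ?_
    rw [← Subgroup.orderOf_coe, SubmonoidClass.coe_pow]
    exact (regOf_spec (e : G)).2
  have hmul : ∀ x z, q' (x * z) = q' x * q' z := fun x z => by
    have h1 := hq'Q (x * z)
    have h2 : x * z * (q' x * q' z)⁻¹ ∈ (Q : Subgroup E) := by
      have : x * z * (q' x * q' z)⁻¹ = (x * (z * (q' z)⁻¹) * x⁻¹) * (x * (q' x)⁻¹) := by group
      rw [this]
      exact Subgroup.mul_mem _ (hQn.conj_mem _ (hq'Q z) x) (hq'Q x)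
    have h3 := Subgroup.mul_mem _ (Subgroup.inv_mem _ h2) h1
    rw [show (x * z * (q' x * q' z)⁻¹)⁻¹ * (x * z * (q' (x * z))⁻¹) =
      q' x * q' z * (q' (x * z))⁻¹ by group] at h3
    exact (mul_inv_eq_one.1 (hdisj _ h3
      (L.mul_mem (L.mul_mem (hq'L x) (hq'L z)) (L.inv_mem (hq'L _))))).symm
  refine ⟨L.map E.subtype, MonoidHom.mk' (fun e => ⟨(q' e : G), _, hq'L e, rfl⟩)
    (fun x z => Subtype.ext ?_), ?_, fun e => hq' e⟩
  · show ((q' (x * z) : E) : G) = _
    rw [hmul]
    rfl
  · rwa [Subgroup.card_map_of_injective E.subtype_injective]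

end Lift

include hM hB in
/-- A function in the span with integral multiplicities is an integral combination of the regular
parts of the block. -/
theorem exists_int_combination {φ : G → ℂ} (hφ : φ ∈ regSpan p B)
    (hint : ∀ a : LinPair p G, ∃ z : ℤ, mult φ a = z) :
    ∃ c : IrrCharacter G → ℤ, φ = ∑ χ ∈ B.toFinset, (c χ : ℂ) • pRegularPart p (χ : G → ℂ) := by
  have hcf := classFunction_of_mem_regSpan hφ
  have hL : ∀ L : Subgroup G, ¬ p ∣ Nat.card L →
      IsGeneralizedCharacter L (fun x : L => φ x) := by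
    intro L hLp
    have : Fintype L := Fintype.ofFinite _
    have hcfL : IsClassFunction L (fun x : L => φ x) := fun x z => hcf x z
    refine Chars.isGeneralizedCharacter_of_classInner_int hcfL fun lam => ?_
    suffices h : ∀ f ∈ BrauerInd.linSpan (G := L) Nat.Prime,
        ∃ z : ℤ, classInner (fun x : L => φ x) f = z from
      h _ (BrauerInd.isCharacter_mem_linSpan (Chars.irr_isCharacter lam))
    intro f hf
    induction hf using AddSubgroup.closure_induction with
    | mem f hf =>
      obtain ⟨E, ν, -, rfl⟩ := hf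
      have : Fintype E := Fintype.ofFinite _
      have hE : ¬ p ∣ Nat.card (E.map L.subtype) := fun h =>
        hLp (h.trans (by
          rw [Subgroup.card_map_of_injective L.subtype_injective]
          exact Subgroup.card_subgroup_dvd_card E))
      let e := E.equivMapOfInjective L.subtype L.subtype_injective
      obtain ⟨z, hz⟩ := hint ⟨E.map L.subtype, ν.comp e.symm.toMonoidHom, hE⟩
      refine ⟨z, ?_⟩
      rw [Chars.classInner_indFun_right E _ _ hcfL, ← hz]
      unfold mult classInner
      rw [Nat.card_congr e.toEquiv]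
      congr 1
      exact Fintype.sum_equiv e.toEquiv _ _ fun x => by
        show φ x * conj ((ν x : ℂ)) = φ (e x : G) * conj ((ν (e.symm (e x)) : ℂ))
        rw [e.symm_apply_apply]
        rfl
    | zero => exact ⟨0, by simp [classInner]⟩
    | add a b _ _ h1 h2 =>
      obtain ⟨z1, h1⟩ := h1
      obtain ⟨z2, h2⟩ := h2
      exact ⟨z1 + z2, by rw [Chars.classInner_add_right, h1, h2, Int.cast_add]⟩
    | neg a _ h1 =>
      obtain ⟨z1, h1⟩ := h1
      exact ⟨-z1, by
        rw [← neg_one_smul ℂ a, Chars.classInner_smul_right, h1]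
        simp⟩
  have hgen : IsGeneralizedCharacter G (fun g => φ (regOf p g)) := by
    refine BrauerInd.isGeneralizedCharacter_of_elementary
      (fun g h => by show φ (regOf p (h * g * h⁻¹)) = _; rw [regOf_conj, hcf]) fun E q hq hE => ?_
    obtain ⟨L, ρ, hLp, hρ⟩ := exists_regOf_hom (p := p) E hq hE
    obtain ⟨a, b, ha, hb, hab⟩ := hL L hLp
    refine ⟨_, _, Chars.isCharacter_comp ρ ha, Chars.isCharacter_comp ρ hb, funext fun e => ?_⟩
    show φ (regOf p (e : G)) = a (ρ e) - b (ρ e)
    rw [← hρ]
    exact congrFun hab (ρ e)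
  choose c hc using fun χ : IrrCharacter G => Chars.isGeneralizedCharacter_classInner_int hgen
    (Chars.isGeneralizedCharacter_of_isCharacter (Chars.irr_isCharacter χ))
  refine ⟨c, eq_block_sum hM hB hφ (fun χ => (c χ : ℂ)) (funext fun g => ?_)⟩
  simp only [Finset.sum_apply, Pi.smul_apply, smul_eq_mul, pRegularPart_apply]
  by_cases hg : p ∣ orderOf g
  · simp [hg, regular_of_mem_regSpan hφ g hg]
  · simp only [hg, if_false, ← hc]
    rw [← Chars.isClassFunction_apply_eq_sum_classInner
      (Chars.isClassFunction_of_isGeneralizedCharacter hgen) g, regOf_of_regular hg]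

omit [Fact p.Prime] in
theorem mult_bot (F : G → ℂ) (a : LinPair p G) (ha : a.A = ⊥) : mult F a = F 1 := by
  rw [mult, Finset.sum_eq_single (1 : a.A)
      (fun x _ hx => absurd (Subtype.ext (Subgroup.mem_bot.1 (ha ▸ x.2))) hx)
      (fun hn => absurd (Finset.mem_univ _) hn)]
  have hc : Nat.card a.A = 1 := by rw [ha, Subgroup.card_bot]
  rw [hc]
  simp

/-- The trivial pair gives the identity. -/
theorem linIdem_trivial (h : ¬ p ∣ Nat.card (⊥ : Subgroup G)) :
    linIdem hM hB (⟨⊥, 1, h⟩ : LinPair p G) = 1 := by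
  have hF : ∀ F : G → ℂ, mult F (⟨⊥, 1, h⟩ : LinPair p G) = F 1 := fun F => mult_bot F _ rfl
  have h1 : linIdemR hM (⟨⊥, 1, h⟩ : LinPair p G) = 1 := by
    refine MonoidAlgebra.ext (Finsupp.ext fun g => Subtype.ext ?_)
    have h2 := sum_linIdemR_mul hM (⟨⊥, 1, h⟩ : LinPair p G) (fun x => if x = g then 1 else 0)
    rw [hF] at h2
    simp only [mul_ite, mul_one, mul_zero, Finset.sum_ite_eq', Finset.mem_univ, if_true] at h2
    rw [h2, one_def, coeff_single, Finsupp.single_apply]
    split_ifs <;> simp
  rw [linIdem, h1, map_one, map_one]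

include hM in
/-- The simple modules of a block: their dimensions `d`, the dimensions `r` of their projective
covers, and their Brauer characters `φ`. -/
theorem exists_brauer_data [M.IsMaximal] (hB : IsPBlock M B) :
    ∃ (d r : Fin (blockRank p B) → ℕ) (φ : Fin (blockRank p B) → G → ℂ),
      (∀ b, φ b ∈ regSpan p B) ∧ LinearIndependent ℂ φ ∧
      (∀ b, ∃ c : IrrCharacter G → ℤ,
        φ b = ∑ χ ∈ B.toFinset, (c χ : ℂ) • pRegularPart p (χ : G → ℂ)) ∧
      (∀ b (a : LinPair p G), ∃ n : ℕ, mult (φ b) a = n) ∧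
      (∀ b, 0 < d b ∧ φ b 1 = d b ∧ 0 < r b) ∧
      (∀ b, ∀ H : Subgroup G, IsPGroup p H → Nat.card H ∣ r b) ∧
      (∀ N : ℕ, (∀ b, N ∣ d b) → ∀ b, N ∣ r b) ∧
      ∑ b, d b * r b = ∑ χ ∈ B.toFinset, charDegree (χ : G → ℂ) ^ 2 := by
  have := Contrib.isAlgClosed_residue (p := p) hM
  obtain ⟨m, d, P, hd, hP, hker⟩ := exists_semisimple_quotient (k := Residue M) (A := Alg hB)
  obtain ⟨hm, φ, hφ, hli, hmult⟩ := exists_dual hM hB d P hd hP hker
  subst hm
  obtain ⟨i, hi, hri, hC⟩ := exists_cartan d hd P hP hker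
  set C : Fin (blockRank p B) → Fin (blockRank p B) → ℕ :=
    fun α β => peirceDim (Residue M) (i α) (i β) with hCdef
  have h1 : ∀ a, (P 1 a).rank = d a := fun a => by
    rw [map_one, Pi.one_apply, Matrix.rank_one, Fintype.card_fin]
  have hr : ∀ b, Module.finrank (Residue M)
      (LinearMap.range (LinearMap.mulRight (Residue M) (i b))) = ∑ α, d α * C α b := by
    intro b
    rw [finrank_range_mulRight_eq, hC _ _ IsIdempotentElem.one (hi b)]
    refine Finset.sum_congr rfl fun α _ => ?_
    simp only [h1, hri, mul_ite, mul_one, mul_zero, ite_mul, zero_mul, Finset.sum_ite_eq',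
      Finset.mem_univ, if_true, hCdef]
  have hp1 : ¬ p ∣ Nat.card (⊥ : Subgroup G) := by
    rw [Subgroup.card_bot]
    exact (Fact.out : p.Prime).not_dvd_one
  refine ⟨d, fun b => ∑ α, d α * C α b, φ, hφ, hli, fun b => ?_, fun b a => ⟨_, hmult b a⟩,
    fun b => ⟨hd b, ?_, ?_⟩, fun b H hH => ?_, fun N hN b => ?_, ?_⟩
  · exact exists_int_combination hM hB (hφ b) fun a => ⟨((P (linIdem hM hB a) b).rank : ℤ), by
      rw [hmult]; push_cast; rfl⟩
  · have h2 := hmult b ⟨⊥, 1, hp1⟩
    rw [linIdem_trivial hM hB hp1, h1] at h2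
    rw [← h2, mult_bot _ _ rfl]
  · show _ < ∑ α, d α * C α b
    rw [← hr b]
    refine Nat.pos_of_ne_zero fun h0 => ?_
    rw [Submodule.finrank_eq_zero, LinearMap.range_eq_bot] at h0
    have h3 : i b = 0 := by simpa using LinearMap.congr_fun h0 1
    have := hri b b
    rw [h3, map_zero, Pi.zero_apply, Matrix.rank_zero, if_pos rfl] at this
    exact zero_ne_one this
  · show _ ∣ ∑ α, d α * C α b
    rw [← hr b]
    exact card_dvd_finrank_mulRight hB hM hH (hi b)
  · exact Finset.dvd_sum fun α _ => Dvd.dvd.mul_right (hN α) _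
  · rw [← finrank_alg hB, finrank_eq_peirceDim, hC _ _ IsIdempotentElem.one IsIdempotentElem.one]
    simp only [h1, hCdef, Finset.mul_sum]
    rw [Finset.sum_comm]
    exact Finset.sum_congr rfl fun b _ => Finset.sum_congr rfl fun a _ => by ring

end Cfsg.Agent.Lib.BlockAlg
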