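import Mathlib
import Cfsg.Agent.Lib.BlockAlg.Brauer
import Cfsg.Agent.Lib.Chars.Ops

/-!
# The trace of an automorphism on the regular parts of a block

An automorphism fixing a block acts on the Brauer characters of the block through a matrix of
natural numbers, so its trace is a natural number; for a block which is moved the trace is zero.
-/

set_option autoImplicit false

namespace Cfsg.Agent.Lib.BlockAlg

open Cfsg MonoidAlgebra
open Cfsg.Agent.Lib
open Cfsg.Agent.Lib.Blocks
open Cfsg.Agent.Lib.BrauerFeit (regCoef pRegularPart_apply)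
open scoped ComplexConjugate

universe u

attribute [local instance] Classical.propDecidable

variable {G : Type u} [Group G] [Fintype G]

omit [Fintype G] in
theorem centralChar_comp (γ : G ≃* G) (χ : G → ℂ) (g : G) :
    centralChar (fun x => χ (γ x)) g = centralChar χ (γ g) := by
  have h : Subgroup.centralizer ({γ g} : Set G) =
      (Subgroup.centralizer ({g} : Set G)).map γ.toMonoidHom := by
    ext x
    rw [Subgroup.mem_map_equiv, Subgroup.mem_centralizer_singleton_iff,
      Subgroup.mem_centralizer_singleton_iff]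
    constructor <;> intro h
    · simpa using congrArg γ.symm h
    · simpa using congrArg γ h
  have hidx : (Subgroup.centralizer ({γ g} : Set G)).index =
      (Subgroup.centralizer ({g} : Set G)).index := by
    rw [h]
    exact Subgroup.index_map_equiv _ γ
  unfold centralChar
  simp only [hidx, map_one]

omit [Fintype G] in
theorem sameBlock_comp {M : Ideal AlgInt} (γ : G ≃* G) {χ ψ : G → ℂ} (h : SameBlock M χ ψ) :
    SameBlock M (fun x => χ (γ x)) (fun x => ψ (γ x)) := fun g => by
  rw [centralChar_comp, centralChar_comp]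
  exact h (γ g)

variable {p : ℕ} [Fact p.Prime] {M : Ideal AlgInt} [M.IsPrime]

omit [Fintype G] [Fact p.Prime] [M.IsPrime] in
theorem pRegularPart_comp (γ : G ≃* G) (f : G → ℂ) (x : G) :
    pRegularPart p f (γ x) = pRegularPart p (fun y => f (γ y)) x := by
  rw [pRegularPart_apply, pRegularPart_apply, MulEquiv.orderOf_eq]

/-- The image of a linear pair. -/
noncomputable def LinPair.map (γ : G ≃* G) (a : LinPair p G) : LinPair p G :=
  ⟨a.A.map γ.toMonoidHom,
    a.μ.comp (a.A.equivMapOfInjective γ.toMonoidHom γ.injective).symm.toMonoidHom, by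
      rw [Subgroup.card_map_of_injective γ.injective]; exact a.hA⟩

omit [Fact p.Prime] in
theorem mult_map (γ : G ≃* G) (f : G → ℂ) (a : LinPair p G) :
    mult f (a.map γ) = mult (fun x => f (γ x)) a := by
  unfold mult
  set e := a.A.equivMapOfInjective γ.toMonoidHom γ.injective
  show (Nat.card (a.A.map γ.toMonoidHom) : ℂ)⁻¹ * _ = _
  rw [← Nat.card_congr e.toEquiv]
  congr 1
  refine (Fintype.sum_equiv e.toEquiv _ _ fun x => ?_).symm
  show f (γ x) * conj ((a.μ x : ℂ)) = f (e x : G) * conj ((a.μ (e.symm (e x)) : ℂ))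
  rw [e.symm_apply_apply]
  rfl

/-- The automorphism of a group algebra. -/
noncomputable def algAuto (R : Type*) [CommRing R] (γ : G ≃* G) :
    MonoidAlgebra R G ≃ₐ[R] MonoidAlgebra R G :=
  MonoidAlgebra.domCongr R R γ

omit [Fintype G] in
theorem coeff_algAuto {R : Type*} [CommRing R] (γ : G ≃* G) (z : MonoidAlgebra R G) (x : G) :
    (algAuto R γ z).coeff x = z.coeff (γ.symm x) := by
  simp [algAuto]

variable (hM : IsPModular p M) {B : Set (IrrCharacter G)} (hB : IsPBlock M B)

include hM in
theorem linIdemR_map (γ : G ≃* G) (a : LinPair p G) :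
    linIdemR hM (a.map γ) = algAuto (localRing M) γ (linIdemR hM a) := by
  refine MonoidAlgebra.ext (Finsupp.ext fun g => Subtype.ext ?_)
  have hcoef : ∀ (c : LinPair p G) (y : G), (((linIdemR hM c).coeff y : localRing M) : ℂ) =
      mult (fun x => if x = y then 1 else 0) c := fun c y => by
    rw [← sum_linIdemR_mul hM c]
    simp only [mul_ite, mul_one, mul_zero, Finset.sum_ite_eq', Finset.mem_univ, if_true]
  rw [coeff_algAuto, hcoef, hcoef, mult_map]
  unfold mult
  refine congrArg _ (Finset.sum_congr rfl fun x _ => ?_)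
  congr 1
  exact if_congr ⟨fun h => by simp [← h], fun h => by simp [h]⟩ rfl rfl

variable {γ : G ≃* G}

omit [M.IsPrime] in
/-- An automorphism stable set of characters has invariant idempotent coefficients. -/
theorem blockCoeff_comp (hγ : ∀ χ ∈ B, Chars.irrCongr γ χ ∈ B) (g : G) :
    blockCoeff B (γ g) = blockCoeff B g := by
  simp only [blockCoeff_eq_sum, ← Finset.sum_filter]
  congr 1
  have hset : Finset.univ.filter (fun χ : IrrCharacter G => χ ∈ B) =
      (Finset.univ.filter (fun χ : IrrCharacter G => χ ∈ B)).map (Chars.irrCongr γ).toEmbedding := by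
    refine (Finset.eq_of_subset_of_card_le (fun x hx => ?_) (by simp)).symm
    obtain ⟨y, hy, rfl⟩ := Finset.mem_map.1 hx
    exact Finset.mem_filter.2 ⟨Finset.mem_univ _, hγ y (Finset.mem_filter.1 hy).2⟩
  conv_rhs => rw [hset, Finset.sum_map]
  refine Finset.sum_congr rfl fun χ _ => ?_
  show _ = (χ : G → ℂ) (γ 1) * conj ((χ : G → ℂ) (γ g))
  rw [map_one]

include hM hB in
/-- An automorphism fixing the block acts on the block algebra. -/
theorem exists_algAuto_alg (hγ : ∀ χ ∈ B, Chars.irrCongr γ χ ∈ B) :
    ∃ Γ : Alg hB ≃ₐ[Residue M] Alg hB,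
      ∀ a : LinPair p G, linIdem hM hB (a.map γ) = Γ (linIdem hM hB a) := by
  have hidem : algAuto (Residue M) γ (idem hB) = idem hB := by
    refine MonoidAlgebra.ext (Finsupp.ext fun x => ?_)
    rw [coeff_algAuto]
    simp only [idem]
    show residue M _ = residue M _
    congr 1
    refine Subtype.ext ?_
    rw [coe_coeff_blockIdem, coe_coeff_blockIdem]
    conv_rhs => rw [← γ.apply_symm_apply x, blockCoeff_comp hγ]
  have hidem' : algAuto (Residue M) γ.symm (idem hB) = idem hB := by
    conv_lhs => rw [← hidem]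
    refine MonoidAlgebra.ext (Finsupp.ext fun x => ?_)
    simp [coeff_algAuto]
  have hkill : ∀ δ : G ≃* G, algAuto (Residue M) δ (idem hB) = idem hB →
      ∀ x ∈ annIdeal hB, (proj hB).comp (algAuto (Residue M) δ).toAlgHom x = 0 := fun δ hδ x hx => by
    show proj hB (algAuto (Residue M) δ x) = 0
    rw [proj_eq_zero_iff, ← hδ, ← map_mul, show idem hB * x = 0 from hx, map_zero]
  let F := Ideal.Quotient.liftₐ (annIdeal hB) _ (hkill γ hidem)
  let F' := Ideal.Quotient.liftₐ (annIdeal hB) _ (hkill γ.symm hidem')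
  have hF : ∀ z, F (proj hB z) = proj hB (algAuto (Residue M) γ z) := fun z => rfl
  have hF' : ∀ z, F' (proj hB z) = proj hB (algAuto (Residue M) γ.symm z) := fun z => rfl
  let Γ : Alg hB ≃ₐ[Residue M] Alg hB := AlgEquiv.ofAlgHom F F'
    (AlgHom.ext fun a => by
      obtain ⟨z, rfl⟩ := proj_surjective hB a
      show F (F' (proj hB z)) = proj hB z
      rw [hF', hF]
      congr 1
      refine MonoidAlgebra.ext (Finsupp.ext fun x => ?_)
      simp [coeff_algAuto])
    (AlgHom.ext fun a => by
      obtain ⟨z, rfl⟩ := proj_surjective hB a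
      show F' (F (proj hB z)) = proj hB z
      rw [hF, hF']
      congr 1
      refine MonoidAlgebra.ext (Finsupp.ext fun x => ?_)
      simp [coeff_algAuto])
  refine ⟨Γ, fun a => ?_⟩
  show _ = F (proj hB _)
  rw [hF]
  show proj hB (toF M G (linIdemR hM (a.map γ))) = _
  rw [linIdemR_map hM]
  congr 1
  refine MonoidAlgebra.ext (Finsupp.ext fun x => ?_)
  show residue M _ = (algAuto (Residue M) γ (toF M G (linIdemR hM a))).coeff x
  rw [coeff_algAuto, coeff_algAuto]
  rfl

theorem peirceDim_algEquiv {k : Type*} [Field k] {A : Type*} [Ring A] [Algebra k A]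
    (Γ : A ≃ₐ[k] A) (e g : A) : peirceDim k (Γ e) (Γ g) = peirceDim k e g := by
  refine (LinearEquiv.finrank_eq (LinearEquiv.ofSubmodules Γ.toLinearEquiv _ _ ?_)).symm
  ext v
  simp only [Submodule.mem_map, LinearMap.mem_range]
  constructor
  · rintro ⟨_, ⟨z, rfl⟩, rfl⟩
    exact ⟨Γ z, (show Γ e * (Γ z * Γ g) = Γ (e * (z * g)) by rw [map_mul, map_mul])⟩
  · rintro ⟨w, rfl⟩
    exact ⟨e * (Γ.symm w * g), ⟨_, rfl⟩,
      (show Γ (e * (Γ.symm w * g)) = Γ e * (w * Γ g) by
        rw [map_mul, map_mul, Γ.apply_symm_apply])⟩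

include hM hB in
/-- The trace of an automorphism fixing the block on the regular parts is a natural number. -/
theorem exists_nat_trace_fixed [M.IsMaximal] (hγ : ∀ χ ∈ B, Chars.irrCongr γ χ ∈ B) :
    ∃ n : ℕ, ∑ χ ∈ B.toFinset,
      classInner (pRegularPart p (fun x => (χ : G → ℂ) (γ x))) (χ : G → ℂ) = n := by
  have := Contrib.isAlgClosed_residue (p := p) hM
  obtain ⟨m, d, P, hd, hP, hker⟩ := exists_semisimple_quotient (k := Residue M) (A := Alg hB)
  obtain ⟨hm, φ, hφ, hli, hmult⟩ := exists_dual hM hB d P hd hP hker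
  obtain ⟨i, hi, hri, hC⟩ := exists_cartan d hd P hP hker
  obtain ⟨Γ, hΓ⟩ := exists_algAuto_alg hM hB hγ
  let n : Alg hB → Fin m → ℂ := fun e b => ((P e b).rank : ℂ)
  let C : Fin m → Fin m → ℂ := fun α β => (peirceDim (Residue M) (i α) (i β) : ℂ)
  have hmult' : ∀ b a, mult (φ b) a = n (linIdem hM hB a) b := hmult
  -- the pairs separate the coordinates
  have hsep : ∀ x : Fin m → ℂ, (∀ a : LinPair p G, ∑ β, x β * n (linIdem hM hB a) β = 0) →
      x = 0 := by
    intro x hx
    have hy : ∑ β, x β • φ β = 0 := by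
      refine eq_zero_of_mult_eq_zero (B := B)
        (Submodule.sum_mem _ fun β _ => Submodule.smul_mem _ _ (hφ β)) fun a => ?_
      rw [← hx a, mult, Finset.mul_sum]
      simp only [← hmult', mult, Finset.sum_apply, Pi.smul_apply, smul_eq_mul, Finset.mul_sum,
        Finset.sum_mul]
      rw [Finset.sum_comm]
      exact Finset.sum_congr rfl fun b _ => Finset.sum_congr rfl fun y _ => by ring
    exact funext (Fintype.linearIndependent_iff.1 hli x hy)
  have hbil : ∀ e g : Alg hB, IsIdempotentElem e → IsIdempotentElem g →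
      (peirceDim (Residue M) e g : ℂ) = ∑ α, ∑ β, n e α * n g β * C α β := fun e g he hg => by
    rw [hC e g he hg]
    push_cast
    rfl
  -- the left kernel of the Cartan matrix is trivial
  have hCinj : ∀ v : Fin m → ℂ, (∀ β, ∑ α, v α * C α β = 0) → v = 0 := by
    intro v hv
    have hspan : Submodule.span ℂ (Set.range fun a => n (linIdem hM hB a)) = ⊤ := by
      by_contra hne
      obtain ⟨f, hf0, hf⟩ := Submodule.exists_le_ker_of_lt_top _ (lt_top_iff_ne_top.2 hne)
      refine hf0 (LinearMap.pi_ext' fun β => LinearMap.ext_ring ?_)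
      have hx := hsep (fun β => f (Pi.single β 1)) fun a => ?_
      · simpa using congrFun hx β
      · have h1 : f (n (linIdem hM hB a)) = 0 :=
          LinearMap.mem_ker.1 (hf (Submodule.subset_span ⟨a, rfl⟩))
        rw [← h1]
        conv_rhs => rw [pi_eq_sum_univ' (n (linIdem hM hB a))]
        rw [map_sum]
        exact Finset.sum_congr rfl fun β _ => by
          rw [map_smul, smul_eq_mul, mul_comm]
    obtain ⟨c, hc⟩ := (Finsupp.mem_span_range_iff_exists_finsupp).1
      (hspan.ge (Submodule.mem_top (x := v)))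
    have hpsi : ∀ a, psi B a = ∑ β, (∑ α, n (linIdem hM hB a) α * C α β) • φ β := fun a => by
      refine sub_eq_zero.1 (eq_zero_of_mult_eq_zero (B := B) (Submodule.sub_mem _
        (psi_mem_regSpan hM hB a)
        (Submodule.sum_mem _ fun β _ => Submodule.smul_mem _ _ (hφ β))) fun b => ?_)
      rw [mult_eq_classInner_psi hM hB (Submodule.sub_mem _ (psi_mem_regSpan hM hB a)
        (Submodule.sum_mem _ fun β _ => Submodule.smul_mem _ _ (hφ β))), Chars.classInner_sub_left,
        Chars.classInner_sum_left, sub_eq_zero, classInner_psi_psi,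
        sum_mult_mul_eq_peirceDim hM hB, hbil _ _ (linIdem_isIdem hM hB a) (linIdem_isIdem hM hB b)]
      simp only [Chars.classInner_smul_left, ← mult_eq_classInner_psi hM hB (hφ _), hmult',
        Finset.sum_mul]
      rw [Finset.sum_comm]
      exact Finset.sum_congr rfl fun β _ => Finset.sum_congr rfl fun α _ => by ring
    have hT : (c.sum fun a r => r • psi B a) = 0 := by
      simp only [Finsupp.sum, hpsi, Finset.smul_sum, smul_smul]
      rw [Finset.sum_comm]
      refine Finset.sum_eq_zero fun β _ => ?_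
      rw [← Finset.sum_smul]
      convert zero_smul ℂ (φ β)
      rw [← hv β]
      simp only [Finset.mul_sum, ← hc, Finsupp.sum, Finset.sum_apply, Pi.smul_apply, smul_eq_mul,
        Finset.sum_mul]
      rw [Finset.sum_comm]
      exact Finset.sum_congr rfl fun α _ => Finset.sum_congr rfl fun a _ => by ring
    funext β
    have h := congrArg (fun y => classInner (φ β) y) hT
    simp only [Finsupp.sum, Chars.classInner_sum_right, Chars.classInner_smul_right,
      ← mult_eq_classInner_psi hM hB (hφ β), hmult'] at h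
    have h0 : classInner (φ β) (0 : G → ℂ) = 0 := by simp [classInner]
    rw [h0] at h
    have h' := congrArg conj h
    simp only [map_sum, map_mul, Complex.conj_conj, map_zero, n, Complex.conj_natCast] at h'
    rw [Pi.zero_apply, ← h', ← hc]
    simp [Finsupp.sum, Finset.sum_apply, n]
  -- the action on the idempotents is linear in the ranks
  have hlin : ∀ e : Alg hB, IsIdempotentElem e → ∀ j,
      n (Γ e) j = ∑ α, n e α * n (Γ (i α)) j := by
    intro e he j
    refine sub_eq_zero.1 (congrFun (hCinj (fun j => n (Γ e) j - ∑ α, n e α * n (Γ (i α)) j)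
      fun β => congrFun (hsep (fun β => ∑ j', (n (Γ e) j' - ∑ α, n e α * n (Γ (i α)) j') * C j' β)
        fun b => ?_) β) j)
    obtain ⟨a, ha⟩ : ∃ a : LinPair p G, linIdem hM hB (a.map γ) = linIdem hM hB b := by
      refine ⟨b.map γ.symm, ?_⟩
      have key : ∀ f : G → ℂ, mult f ((b.map γ.symm).map γ) = mult f b := fun f => by
        rw [mult_map, mult_map]
        simp
      show proj hB (toF M G _) = proj hB (toF M G _)
      congr 2
      refine MonoidAlgebra.ext (Finsupp.ext fun g => Subtype.ext ?_)
      have h1 := sum_linIdemR_mul hM ((b.map γ.symm).map γ) fun x => if x = g then 1 else 0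
      have h2 := sum_linIdemR_mul hM b fun x => if x = g then 1 else 0
      rw [key, ← h2] at h1
      simpa using h1
    rw [← ha]
    have hid : ∀ x, IsIdempotentElem x → IsIdempotentElem (Γ x) := fun x hx => hx.map Γ
    have h1 := hbil _ _ (hid e he) (hid _ (linIdem_isIdem hM hB a))
    have h2 := fun α => hbil _ _ (hid _ (hi α)) (hid _ (linIdem_isIdem hM hB a))
    rw [peirceDim_algEquiv, hbil e _ he (linIdem_isIdem hM hB a)] at h1
    have hia : ∀ α, (peirceDim (Residue M) (Γ (i α)) (Γ (linIdem hM hB a)) : ℂ) =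
        ∑ β, n (linIdem hM hB a) β * C α β := fun α => by
      rw [peirceDim_algEquiv, hbil _ _ (hi α) (linIdem_isIdem hM hB a)]
      simp [n, hri]
    rw [← hΓ] at h1 hia
    simp only [← hΓ] at h2
    calc ∑ β, (∑ j', (n (Γ e) j' - ∑ α, n e α * n (Γ (i α)) j') * C j' β) *
          n (linIdem hM hB (a.map γ)) β
        = ∑ j', ∑ β, n (Γ e) j' * n (linIdem hM hB (a.map γ)) β * C j' β -
            ∑ α, n e α * ∑ j', ∑ β, n (Γ (i α)) j' * n (linIdem hM hB (a.map γ)) β * C j' β := by
          simp only [sub_mul, Finset.sum_sub_distrib, Finset.sum_mul, Finset.mul_sum]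
          congr 1
          · rw [Finset.sum_comm]
            exact Finset.sum_congr rfl fun _ _ => Finset.sum_congr rfl fun _ _ => by ring
          · rw [Finset.sum_comm]
            rw [Finset.sum_congr rfl fun j' _ => Finset.sum_comm, Finset.sum_comm]
            exact Finset.sum_congr rfl fun _ _ => Finset.sum_congr rfl fun _ _ =>
              Finset.sum_congr rfl fun _ _ => by ring
      _ = 0 := by
          rw [← h1]
          simp only [← h2, hia, Finset.mul_sum]
          rw [sub_eq_zero]
          exact Finset.sum_congr rfl fun α _ => Finset.sum_congr rfl fun β _ => by ring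
  -- the matrix of the automorphism
  have hmem : ∀ y ∈ regSpan p B, (fun x => y (γ x)) ∈ regSpan p B := by
    intro y hy
    induction hy using Submodule.span_induction with
    | mem z hz =>
      obtain ⟨χ, hχ, rfl⟩ := hz
      refine Submodule.subset_span ⟨Chars.irrCongr γ χ, hγ χ hχ, funext fun x => ?_⟩
      show pRegularPart p (fun y => (χ : G → ℂ) (γ y)) x = pRegularPart p (χ : G → ℂ) (γ x)
      rw [pRegularPart_comp]
    | zero => exact Submodule.zero_mem _
    | add x z _ _ h1 h2 => exact Submodule.add_mem _ h1 h2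
    | smul c x _ h1 => exact Submodule.smul_mem _ c h1
  have hQ : ∀ j, (fun x => φ j (γ x)) = ∑ α, n (Γ (i α)) j • φ α := fun j => by
    refine sub_eq_zero.1 (eq_zero_of_mult_eq_zero (B := B) (Submodule.sub_mem _ (hmem _ (hφ j))
      (Submodule.sum_mem _ fun α _ => Submodule.smul_mem _ _ (hφ α))) fun a => ?_)
    have h1 := hmult' j (a.map γ)
    rw [mult_map, hΓ, hlin _ (linIdem_isIdem hM hB a)] at h1
    rw [mult, Finset.mul_sum] at h1 ⊢
    simp only [Pi.sub_apply, sub_mul, mul_sub, Finset.sum_sub_distrib, h1, ← hmult', mult,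
      Finset.sum_apply, Pi.smul_apply, smul_eq_mul, Finset.mul_sum, Finset.sum_mul]
    rw [sub_eq_zero, Finset.sum_comm]
    exact Finset.sum_congr rfl fun _ _ => Finset.sum_congr rfl fun _ _ => by ring
  have hspanφ : regSpan p B ≤ Submodule.span ℂ (Set.range φ) := by
    refine (Submodule.eq_of_le_of_finrank_le (Submodule.span_le.2 ?_) ?_).ge
    · rintro _ ⟨b, rfl⟩; exact hφ b
    · rw [finrank_span_eq_card hli, Fintype.card_fin]
      exact hm.ge
  choose D hD using fun χ : B => (Submodule.mem_span_range_iff_exists_fun ℂ).1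
    (hspanφ (Submodule.subset_span ⟨(χ : IrrCharacter G), χ.2, rfl⟩))
  refine ⟨∑ j, (P (Γ (i j)) j).rank, ?_⟩
  have hdual : ∀ α j, ∑ χ : B, classInner (φ α) ((χ : IrrCharacter G) : G → ℂ) * D χ j =
      if α = j then 1 else 0 := by
    intro α j
    have h0 : φ α = ∑ χ : B,
        classInner (φ α) ((χ : IrrCharacter G) : G → ℂ) • pRegularPart p ((χ : IrrCharacter G) : G → ℂ) := by
      have h1 : φ α = ∑ χ ∈ B.toFinset,
          classInner (φ α) (χ : G → ℂ) • pRegularPart p (χ : G → ℂ) := by
        refine eq_block_sum hM hB (hφ α) _ (funext fun g => ?_)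
        simp only [Finset.sum_apply, Pi.smul_apply, smul_eq_mul, pRegularPart_apply]
        by_cases hg : p ∣ orderOf g
        · simp [hg, regular_of_mem_regSpan (hφ α) g hg]
        · simp only [hg, if_false]
          exact Chars.isClassFunction_apply_eq_sum_classInner (classFunction_of_mem_regSpan (hφ α)) g
      refine h1.trans ?_
      exact Finset.sum_bij' (fun χ hχ => ⟨χ, Set.mem_toFinset.1 hχ⟩) (fun χ _ => χ.1)
        (fun _ _ => Finset.mem_univ _) (fun χ _ => Set.mem_toFinset.2 χ.2) (fun _ _ => rfl)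
        (fun _ _ => rfl) fun _ _ => rfl
    have h2 : ∑ j, ((∑ χ : B, classInner (φ α) ((χ : IrrCharacter G) : G → ℂ) * D χ j) -
        if α = j then 1 else 0) • φ j = 0 := by
      simp only [sub_smul, Finset.sum_sub_distrib, Finset.sum_smul, mul_smul, ite_smul, one_smul,
        zero_smul, Finset.sum_ite_eq, Finset.mem_univ, if_true]
      rw [Finset.sum_comm, sub_eq_zero]
      conv_rhs => rw [h0]
      exact Finset.sum_congr rfl fun χ _ => by rw [← Finset.smul_sum, hD]
    exact sub_eq_zero.1 (Fintype.linearIndependent_iff.1 hli _ h2 j)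
  have hterm : ∀ χ : B, classInner (pRegularPart p (fun x => ((χ : IrrCharacter G) : G → ℂ) (γ x)))
      ((χ : IrrCharacter G) : G → ℂ) = ∑ j, D χ j * ∑ α, n (Γ (i α)) j *
        classInner (φ α) ((χ : IrrCharacter G) : G → ℂ) := fun χ => by
    have h1 : pRegularPart p (fun x => ((χ : IrrCharacter G) : G → ℂ) (γ x)) =
        ∑ j, D χ j • fun x => φ j (γ x) := funext fun x => by
      rw [← pRegularPart_comp]
      have := congrFun (hD χ) (γ x)
      simpa [Finset.sum_apply] using this.symm
    simp only [h1, hQ, Chars.classInner_sum_left, Chars.classInner_smul_left]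
  rw [show ∑ χ ∈ B.toFinset, classInner (pRegularPart p (fun x => (χ : G → ℂ) (γ x))) (χ : G → ℂ) =
    ∑ χ : B, classInner (pRegularPart p (fun x => ((χ : IrrCharacter G) : G → ℂ) (γ x)))
      ((χ : IrrCharacter G) : G → ℂ) from
    Finset.sum_bij' (fun χ hχ => (⟨χ, Set.mem_toFinset.1 hχ⟩ : B)) (fun χ _ => χ.1)
      (fun _ _ => Finset.mem_univ _) (fun χ _ => Set.mem_toFinset.2 χ.2) (fun _ _ => rfl)
      (fun _ _ => rfl) fun _ _ => rfl]
  simp only [hterm, Finset.mul_sum]
  rw [Finset.sum_comm, Nat.cast_sum]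
  refine Finset.sum_congr rfl fun j _ => ?_
  rw [Finset.sum_comm, Finset.sum_eq_single j]
  · have := hdual j j
    rw [if_pos rfl] at this
    calc ∑ χ : B, D χ j * (n (Γ (i j)) j * classInner (φ j) ((χ : IrrCharacter G) : G → ℂ))
        = n (Γ (i j)) j * ∑ χ : B, classInner (φ j) ((χ : IrrCharacter G) : G → ℂ) * D χ j := by
          rw [Finset.mul_sum]
          exact Finset.sum_congr rfl fun χ _ => by ring
      _ = _ := by rw [this, mul_one]
  · intro α _ hα
    have := hdual α j
    rw [if_neg hα] at this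
    calc ∑ χ : B, D χ j * (n (Γ (i α)) j * classInner (φ α) ((χ : IrrCharacter G) : G → ℂ))
        = n (Γ (i α)) j * ∑ χ : B, classInner (φ α) ((χ : IrrCharacter G) : G → ℂ) * D χ j := by
          rw [Finset.mul_sum]
          exact Finset.sum_congr rfl fun χ _ => by ring
      _ = 0 := by rw [this, mul_zero]
  · exact fun h => absurd (Finset.mem_univ _) h

include hM hB in
/-- The trace of any automorphism on the regular parts of a block is a natural number. -/
theorem exists_nat_trace [M.IsMaximal] (γ : G ≃* G) :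
    ∃ n : ℕ, ∑ χ ∈ B.toFinset,
      classInner (pRegularPart p (fun x => (χ : G → ℂ) (γ x))) (χ : G → ℂ) = n := by
  by_cases h : ∀ χ ∈ B, Chars.irrCongr γ χ ∈ B
  · exact exists_nat_trace_fixed hM hB h
  · refine ⟨0, ?_⟩
    push Not at h
    obtain ⟨χ₀, hχ₀, hno⟩ := h
    rw [Nat.cast_zero]
    refine Finset.sum_eq_zero fun χ hχ => ?_
    have hχB := Set.mem_toFinset.1 hχ
    have hsame : SameBlock M ((Chars.irrCongr γ χ : IrrCharacter G) : G → ℂ)
        ((Chars.irrCongr γ χ₀ : IrrCharacter G) : G → ℂ) :=
      sameBlock_comp γ (sameBlock_of_mem hB hχB hχ₀)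
    show regCoef p (Chars.irrCongr γ χ) χ = 0
    rw [BrauerFeit.regCoef_comm]
    exact BrauerFeit.regCoef_eq_zero_of_not_mem (BrauerFeit.regOrth hM) hB hχB fun h' =>
      hno (mem_of_sameBlock hB h' hsame)

end Cfsg.Agent.Lib.BlockAlg
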