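import Mathlib
import Cfsg.Agent.Lib.Contrib.SmallAlgebra

/-!
# An algebra with one simple module whose basic algebra has few modules

If a finite dimensional algebra over an algebraically closed field has a single simple module and
only boundedly many non-isomorphic cyclic modules with local endomorphism rings, then it is a
matrix algebra over a commutative corner `i B i`, whose dimension is bounded by the number of
independent trace functions.
-/

set_option autoImplicit false

namespace Cfsg.Agent.Lib.BlockAlg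

open Cfsg.Agent.Lib.Contrib (cornerTrace cornerTrace_mul rank_traces exists_matrixUnits)

variable {k : Type*} [Field k] {B : Type*} [Ring B] [Algebra k B]

/-- A family of matrix units of `B` over a nilpotent kernel. -/
structure MatUnits (k : Type*) [Field k] (B : Type*) [Ring B] [Algebra k B] where
  /-- The size less one. -/
  n : ℕ
  /-- The semisimple quotient. -/
  π : B →ₐ[k] Matrix (Fin (n + 1)) (Fin (n + 1)) k
  /-- The corner idempotent. -/
  i : B
  /-- The column units. -/
  u : Fin (n + 1) → B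
  /-- The row units. -/
  v : Fin (n + 1) → B
  hi : IsIdempotentElem i
  hπi : π i = Matrix.single 0 0 1
  hvu : ∀ s t, v s * u t = if s = t then i else 0
  huv : ∑ s, u s * v s = 1
  hui : ∀ s, u s * i = u s
  hiv : ∀ s, i * v s = v s
  hker : ∀ x, π x = 0 → IsNilpotent x
  hnilp : ∃ N : ℕ, (RingHom.ker π.toRingHom) ^ N = ⊥

/-- An algebra all of whose semisimple quotients by a nil ideal have one factor has matrix units. -/
theorem nonempty_matUnits [IsAlgClosed k] [FiniteDimensional k B] [Nontrivial B]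
    (hone : ∀ (m : ℕ) (d : Fin m → ℕ) (P : B →ₐ[k] ∀ a, Matrix (Fin (d a)) (Fin (d a)) k),
      (∀ a, 0 < d a) → Function.Surjective P → m ≤ 1) : Nonempty (MatUnits k B) := by
  classical
  have : IsArtinianRing B := IsArtinianRing.of_finite k B
  set J := Ring.jacobson B with hJ
  obtain ⟨N, hN⟩ := IsSemiprimaryRing.isNilpotent (R := B)
  have : IsSemisimpleRing (B ⧸ J) := IsSemiprimaryRing.isSemisimpleRing
  have : FiniteDimensional k (B ⧸ J) := Module.Finite.of_surjective
    (Ideal.Quotient.mkₐ k J).toLinearMap Ideal.Quotient.mk_surjective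
  obtain ⟨m, d, hd, ⟨E⟩⟩ := IsSemisimpleRing.exists_algEquiv_pi_matrix_of_isAlgClosed k (B ⧸ J)
  let P : B →ₐ[k] (∀ a, Matrix (Fin (d a)) (Fin (d a)) k) := E.toAlgHom.comp (Ideal.Quotient.mkₐ k J)
  have hPs : Function.Surjective P := E.surjective.comp Ideal.Quotient.mk_surjective
  have hPk : ∀ x, P x = 0 ↔ x ∈ J := fun x => by
    show E (Ideal.Quotient.mk J x) = 0 ↔ _
    rw [map_eq_zero_iff _ E.injective, Ideal.Quotient.eq_zero_iff_mem]
  have hnil : ∀ x ∈ J, IsNilpotent x := fun x hx => ⟨N, by
    have := Ideal.pow_mem_pow hx N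
    rwa [hN] at this⟩
  have hm1 : m = 1 := by
    have hm := hone m d P (fun a => Nat.pos_of_ne_zero (hd a).out) hPs
    rcases Nat.eq_zero_or_pos m with h | h
    · subst h
      obtain ⟨j, hj⟩ := hnil 1 ((hPk 1).1 (funext fun a => a.elim0))
      rw [one_pow] at hj
      exact absurd hj one_ne_zero
    · omega
  subst hm1
  obtain ⟨n, hn⟩ : ∃ n, d 0 = n + 1 := ⟨d 0 - 1, by have := (hd 0).out; omega⟩
  let π : B →ₐ[k] Matrix (Fin (n + 1)) (Fin (n + 1)) k :=
    (Matrix.reindexAlgEquiv k k (finCongr hn)).toAlgHom.comp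
      ((Pi.evalAlgHom k (fun a => Matrix (Fin (d a)) (Fin (d a)) k) 0).comp P)
  have hπs : Function.Surjective π := fun A => by
    obtain ⟨x, hx⟩ := hPs fun a => Fin.cases ((Matrix.reindexAlgEquiv k k (finCongr hn)).symm A)
      (fun a => a.elim0) a
    refine ⟨x, ?_⟩
    show Matrix.reindexAlgEquiv k k (finCongr hn) (P x 0) = A
    rw [hx]
    exact (Matrix.reindexAlgEquiv k k (finCongr hn)).apply_symm_apply A
  have hπk : ∀ x, π x = 0 → IsNilpotent x := fun x hx => hnil x ((hPk x).1 (funext fun a => by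
    rw [Subsingleton.elim a 0]
    exact (map_eq_zero_iff _ (Matrix.reindexAlgEquiv k k (finCongr hn)).injective).1 hx))
  obtain ⟨i, u, v, hi, hπi, hvu, huv, hui, hiv⟩ := exists_matrixUnits π.toRingHom hπs hπk
  refine ⟨⟨n, π, i, u, v, hi, hπi, hvu, huv, hui, hiv, hπk, N, ?_⟩⟩
  have hle : RingHom.ker π.toRingHom ≤ J := fun x hx => (hPk x).1 (funext fun a => by
    rw [Subsingleton.elim a 0]
    exact (map_eq_zero_iff _ (Matrix.reindexAlgEquiv k k (finCongr hn)).injective).1 hx)
  exact eq_bot_iff.2 ((Ideal.pow_right_mono hle N).trans hN.le)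

namespace MatUnits

variable (U : MatUnits k B)

/-- The corner `i B i`. -/
def corner : Submodule k B where
  carrier := {x | U.i * x * U.i = x}
  add_mem' := fun {x y} hx hy => by
    show U.i * (x + y) * U.i = x + y
    rw [mul_add, add_mul, hx, hy]
  zero_mem' := by simp
  smul_mem' := fun c x hx => by
    show U.i * (c • x) * U.i = c • x
    rw [mul_smul_comm, smul_mul_assoc, hx]

theorem mem_corner {x : B} : x ∈ U.corner ↔ U.i * x * U.i = x := Iff.rfl

theorem corner_mul_left {x : B} (hx : x ∈ U.corner) : U.i * x = x := by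
  conv_lhs => rw [← U.mem_corner.1 hx, ← mul_assoc, ← mul_assoc, U.hi.eq]
  exact hx

theorem corner_mul_right {x : B} (hx : x ∈ U.corner) : x * U.i = x := by
  conv_lhs => rw [← U.mem_corner.1 hx, mul_assoc, U.hi.eq]
  exact hx

theorem i_mem : U.i ∈ U.corner := U.mem_corner.2 (by rw [U.hi.eq, U.hi.eq])

theorem mul_mem_corner {x y : B} (hx : x ∈ U.corner) (hy : y ∈ U.corner) : x * y ∈ U.corner := by
  rw [mem_corner, ← mul_assoc, U.corner_mul_left hx, mul_assoc, U.corner_mul_right hy]

theorem proj_mem (x : B) : U.i * x * U.i ∈ U.corner := by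
  simp only [mem_corner, ← mul_assoc, U.hi.eq]
  rw [mul_assoc, U.hi.eq]

theorem units_mem (x : B) (s t : Fin (U.n + 1)) : U.v s * x * U.u t ∈ U.corner := by
  rw [mem_corner, ← mul_assoc, ← mul_assoc, U.hiv, mul_assoc (U.v s * x), U.hui]

/-- The part of the corner in the radical. -/
def rad : Submodule k B := U.corner ⊓ LinearMap.ker U.π.toLinearMap

theorem mem_rad {x : B} : x ∈ U.rad ↔ x ∈ U.corner ∧ U.π x = 0 := Iff.rfl

theorem sub_mem_rad {x : B} (hx : x ∈ U.corner) : x - U.π x 0 0 • U.i ∈ U.rad := by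
  refine U.mem_rad.2 ⟨U.corner.sub_mem hx (U.corner.smul_mem _ U.i_mem), ?_⟩
  rw [map_sub, map_smul, U.hπi, sub_eq_zero]
  conv_lhs => rw [← U.mem_corner.1 hx, map_mul, map_mul, U.hπi, Matrix.single_mul_mul_single]
  rw [Matrix.smul_single]
  simp

/-- The dimension of the algebra. -/
theorem finrank_eq [FiniteDimensional k B] :
    Module.finrank k B = (U.n + 1) * ((U.n + 1) * Module.finrank k U.corner) := by
  classical
  let Φ : B ≃ₗ[k] (Fin (U.n + 1) → Fin (U.n + 1) → U.corner) :=
    { toFun := fun x s t => ⟨U.v s * x * U.u t, U.units_mem x s t⟩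
      map_add' := fun x y => funext fun s => funext fun t => Subtype.ext (by simp [mul_add, add_mul])
      map_smul' := fun c x => funext fun s => funext fun t => Subtype.ext (by simp)
      invFun := fun f => ∑ s, ∑ t, U.u s * (f s t : B) * U.v t
      left_inv := fun x => by
        dsimp only
        conv_rhs => rw [← one_mul x, ← mul_one (1 * x), ← U.huv]
        simp only [Finset.mul_sum, Finset.sum_mul, mul_assoc]
        exact Finset.sum_comm
      right_inv := fun f => funext fun s => funext fun t => Subtype.ext (by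
        show U.v s * (∑ s', ∑ t', U.u s' * (f s' t' : B) * U.v t') * U.u t = _
        simp only [Finset.mul_sum, Finset.sum_mul]
        rw [Finset.sum_eq_single s, Finset.sum_eq_single t]
        · rw [← mul_assoc, ← mul_assoc, U.hvu, if_pos rfl, mul_assoc, U.hvu, if_pos rfl]
          exact U.mem_corner.1 (f s t).2
        · intro t' _ ht
          rw [← mul_assoc, ← mul_assoc, mul_assoc _ (U.v t') (U.u t), U.hvu t' t, if_neg ht, mul_zero]
        · exact fun h => absurd (Finset.mem_univ _) h
        · intro s' _ hs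
          refine Finset.sum_eq_zero fun t' _ => ?_
          rw [← mul_assoc, ← mul_assoc, U.hvu, if_neg hs.symm]
          simp
        · exact fun h => absurd (Finset.mem_univ _) h) }
  rw [Φ.finrank_eq, Module.finrank_pi_fintype, Finset.sum_congr rfl fun s _ =>
    Module.finrank_pi_fintype k]
  simp

/-- The dimension of the projective module `B i`. -/
theorem finrank_mulRight [FiniteDimensional k B] :
    Module.finrank k (LinearMap.range (LinearMap.mulRight k U.i)) =
      (U.n + 1) * Module.finrank k U.corner := by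
  classical
  let Ψ : LinearMap.range (LinearMap.mulRight k U.i) ≃ₗ[k] (Fin (U.n + 1) → U.corner) :=
    { toFun := fun x s => ⟨U.v s * (x : B), by
        obtain ⟨y, hy⟩ := x.2
        have hy' : y * U.i = (x : B) := hy
        rw [U.mem_corner, ← mul_assoc, U.hiv, ← hy']
        simp only [mul_assoc, U.hi.eq]⟩
      map_add' := fun x y => funext fun s => Subtype.ext (by simp [mul_add])
      map_smul' := fun c x => funext fun s => Subtype.ext (by simp)
      invFun := fun f => ⟨∑ s, U.u s * (f s : B), ∑ s, U.u s * (f s : B), by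
        show (∑ s, U.u s * (f s : B)) * U.i = _
        rw [Finset.sum_mul]
        exact Finset.sum_congr rfl fun s _ => by rw [mul_assoc, U.corner_mul_right (f s).2]⟩
      left_inv := fun x => Subtype.ext (by
        show ∑ s, U.u s * (U.v s * (x : B)) = _
        simp only [← mul_assoc]
        rw [← Finset.sum_mul, U.huv, one_mul])
      right_inv := fun f => funext fun s => Subtype.ext (by
        show U.v s * ∑ t, U.u t * (f t : B) = _
        rw [Finset.mul_sum, Finset.sum_eq_single s]
        · rw [← mul_assoc, U.hvu, if_pos rfl, U.corner_mul_left (f s).2]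
        · intro t _ ht
          rw [← mul_assoc, U.hvu, if_neg ht.symm, zero_mul]
        · exact fun h => absurd (Finset.mem_univ _) h) }
  rw [Ψ.finrank_eq, Module.finrank_pi_fintype]
  simp

/-- If the corner is commutative, its dimension is bounded by the number of traces. -/
theorem finrank_corner_le (hcomm : ∀ x ∈ U.corner, ∀ y ∈ U.corner, x * y = y * x) {r : ℕ}
    (hle : ∀ W : Submodule k B, (∀ x y, x * y - y * x ∈ W) → Module.finrank k (B ⧸ W) ≤ r)
    [FiniteDimensional k B] : Module.finrank k U.corner ≤ r := by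
  refine le_trans (Submodule.finrank_mono ?_) (rank_traces hle (cornerTrace U.u U.v) fun x y => ?_)
  · intro x hx
    refine ⟨U.u 0 * x * U.v 0, ?_⟩
    show ∑ s, U.v s * (U.u 0 * x * U.v 0) * U.u s = x
    rw [Finset.sum_eq_single 0]
    · rw [← mul_assoc, ← mul_assoc, U.hvu, if_pos rfl, mul_assoc, U.hvu, if_pos rfl,
        U.corner_mul_left hx, U.corner_mul_right hx]
    · intro s _ hs
      rw [← mul_assoc, ← mul_assoc, U.hvu, if_neg hs]
      simp
    · exact fun h => absurd (Finset.mem_univ _) h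
  · rw [cornerTrace_mul U.huv, cornerTrace_mul U.huv,
      Finset.sum_comm (f := fun s t => U.v s * y * U.u t * (U.v t * x * U.u s))]
    exact Finset.sum_congr rfl fun s _ => Finset.sum_congr rfl fun t _ =>
      hcomm _ (U.units_mem x s t) _ (U.units_mem y t s)

/-- The left ideal of a subspace of the corner, completed by `B (1 - i)`. -/
def modIdeal (H : Submodule k B) : Ideal B :=
  Ideal.span (insert (1 - U.i) (H : Set B))

/-- The span of the products of two elements of the radical of the corner. -/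
def radSq : Submodule k B := Submodule.span k {w | ∃ x ∈ U.rad, ∃ y ∈ U.rad, w = x * y}

/-- The hyperplanes used. -/
structure Hyper (H : Submodule k B) : Prop where
  sq : U.radSq ≤ H
  le : H ≤ U.rad

theorem corner_mul_mem {H : Submodule k B} (hH : U.Hyper H) {c h : B} (hc : c ∈ U.corner)
    (hh : h ∈ H) : c * h ∈ H ∧ h * c ∈ H := by
  have h1 := U.sub_mem_rad hc
  have hhc := (U.mem_rad.1 (hH.le hh)).1
  set c' := c - U.π c 0 0 • U.i
  have hc' : c = c' + U.π c 0 0 • U.i := (sub_add_cancel _ _).symm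
  constructor
  · rw [hc', add_mul, smul_mul_assoc, U.corner_mul_left hhc]
    exact H.add_mem (hH.sq (Submodule.subset_span ⟨c', h1, h, hH.le hh, rfl⟩)) (H.smul_mem _ hh)
  · rw [hc', mul_add, mul_smul_comm, U.corner_mul_right hhc]
    exact H.add_mem (hH.sq (Submodule.subset_span ⟨h, hH.le hh, c', h1, rfl⟩)) (H.smul_mem _ hh)

theorem corner_of_mem_modIdeal {H : Submodule k B} (hH : U.Hyper H) {x : B}
    (hx : x ∈ U.modIdeal H) : U.i * x * U.i ∈ H := by
  suffices h : ∀ b : B, U.i * (b * x) * U.i ∈ H by simpa using h 1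
  intro b
  induction hx using Submodule.span_induction generalizing b with
  | mem y hy =>
    rcases hy with rfl | hy
    · rw [mul_assoc, mul_assoc b, sub_mul, one_mul, U.hi.eq, sub_self, mul_zero, mul_zero]
      exact H.zero_mem
    · have hyc := (U.mem_rad.1 (hH.le hy)).1
      have : U.i * (b * y) * U.i = (U.i * b * U.i) * y := by
        rw [mul_assoc, mul_assoc b, U.corner_mul_right hyc, mul_assoc (U.i * b),
          U.corner_mul_left hyc, mul_assoc]
      rw [this]
      exact (U.corner_mul_mem hH (U.proj_mem b) hy).1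
  | zero => simp
  | add a c _ _ ha hc => rw [mul_add, mul_add, add_mul]; exact H.add_mem (ha b) (hc b)
  | smul r a _ ha => rw [smul_eq_mul, ← mul_assoc b r]; exact ha _

theorem mk_mul_i (H : Submodule k B) (x : B) :
    Submodule.Quotient.mk (p := U.modIdeal H) x = Submodule.Quotient.mk (x * U.i) := by
  rw [Submodule.Quotient.eq, ← mul_one_sub]
  exact (U.modIdeal H).mul_mem_left x (Ideal.subset_span (Set.mem_insert _ _))

theorem i_notMem {H : Submodule k B} (hH : U.Hyper H) : U.i ∉ U.modIdeal H := fun h => by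
  have h1 := (U.mem_rad.1 (hH.le (U.corner_of_mem_modIdeal hH h))).2
  rw [U.hi.eq, U.hi.eq, U.hπi] at h1
  have := congrFun (congrFun h1 0) 0
  rw [Matrix.single_apply_same, Matrix.zero_apply] at this
  exact one_ne_zero this

theorem nontrivial_quot {H : Submodule k B} (hH : U.Hyper H) :
    Nontrivial (B ⧸ U.modIdeal H) := by
  refine ⟨Submodule.Quotient.mk U.i, 0, fun h => ?_⟩
  rw [Submodule.Quotient.mk_eq_zero] at h
  exact U.i_notMem hH h

/-- A module map between two of the cyclic modules is a right multiplication by the corner. -/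
theorem exists_corner_of_hom {H H' : Submodule k B}
    (φ : (B ⧸ U.modIdeal H) →ₗ[B] (B ⧸ U.modIdeal H')) :
    ∃ c ∈ U.corner, ∀ x, φ (Submodule.Quotient.mk x) = Submodule.Quotient.mk (x * c) := by
  obtain ⟨c₀, hc₀⟩ := Submodule.Quotient.mk_surjective _ (φ (Submodule.Quotient.mk (1 : B)))
  refine ⟨U.i * c₀ * U.i, U.proj_mem c₀, fun x => ?_⟩
  have hsm : ∀ (K : Submodule k B) (a b : B),
      a • Submodule.Quotient.mk (p := U.modIdeal K) b = Submodule.Quotient.mk (a * b) := fun K a b => rfl
  rw [U.mk_mul_i H x, ← mul_one (x * U.i), ← hsm, map_smul, ← hc₀, hsm, U.mk_mul_i H' (x * U.i * c₀),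
    mul_assoc, mul_assoc, mul_assoc]

theorem pow_quot {H : Submodule k B} {φ : (B ⧸ U.modIdeal H) →ₗ[B] (B ⧸ U.modIdeal H)} {c : B}
    (h : ∀ x, φ (Submodule.Quotient.mk x) = Submodule.Quotient.mk (x * c)) (j : ℕ) (x : B) :
    (φ ^ j) (Submodule.Quotient.mk x) = Submodule.Quotient.mk (x * c ^ j) := by
  induction j generalizing x with
  | zero => simp
  | succ j ih => rw [pow_succ, Module.End.mul_apply, h, ih, mul_assoc, ← pow_succ']

theorem local_end [FiniteDimensional k B] {H : Submodule k B} (φ : (B ⧸ U.modIdeal H) →ₗ[B] (B ⧸ U.modIdeal H)) :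
    IsUnit φ ∨ IsNilpotent φ := by
  obtain ⟨c, hc, hφ⟩ := U.exists_corner_of_hom φ
  have hn := U.hker _ (U.mem_rad.1 (U.sub_mem_rad hc)).2
  set a := U.π c 0 0 with ha
  set c' := c - a • U.i with hc'
  obtain ⟨N, hN⟩ := hn
  by_cases h0 : a = 0
  · refine Or.inr ⟨N, LinearMap.ext fun y => ?_⟩
    obtain ⟨x, rfl⟩ := Submodule.Quotient.mk_surjective _ y
    rw [U.pow_quot hφ, show c = c' by rw [hc', h0, zero_smul, sub_zero], hN, mul_zero]
    rfl
  · refine Or.inl ((Module.End.isUnit_iff φ).2 ?_)
    have hsm : ∀ x : B, φ (Submodule.Quotient.mk x) =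
        Submodule.Quotient.mk (x * (a • (1 : B) + c')) := fun x => by
      rw [hφ, mul_add, mul_smul_comm, mul_one, show c = a • U.i + c' by rw [hc', add_sub_cancel],
        mul_add, mul_smul_comm, Submodule.Quotient.mk_add, Submodule.Quotient.mk_add,
        ← smul_one_mul, ← smul_one_mul a x]
      congr 1
      rw [← smul_eq_mul, Submodule.Quotient.mk_smul, ← smul_eq_mul (a • (1:B)) x,
        Submodule.Quotient.mk_smul, U.mk_mul_i H x]
    obtain ⟨w, hw⟩ : IsUnit (a • (1 : B) + c') := by
      have h1 : IsUnit (1 + a⁻¹ • c') := IsNilpotent.isUnit_one_add ⟨N, by rw [smul_pow, hN, smul_zero]⟩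
      have h2 : a • (1 : B) + c' = algebraMap k B a * (1 + a⁻¹ • c') := by
        rw [← Algebra.smul_def, smul_add, smul_smul, mul_inv_cancel₀ h0, one_smul]
      rw [h2]
      exact ((IsUnit.mk0 a h0).map (algebraMap k B)).mul h1
    have hsurj : Function.Surjective (φ.restrictScalars k) := fun y => by
      obtain ⟨x, rfl⟩ := Submodule.Quotient.mk_surjective _ y
      exact ⟨Submodule.Quotient.mk (x * (↑w⁻¹ : B)), by
        rw [LinearMap.restrictScalars_apply, hsm, ← hw, mul_assoc, Units.inv_mul, mul_one]⟩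
    exact ⟨LinearMap.injective_iff_surjective.2 hsurj, hsurj⟩

/-- At most `D` pairwise non-isomorphic cyclic modules with local endomorphism rings. -/
def FewModules (B : Type*) [Ring B] (D : ℕ) : Prop :=
  ∀ (n : ℕ) (N : Fin n → Ideal B), (∀ a, Nontrivial (B ⧸ N a)) →
    (∀ a (φ : Module.End B (B ⧸ N a)), IsUnit φ ∨ IsNilpotent φ) →
    (∀ a b, Nonempty ((B ⧸ N a) ≃ₗ[B] (B ⧸ N b)) → a = b) → n ≤ D

/-- With few modules the radical of the corner is generated by one element modulo its square. -/
theorem exists_gen [IsAlgClosed k] [FiniteDimensional k B] {D : ℕ} (hfew : FewModules B D) :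
    ∃ g ∈ U.rad, ∀ x ∈ U.rad, ∃ c : k, x - c • g ∈ U.radSq := by
  classical
  set V := U.rad.map U.radSq.mkQ with hV
  by_cases hle' : Module.finrank k V ≤ 1
  · obtain ⟨g', hg'⟩ := finrank_le_one_iff.1 hle'
    obtain ⟨g, hg, hge⟩ := g'.2
    refine ⟨g, hg, fun x hx => ?_⟩
    obtain ⟨c, hc⟩ := hg' ⟨U.radSq.mkQ x, x, hx, rfl⟩
    refine ⟨c, ?_⟩
    have hc' : c • (g' : B ⧸ U.radSq) = U.radSq.mkQ x := congrArg Subtype.val hc
    rw [← hge, ← map_smul, Submodule.mkQ_apply, Submodule.mkQ_apply, Submodule.Quotient.eq] at hc'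
    simpa using U.radSq.neg_mem hc'
  · exfalso
    have h2 : 1 < Module.finrank k V := not_le.1 hle'
    let bV := Module.finBasis k V
    let j₀ : Fin (Module.finrank k V) := ⟨0, by omega⟩
    let j₁ : Fin (Module.finrank k V) := ⟨1, h2⟩
    obtain ⟨g₁, hg₁, hg₁e⟩ := (bV j₀).2
    obtain ⟨g₂, hg₂, hg₂e⟩ := (bV j₁).2
    obtain ⟨F₀, hF₀⟩ := LinearMap.exists_extend (bV.coord j₀)
    obtain ⟨F₁, hF₁⟩ := LinearMap.exists_extend (bV.coord j₁)
    have hval : ∀ (F : (B ⧸ U.radSq) →ₗ[k] k) (j : Fin (Module.finrank k V)),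
        F ∘ₗ V.subtype = bV.coord j → ∀ g, U.radSq.mkQ g ∈ V → ∀ i,
          U.radSq.mkQ g = (bV i : B ⧸ U.radSq) → F (U.radSq.mkQ g) = if j = i then 1 else 0 := by
      intro F j hF g _ i hgi
      rw [hgi]
      refine (LinearMap.congr_fun hF (bV i)).trans ?_
      rw [Module.Basis.coord_apply, Module.Basis.repr_self, Finsupp.single_apply]
      exact if_congr eq_comm rfl rfl
    have hne : j₀ ≠ j₁ := fun h => by simpa [j₀, j₁] using congrArg Fin.val h
    have e00 := hval F₀ j₀ hF₀ g₁ ⟨g₁, hg₁, rfl⟩ j₀ hg₁e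
    have e01 := hval F₀ j₀ hF₀ g₂ ⟨g₂, hg₂, rfl⟩ j₁ hg₂e
    have e10 := hval F₁ j₁ hF₁ g₁ ⟨g₁, hg₁, rfl⟩ j₀ hg₁e
    have e11 := hval F₁ j₁ hF₁ g₂ ⟨g₂, hg₂, rfl⟩ j₁ hg₂e
    rw [if_pos rfl] at e00 e11
    rw [if_neg hne] at e01
    rw [if_neg hne.symm] at e10
    let H : k → Submodule k B := fun t =>
      U.rad ⊓ LinearMap.ker ((F₀ + t • F₁) ∘ₗ U.radSq.mkQ)
    have hsq : U.radSq ≤ U.rad := by
      refine Submodule.span_le.2 ?_
      rintro _ ⟨x, hx, y, hy, rfl⟩
      exact U.mem_rad.2 ⟨U.mul_mem_corner (U.mem_rad.1 hx).1 (U.mem_rad.1 hy).1,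
        by rw [map_mul, (U.mem_rad.1 hy).2, mul_zero]⟩
    have hHyp : ∀ t, U.Hyper (H t) := fun t =>
      ⟨le_inf hsq fun x hx => by
        rw [LinearMap.mem_ker, LinearMap.comp_apply,
          show U.radSq.mkQ x = 0 from (Submodule.Quotient.mk_eq_zero _).2 hx, map_zero], inf_le_left⟩
    have hmem : ∀ s t, g₂ - s • g₁ ∈ H t → s = t := fun s t h => by
      have h1 := LinearMap.mem_ker.1 (Submodule.mem_inf.1 h).2
      rw [LinearMap.comp_apply, map_sub, map_smul, map_sub, map_smul, LinearMap.add_apply,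
        LinearMap.add_apply, LinearMap.smul_apply, LinearMap.smul_apply, e00, e01, e10, e11] at h1
      simp only [zero_add, smul_eq_mul, mul_one, mul_zero, add_zero] at h1
      exact (sub_eq_zero.1 h1).symm
    have hself : ∀ s, g₂ - s • g₁ ∈ H s := fun s => by
      refine Submodule.mem_inf.2 ⟨U.rad.sub_mem hg₂ (U.rad.smul_mem _ hg₁), LinearMap.mem_ker.2 ?_⟩
      rw [LinearMap.comp_apply, map_sub, map_smul, map_sub, map_smul, LinearMap.add_apply,
        LinearMap.add_apply, LinearMap.smul_apply, LinearMap.smul_apply, e00, e01, e10, e11]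
      simp
    obtain ⟨lam⟩ : Nonempty (Fin (D + 1) ↪ k) :=
      ⟨Fin.valEmbedding.trans (Infinite.natEmbedding k)⟩
    have := hfew (D + 1) (fun a => U.modIdeal (H (lam a))) (fun a => U.nontrivial_quot (hHyp _))
      (fun a φ => U.local_end φ) fun a b ⟨e⟩ => ?_
    · omega
    · obtain ⟨c, hc, hφ⟩ := U.exists_corner_of_hom e.toLinearMap
      have hc' := U.sub_mem_rad hc
      set t := U.π c 0 0 with ht
      have ht0 : t ≠ 0 := fun h0 => by
        obtain ⟨y, hy⟩ := e.surjective (Submodule.Quotient.mk U.i)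
        obtain ⟨x, rfl⟩ := Submodule.Quotient.mk_surjective _ y
        rw [← LinearEquiv.coe_toLinearMap, hφ, Submodule.Quotient.eq] at hy
        have h1 := (U.mem_rad.1 ((hHyp (lam b)).le (U.corner_of_mem_modIdeal (hHyp _) hy))).2
        rw [h0, zero_smul, sub_zero] at hc'
        rw [map_mul, map_mul, map_sub, map_mul, (U.mem_rad.1 hc').2, mul_zero, zero_sub, mul_neg,
          neg_mul, neg_eq_zero, ← map_mul, ← map_mul, U.hi.eq, U.hi.eq, U.hπi] at h1
        have := congrFun (congrFun h1 0) 0
        rw [Matrix.single_apply_same, Matrix.zero_apply] at this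
        exact one_ne_zero this
      refine lam.injective (hmem _ _ ?_)
      set h := g₂ - lam a • g₁
      have hh : h ∈ H (lam a) := hself _
      have h0 : e (Submodule.Quotient.mk h) = 0 := by
        have : Submodule.Quotient.mk (p := U.modIdeal (H (lam a))) h = 0 :=
          (Submodule.Quotient.mk_eq_zero _).2 (Ideal.subset_span (Set.mem_insert_of_mem _ hh))
        rw [this, map_zero]
      rw [← LinearEquiv.coe_toLinearMap, hφ, Submodule.Quotient.mk_eq_zero] at h0
      have h1 := U.corner_of_mem_modIdeal (hHyp _) h0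
      have hhr := (hHyp (lam a)).le hh
      rw [U.mem_corner.1 (U.mul_mem_corner (U.mem_rad.1 hhr).1 hc)] at h1
      have h2 : h * (c - t • U.i) ∈ H (lam b) :=
        (hHyp _).sq (Submodule.subset_span ⟨h, hhr, _, hc', rfl⟩)
      have h3 := (H (lam b)).sub_mem h1 h2
      rw [mul_sub, sub_sub_cancel, mul_smul_comm, U.corner_mul_right (U.mem_rad.1 hhr).1] at h3
      exact ((H (lam b)).smul_mem_iff ht0).1 h3

/-- With few modules the corner is commutative. -/
theorem corner_comm [IsAlgClosed k] [FiniteDimensional k B] {D : ℕ} (hfew : FewModules B D) :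
    ∀ x ∈ U.corner, ∀ y ∈ U.corner, x * y = y * x := by
  classical
  obtain ⟨g, hg, hgen⟩ := U.exists_gen hfew
  obtain ⟨N, hN⟩ := U.hnilp
  set J := RingHom.ker U.π.toRingHom
  have hJ : ∀ {x}, x ∈ U.rad → x ∈ J := fun hx => (U.mem_rad.1 hx).2
  let S : Submodule k B := Submodule.span k (Set.range fun e : ℕ => g ^ (e + 1))
  have hcomm : ∀ x ∈ S, ∀ y ∈ S, x * y = y * x := by
    intro x hx y hy
    induction hx using Submodule.span_induction with
    | mem x hx =>
      obtain ⟨e, rfl⟩ := hx
      induction hy using Submodule.span_induction with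
      | mem y hy => obtain ⟨e', rfl⟩ := hy; exact (Commute.pow_pow_self g _ _).eq
      | zero => simp
      | add y y' _ _ h h' => rw [mul_add, add_mul, h, h']
      | smul c y _ h => rw [mul_smul_comm, smul_mul_assoc, h]
    | zero => simp
    | add x x' _ _ h h' => rw [add_mul, mul_add, h, h']
    | smul c x _ h => rw [smul_mul_assoc, mul_smul_comm, h]
  have hpow : ∀ e : ℕ, g ^ (e + 1) ∈ U.rad := fun e => by
    induction e with
    | zero => simpa using hg
    | succ e ih =>
      rw [pow_succ _ (e + 1)]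
      exact U.mem_rad.2 ⟨U.mul_mem_corner (U.mem_rad.1 ih).1 (U.mem_rad.1 hg).1,
        by rw [map_mul, (U.mem_rad.1 hg).2, mul_zero]⟩
  have hSr : S ≤ U.rad := Submodule.span_le.2 (by rintro _ ⟨e, rfl⟩; exact hpow e)
  have hSmul : ∀ x ∈ S, ∀ y ∈ S, x * y ∈ S := by
    intro x hx y hy
    have : ∀ e, g ^ (e + 1) * y ∈ S := fun e => by
      induction hy using Submodule.span_induction with
      | mem y hy =>
        obtain ⟨e', rfl⟩ := hy
        exact Submodule.subset_span ⟨e + e' + 1, by dsimp only; rw [← pow_add]; congr 1; omega⟩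
      | zero => simp
      | add y y' _ _ h h' => rw [mul_add]; exact S.add_mem h h'
      | smul c y _ h => rw [mul_smul_comm]; exact S.smul_mem c h
    induction hx using Submodule.span_induction with
    | mem x hx => obtain ⟨e, rfl⟩ := hx; exact this e
    | zero => simp
    | add x x' _ _ h h' => rw [add_mul]; exact S.add_mem h h'
    | smul c x _ h => rw [smul_mul_assoc]; exact S.smul_mem c h
  have hfilt : ∀ e : ℕ, ∀ x ∈ U.rad, ∃ s ∈ S, x - s ∈ J ^ (e + 1) := by
    intro e
    induction e with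
    | zero =>
      exact fun x hx => ⟨0, S.zero_mem, by rw [zero_add, sub_zero, Submodule.pow_one]; exact hJ hx⟩
    | succ e ih =>
      intro x hx
      obtain ⟨c, hc⟩ := hgen x hx
      suffices h : ∀ w ∈ U.radSq, ∃ s ∈ S, w - s ∈ J ^ (e + 2) by
        obtain ⟨s, hs, hs'⟩ := h _ hc
        refine ⟨c • g + s, S.add_mem (S.smul_mem c (Submodule.subset_span ⟨0, pow_one g⟩)) hs, ?_⟩
        rwa [← sub_sub]
      intro w hw
      induction hw using Submodule.span_induction with
      | mem w hw =>
        obtain ⟨a, ha, a', ha', rfl⟩ := hw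
        obtain ⟨s, hs, hs'⟩ := ih a ha
        obtain ⟨s', hs1, hs1'⟩ := ih a' ha'
        refine ⟨s * s', hSmul s hs s' hs1, ?_⟩
        rw [show a * a' - s * s' = (a - s) * a' + s * (a' - s') by noncomm_ring]
        refine (J ^ (e + 2)).add_mem ?_ ?_
        · rw [Submodule.pow_succ (M := J) (n := e + 1)]
          exact Ideal.mul_mem_mul hs' (hJ ha')
        · rw [Ideal.IsTwoSided.pow_succ (I := J) (n := e + 1)]
          exact Ideal.mul_mem_mul (hJ (hSr hs)) hs1'
      | zero => exact ⟨0, S.zero_mem, by simp⟩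
      | add a a' _ _ h h' =>
        obtain ⟨s, hs, hs'⟩ := h
        obtain ⟨s', hs1, hs1'⟩ := h'
        exact ⟨s + s', S.add_mem hs hs1, by
          rw [show a + a' - (s + s') = (a - s) + (a' - s') by abel]
          exact (J ^ (e + 2)).add_mem hs' hs1'⟩
      | smul c a _ h =>
        obtain ⟨s, hs, hs'⟩ := h
        exact ⟨c • s, S.smul_mem c hs, by
          rw [← smul_sub]; exact ((J ^ (e + 2)).restrictScalars k).smul_mem c hs'⟩
  have hRS : ∀ x ∈ U.rad, x ∈ S := fun x hx => by
    obtain ⟨s, hs, hs'⟩ := hfilt N x hx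
    have h0 := Ideal.pow_le_pow_right (Nat.le_succ N) hs'
    rw [hN] at h0
    rwa [sub_eq_zero.1 h0]
  intro x hx y hy
  have h1 := hcomm _ (hRS _ (U.sub_mem_rad hx)) _ (hRS _ (U.sub_mem_rad hy))
  simp only [sub_mul, mul_sub, smul_mul_assoc, mul_smul_comm, U.corner_mul_left hx,
    U.corner_mul_right hx, U.corner_mul_left hy, U.corner_mul_right hy, U.hi.eq] at h1
  linear_combination (norm := module) h1

end MatUnits

/-- The numerical consequence: a matrix algebra over a small corner. -/
theorem exists_sq_mul [IsAlgClosed k] [FiniteDimensional k B] [Nontrivial B]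
    (hone : ∀ (m : ℕ) (d : Fin m → ℕ) (P : B →ₐ[k] ∀ a, Matrix (Fin (d a)) (Fin (d a)) k),
      (∀ a, 0 < d a) → Function.Surjective P → m ≤ 1) {D : ℕ} (hfew : MatUnits.FewModules B D)
    {r : ℕ} (hle : ∀ W : Submodule k B, (∀ x y, x * y - y * x ∈ W) → Module.finrank k (B ⧸ W) ≤ r)
    {q : ℕ} (hq : ∀ i : B, IsIdempotentElem i →
      q ∣ Module.finrank k (LinearMap.range (LinearMap.mulRight k i))) :
    ∃ f m : ℕ, Module.finrank k B = f * (f * m) ∧ m ≤ r ∧ q ∣ f * m := by
  obtain ⟨U⟩ := nonempty_matUnits (k := k) (B := B) hone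
  exact ⟨U.n + 1, Module.finrank k U.corner, U.finrank_eq,
    U.finrank_corner_le (U.corner_comm hfew) hle, U.finrank_mulRight ▸ hq U.i U.hi⟩

end Cfsg.Agent.Lib.BlockAlg
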