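import Mathlib

/-!
# Counting non-isomorphic summands with local endomorphism rings

Non-isomorphic representations with local rings of intertwiners which are all summands of one
finite dimensional representation are at most as many as its dimension.
-/

set_option autoImplicit false

namespace Cfsg.Agent.Lib.BlockAlg

universe w

variable {k : Type*} [Field k] {S : Type*}

/-- A linear map intertwines two families of operators. -/
def Intertw {V W : Type*} [AddCommGroup V] [Module k V] [AddCommGroup W] [Module k W]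
    (ρ : S → Module.End k V) (σ : S → Module.End k W) (f : V →ₗ[k] W) : Prop :=
  ∀ g v, f (ρ g v) = σ g (f v)

theorem Intertw.comp {U V W : Type*} [AddCommGroup U] [Module k U] [AddCommGroup V] [Module k V]
    [AddCommGroup W] [Module k W] {τ : S → Module.End k U} {ρ : S → Module.End k V}
    {σ : S → Module.End k W} {f : V →ₗ[k] W} {h : U →ₗ[k] V} (hf : Intertw ρ σ f)
    (hh : Intertw τ ρ h) : Intertw τ σ (f ∘ₗ h) := fun g v => by
  simp only [LinearMap.comp_apply, hh g v, hf g (h v)]

variable {W : Type*} [AddCommGroup W] [Module k W] [FiniteDimensional k W] (ρ : S → Module.End k W)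
  {ι : Type*} (V : ι → Type w) [∀ i, AddCommGroup (V i)] [∀ i, Module k (V i)]
  [∀ i, Nontrivial (V i)] (σ : ∀ i, S → Module.End k (V i))

/-- Non-isomorphic local summands of `W` are at most `dim W` in number. -/
theorem card_le_finrank_of_summands
    (hloc : ∀ i (φ : Module.End k (V i)), Intertw (σ i) (σ i) φ → IsUnit φ ∨ IsNilpotent φ)
    (hniso : ∀ i j, (∃ e : V i ≃ₗ[k] V j, Intertw (σ i) (σ j) (e : V i →ₗ[k] V j)) → i = j)
    (hsum : ∀ i, ∃ (a : V i →ₗ[k] W) (b : W →ₗ[k] V i),
      Intertw (σ i) ρ a ∧ Intertw ρ (σ i) b ∧ b ∘ₗ a = LinearMap.id)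
    (s : Finset ι) : s.card ≤ Module.finrank k W := by
  classical
  suffices h : ∀ (s : Finset ι) (f : Module.End k W), f * f = f → Intertw ρ ρ f →
      (∀ i ∈ s, ∃ (a : V i →ₗ[k] W) (b : W →ₗ[k] V i), Intertw (σ i) ρ a ∧ Intertw ρ (σ i) b ∧
        f ∘ₗ a = a ∧ b ∘ₗ f = b ∧ b ∘ₗ a = LinearMap.id) →
      s.card ≤ Module.finrank k (LinearMap.range f) by
    refine (h s 1 (one_mul 1) (fun g v => rfl) fun i _ => ?_).trans (Submodule.finrank_le _)
    obtain ⟨a, b, ha, hb, hab⟩ := hsum i
    exact ⟨a, b, ha, hb, LinearMap.id_comp a, LinearMap.comp_id b, hab⟩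
  intro s
  induction s using Finset.induction_on with
  | empty => intros; simp
  | insert i₀ s hi₀ ih =>
    intro f hff hfρ hs
    obtain ⟨a, b, ha, hb, hfa, hbf, hab⟩ := hs i₀ (Finset.mem_insert_self _ _)
    have hfa' : ∀ v, f (a v) = a v := fun v => LinearMap.congr_fun hfa v
    have hbf' : ∀ v, b (f v) = b v := fun v => LinearMap.congr_fun hbf v
    have hab' : ∀ v, b (a v) = v := fun v => LinearMap.congr_fun hab v
    have hff' : ∀ v, f (f v) = f v := fun v => LinearMap.congr_fun hff v
    set f' : Module.End k W := f - a ∘ₗ b with hf'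
    have hf'v : ∀ v, f' v = f v - a (b v) := fun v => rfl
    have hbf'0 : ∀ v, b (f' v) = 0 := fun v => by rw [hf'v, map_sub, hbf', hab', sub_self]
    have hf'f' : f' * f' = f' := LinearMap.ext fun v => by
      show f' (f' v) = f' v
      rw [hf'v (f' v), hbf'0, map_zero, sub_zero, hf'v, map_sub, hff', hfa']
    have hf'ρ : Intertw ρ ρ f' := fun g v => by
      rw [hf'v, hf'v, map_sub, hfρ, hb g v, ha g (b v)]
    have hle : LinearMap.range f' ≤ LinearMap.range f := by
      rintro _ ⟨v, rfl⟩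
      exact ⟨v - a (b v), by rw [hf'v, map_sub, hfa']⟩
    have hlt : LinearMap.range f' < LinearMap.range f := by
      refine lt_of_le_of_ne hle fun heq => ?_
      obtain ⟨v₀, hv₀⟩ := exists_ne (0 : V i₀)
      obtain ⟨w, hw⟩ : a v₀ ∈ LinearMap.range f' := heq ▸ ⟨a v₀, hfa' v₀⟩
      exact hv₀ (by rw [← hab' v₀, ← hw, hbf'0])
    refine (Finset.card_insert_of_notMem hi₀).le.trans
      (Nat.succ_le_of_lt (lt_of_le_of_lt (ih f' hf'f' hf'ρ fun i hi => ?_)
        (Submodule.finrank_lt_finrank_of_lt hlt)))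
    obtain ⟨a', b', ha', hb', hfa'', hbf'', hab''⟩ := hs i (Finset.mem_insert_of_mem hi)
    have hab3 : ∀ v, b' (a' v) = v := fun v => LinearMap.congr_fun hab'' v
    have hfa3 : ∀ v, f (a' v) = a' v := fun v => LinearMap.congr_fun hfa'' v
    have hbf3 : ∀ v, b' (f v) = b' v := fun v => LinearMap.congr_fun hbf'' v
    set φ : Module.End k (V i) := (b' ∘ₗ a) ∘ₗ (b ∘ₗ a') with hφ
    set ψ : Module.End k (V i) := b' ∘ₗ f' ∘ₗ a' with hψ
    have hφρ : Intertw (σ i) (σ i) φ := (hb'.comp ha).comp (hb.comp ha')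
    have hψρ : Intertw (σ i) (σ i) ψ := hb'.comp (hf'ρ.comp ha')
    have hsum1 : ψ = 1 - φ := LinearMap.ext fun v => by
      show b' (f' (a' v)) = v - b' (a (b (a' v)))
      rw [hf'v, map_sub, hfa3, hab3]
    rcases hloc i φ hφρ with hu | hn
    · exfalso
      -- the summand is isomorphic to the first one
      have hne : i ≠ i₀ := fun h => hi₀ (h ▸ hi)
      set α : V i →ₗ[k] V i₀ := b ∘ₗ a' with hα
      set β : V i₀ →ₗ[k] V i := b' ∘ₗ a with hβ
      obtain ⟨U, hU⟩ := hu
      have hUe : ∀ v, (U : Module.End k (V i)) v = β (α v) := fun v => by rw [hU]; rfl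
      have hinv : ∀ v, (↑U⁻¹ : Module.End k (V i)) (β (α v)) = v := fun v => by
        rw [← hUe]
        exact LinearMap.congr_fun (Units.inv_mul U) v
      have hUinv : Intertw (σ i) (σ i) (↑U⁻¹ : Module.End k (V i)) := fun g v => by
        obtain ⟨w, rfl⟩ : ∃ w, (U : Module.End k (V i)) w = v :=
          ⟨_, LinearMap.congr_fun (Units.mul_inv U) v⟩
        have h1 := hφρ g w
        rw [← hU] at h1
        rw [← h1, hUe, hinv, hUe, hinv]
      set γ : V i₀ →ₗ[k] V i := (↑U⁻¹ : Module.End k (V i)) ∘ₗ β with hγ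
      have hγα : ∀ v, γ (α v) = v := hinv
      have hαρ : Intertw (σ i) (σ i₀) α := hb.comp ha'
      have hζρ : Intertw (σ i₀) (σ i₀) (α ∘ₗ γ) := hαρ.comp (hUinv.comp (hb'.comp ha))
      have hαinj : Function.Injective α := fun x y h => by rw [← hγα x, h, hγα]
      have hsurj : Function.Surjective α := by
        rcases hloc i₀ _ hζρ with hu' | ⟨N, hN⟩
        · obtain ⟨U', hU'⟩ := hu'
          intro y
          refine ⟨γ ((↑U'⁻¹ : Module.End k (V i₀)) y), ?_⟩
          have := LinearMap.congr_fun (Units.mul_inv U') y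
          rwa [hU'] at this
        · exfalso
          obtain ⟨v₀, hv₀⟩ := exists_ne (0 : V i)
          have hpow : ∀ n, ((α ∘ₗ γ : Module.End k (V i₀)) ^ n) (α v₀) = α v₀ := fun n => by
            induction n with
            | zero => rfl
            | succ n ih =>
              rw [pow_succ, Module.End.mul_apply, LinearMap.comp_apply, hγα, ih]
          exact hv₀ (hαinj (by rw [← hpow N, hN, map_zero]; rfl))
      exact hne (hniso i i₀ ⟨LinearEquiv.ofBijective α ⟨hαinj, hsurj⟩, hαρ⟩)
    · have hu2 : IsUnit ψ := hsum1 ▸ hn.isUnit_one_sub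
      obtain ⟨U, hU⟩ := hu2
      have hUinv : Intertw (σ i) (σ i) (↑U⁻¹ : Module.End k (V i)) := fun g v => by
        obtain ⟨w, rfl⟩ : ∃ w, (U : Module.End k (V i)) w = v :=
          ⟨_, LinearMap.congr_fun (Units.mul_inv U) v⟩
        have h1 := hψρ g w
        rw [← hU] at h1
        have hinv : ∀ v, (↑U⁻¹ : Module.End k (V i)) ((U : Module.End k (V i)) v) = v := fun v =>
          LinearMap.congr_fun (Units.inv_mul U) v
        rw [← h1, hinv, hinv]
      refine ⟨f' ∘ₗ a', (↑U⁻¹ : Module.End k (V i)) ∘ₗ b' ∘ₗ f', hf'ρ.comp ha',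
        hUinv.comp (hb'.comp hf'ρ), ?_, ?_, ?_⟩
      · exact LinearMap.ext fun v => LinearMap.congr_fun hf'f' (a' v)
      · exact LinearMap.ext fun v => congrArg (fun x => (↑U⁻¹ : Module.End k (V i)) (b' x))
          (LinearMap.congr_fun hf'f' v)
      · refine LinearMap.ext fun v => ?_
        have h1 : f' (f' (a' v)) = f' (a' v) := LinearMap.congr_fun hf'f' (a' v)
        show (↑U⁻¹ : Module.End k (V i)) (b' (f' (f' (a' v)))) = v
        rw [h1, show b' (f' (a' v)) = ψ v from rfl, ← hU]
        exact LinearMap.congr_fun (Units.inv_mul U) v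

end Cfsg.Agent.Lib.BlockAlg
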