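import Mathlib
import Cfsg.Agent.Lib.BlockAlg.Exchange
import Cfsg.Agent.Lib.BlockAlg.Corner
import Cfsg.Agent.Lib.Similarity.KerDim

/-!
# Few modules for an algebra projective relative to a cyclic p-subgroup

If the unit of an algebra generated by the images of a finite group is a relative trace from a
cyclic p-subgroup, every module is a summand of one induced from that subgroup (Higman), so there
are boundedly many modules of bounded dimension with local endomorphism rings.
-/

set_option autoImplicit false

namespace Cfsg.Agent.Lib.BlockAlg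

open Cfsg.Agent.Lib

universe u v

variable {k : Type*} [Field k] {G : Type u} [Group G] [Finite G] {B : Type v} [Ring B] [Algebra k B]
  [FiniteDimensional k B]

/-- The functions on `G` induced from the subgroup. -/
def indSpace {V : Type v} [AddCommGroup V] [Module k V] (P : Subgroup G)
    (τ : P → Module.End k V) : Submodule k (G → V) where
  carrier := {F | ∀ g : G, ∀ h : P, F (g * h) = τ h⁻¹ (F g)}
  add_mem' := fun {F F'} hF hF' g h => by simp only [Pi.add_apply, hF g h, hF' g h, map_add]
  zero_mem' := fun g h => by simp
  smul_mem' := fun c F hF g h => by simp only [Pi.smul_apply, hF g h, map_smul]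

set_option maxHeartbeats 1000000 in
/-- Modules of an algebra relatively projective to a cyclic `p`-subgroup. -/
theorem fewModules [Nontrivial B] {p : ℕ} [Fact p.Prime] [CharP k p] (u : G →* B)
    (hspan : Submodule.span k (Set.range u) = ⊤) (P : Subgroup G) {z : G}
    (hP : P = Subgroup.zpowers z) {e : ℕ} (hz : orderOf z = p ^ e) (x : B)
    (hx : ∀ h ∈ P, u h * x = x * u h) [Fintype (G ⧸ P)]
    (htr : ∑ c : G ⧸ P, u c.out * x * u c.out⁻¹ = 1) :
    ∃ D : ℕ, MatUnits.FewModules B D := by
  classical
  set d := Module.finrank k B with hd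
  set q := p ^ e with hq
  refine ⟨(d + 1) ^ (q + 1) * (Nat.card G * d), fun n N hnt hloc hiso => ?_⟩
  let σ : ∀ a, G → Module.End k (B ⧸ N a) := fun a g => Algebra.lsmul k k (B ⧸ N a) (u g)
  have hσ : ∀ a g v, σ a g v = u g • v := fun a g v => rfl
  have hlin : ∀ a b (φ : (B ⧸ N a) →ₗ[k] (B ⧸ N b)), Intertw (σ a) (σ b) φ →
      ∀ (c : B) v, φ (c • v) = c • φ v := fun a b φ hφ c v => by
    have hc : c ∈ Submodule.span k (Set.range u) := hspan ▸ Submodule.mem_top
    induction hc using Submodule.span_induction with
    | mem y hy => obtain ⟨g, rfl⟩ := hy; exact hφ g v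
    | zero => simp
    | add y y' _ _ h h' => rw [add_smul, add_smul, map_add, h, h']
    | smul t y _ h => rw [smul_assoc, smul_assoc, map_smul, h]
  let T : ∀ a, Module.End k (B ⧸ N a) := fun a => Algebra.lsmul k k (B ⧸ N a) (u z - 1)
  have hTq : ∀ a, T a ^ q = 0 := fun a => by
    have : CharP B p := charP_of_injective_algebraMap (FaithfulSMul.algebraMap_injective k B) p
    show (Algebra.lsmul k k (B ⧸ N a) (u z - 1)) ^ q = 0
    rw [← map_pow, hq, sub_pow_char_pow_of_commute p e (Commute.one_right _), one_pow, ← map_pow,
      show z ^ p ^ e = 1 from orderOf_dvd_iff_pow_eq_one.1 hz.dvd, map_one, sub_self, map_zero]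
  have hdim : ∀ a, Module.finrank k (B ⧸ N a) ≤ d := fun a =>
    LinearMap.finrank_le_finrank_of_surjective (f := ((N a).mkQ).restrictScalars k)
      (Submodule.mkQ_surjective _)
  let prof : Fin n → Fin (q + 1) → Fin (d + 1) := fun a j =>
    ⟨Module.finrank k (LinearMap.ker (T a ^ (j : ℕ))),
      Nat.lt_succ_of_le ((Submodule.finrank_le _).trans (hdim a))⟩
  have hfib : ∀ a₀, (Finset.univ.filter fun a => prof a = prof a₀).card ≤ Nat.card G * d := by
    intro a₀
    let τ : P → Module.End k (B ⧸ N a₀) := fun h => σ a₀ h
    let W := indSpace P τ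
    let ρ : G → Module.End k W := fun g =>
      LinearMap.restrict (LinearMap.funLeft k (B ⧸ N a₀) fun y : G => g⁻¹ * y)
        fun F (hF : F ∈ W) y h => by
          simp only [LinearMap.funLeft_apply]
          rw [← mul_assoc]
          exact hF _ h
    have hρ : ∀ g (F : W) y, (ρ g F : G → B ⧸ N a₀) y = (F : G → B ⧸ N a₀) (g⁻¹ * y) := fun _ _ _ => rfl
    have hW : Module.finrank k W ≤ Nat.card G * d := by
      cases nonempty_fintype G
      refine (Submodule.finrank_le _).trans ?_
      rw [Module.finrank_pi_fintype, Finset.sum_const, smul_eq_mul, Finset.card_univ,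
        Nat.card_eq_fintype_card]
      exact Nat.mul_le_mul_left _ (hdim a₀)
    refine le_trans ?_ hW
    set s := Finset.univ.filter fun a => prof a = prof a₀
    have := card_le_finrank_of_summands ρ (fun a : s => B ⧸ N a) (fun a => σ a)
      (fun a φ hφ => ?_) (fun a b ⟨ε, hε⟩ => ?_) (fun a => ?_) Finset.univ
    · simpa using this
    · let φ' : Module.End B (B ⧸ N a) :=
        { toFun := φ, map_add' := φ.map_add, map_smul' := hlin _ _ φ hφ }
      rcases hloc a φ' with h | ⟨j, hj⟩
      · exact Or.inl ((Module.End.isUnit_iff φ).2 ((Module.End.isUnit_iff φ').1 h))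
      · refine Or.inr ⟨j, LinearMap.ext fun v => ?_⟩
        have hpow : ∀ i, (φ' ^ i) v = (φ ^ i) v := fun i => by
          induction i with
          | zero => rfl
          | succ i ih => rw [pow_succ', pow_succ', Module.End.mul_apply, Module.End.mul_apply, ih]; rfl
        rw [← hpow, hj]
        rfl
    · refine Subtype.ext (hiso a b ⟨?_⟩)
      exact { toFun := ε, map_add' := ε.map_add, map_smul' := hlin _ _ _ hε,
              invFun := ε.symm, left_inv := ε.left_inv, right_inv := ε.right_inv }
    · obtain ⟨a, ha⟩ := a
      have hpr : prof a = prof a₀ := (Finset.mem_filter.1 ha).2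
      obtain ⟨ε, hε⟩ := Similarity.exists_conj_of_kerDim (T a) (T a₀) fun r hr hrm j => by
        by_cases hrX : r = Polynomial.X
        · subst hrX
          rw [Polynomial.aeval_X_pow, Polynomial.aeval_X_pow]
          rcases le_or_gt j q with hj | hj
          · exact congrArg Fin.val (congrFun hpr ⟨j, Nat.lt_succ_of_le hj⟩)
          · have h0 : ∀ b, T b ^ j = 0 := fun b => pow_eq_zero_of_le hj.le (hTq b)
            have hlast := congrArg Fin.val (congrFun hpr ⟨q, Nat.lt_succ_self q⟩)
            change Module.finrank k (LinearMap.ker (T a ^ q)) =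
              Module.finrank k (LinearMap.ker (T a₀ ^ q)) at hlast
            rw [hTq, hTq] at hlast
            rw [h0, h0]
            exact hlast
        · have key : ∀ b, Module.finrank k (LinearMap.ker (Polynomial.aeval (T b) (r ^ j))) = 0 := by
            intro b
            have hcp : IsCoprime r Polynomial.X := (hr.coprime_iff_not_dvd).2 fun hd' =>
              hrX (Polynomial.eq_of_monic_of_associated hrm Polynomial.monic_X
                (hr.associated_of_dvd Polynomial.irreducible_X hd'))
            obtain ⟨c₁, c₂, hc⟩ := hcp.pow (m := j) (n := q)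
            have h1 := congrArg (Polynomial.aeval (T b)) hc
            rw [map_add, map_mul, map_mul, map_pow (Polynomial.aeval (T b)) Polynomial.X,
              Polynomial.aeval_X, hTq, mul_zero, add_zero, map_one] at h1
            rw [Submodule.finrank_eq_zero, LinearMap.ker_eq_bot']
            intro v hv
            have h2 := LinearMap.congr_fun h1 v
            rw [Module.End.mul_apply, hv, map_zero] at h2
            exact h2.symm
          rw [key, key]
      have hεz : ∀ v, ε (u z • v) = u z • ε v := fun v => by
        have h1 : ε ((u z - 1) • v) = (u z - 1) • ε v := hε v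
        rw [sub_smul, sub_smul, one_smul, one_smul, map_sub] at h1
        exact sub_left_inj.1 h1
      have hεP : ∀ h ∈ P, ∀ v, ε (u h • v) = u h • ε v := by
        intro h hh v
        rw [hP, ← mem_powers_iff_mem_zpowers] at hh
        obtain ⟨i, rfl⟩ := hh
        induction i generalizing v with
        | zero => simp
        | succ i ih => simp only [pow_succ, map_mul, mul_smul] at ih ⊢; rw [ih, hεz]
      let ι : (B ⧸ N a) →ₗ[k] W :=
        { toFun := fun v => ⟨fun y => ε ((x * u y⁻¹) • v), fun y h => by
            show ε ((x * u (y * (h : G))⁻¹) • v) = σ a₀ _ (ε ((x * u y⁻¹) • v))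
            rw [hσ, ← hεP _ (h⁻¹).2, smul_smul, ← mul_assoc, mul_inv_rev, map_mul,
              ← mul_assoc, Subgroup.coe_inv, hx _ (inv_mem h.2)]⟩
          map_add' := fun v w => Subtype.ext (funext fun y => by simp [smul_add])
          map_smul' := fun c v => Subtype.ext (funext fun y => by simp [smul_comm _ c]) }
      have hι : ∀ v y, (ι v : G → B ⧸ N a₀) y = ε ((x * u y⁻¹) • v) := fun _ _ => rfl
      let π : W →ₗ[k] (B ⧸ N a) :=
        { toFun := fun F => ∑ c : G ⧸ P, u c.out • ε.symm ((F : G → B ⧸ N a₀) c.out)
          map_add' := fun F F' => by simp [smul_add, Finset.sum_add_distrib]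
          map_smul' := fun c F => by
            simp only [Submodule.coe_smul, Pi.smul_apply, map_smul, RingHom.id_apply, Finset.smul_sum]
            exact Finset.sum_congr rfl fun y _ => smul_comm _ _ _ }
      refine ⟨ι, π, fun g v => Subtype.ext (funext fun y => ?_), fun g F => ?_,
        LinearMap.ext fun v => ?_⟩
      · rw [hρ, hι, hι, hσ, smul_smul, mul_assoc, mul_inv_rev, inv_inv, map_mul]
      · show ∑ c : G ⧸ P, u c.out • ε.symm ((ρ g F : G → B ⧸ N a₀) c.out) =
          u g • ∑ c : G ⧸ P, u c.out • ε.symm ((F : G → B ⧸ N a₀) c.out)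
        have hcst : ∀ (y : G) (h : P), u (y * h) • ε.symm ((F : G → B ⧸ N a₀) (y * h)) =
            u y • ε.symm ((F : G → B ⧸ N a₀) y) := fun y h => by
          rw [F.2 y h, map_mul, mul_smul]
          congr 1
          refine ε.injective ?_
          rw [hεP _ h.2, ε.apply_symm_apply, ε.apply_symm_apply]
          show u (h : G) • σ a₀ ((h⁻¹ : P) : G) _ = _
          rw [hσ, smul_smul, ← map_mul, Subgroup.coe_inv, mul_inv_cancel, map_one, one_smul]
        rw [Finset.smul_sum, ← Equiv.sum_comp (MulAction.toPerm g : Equiv.Perm (G ⧸ P))]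
        refine Finset.sum_congr rfl fun c _ => ?_
        obtain ⟨h, hh⟩ := QuotientGroup.mk_out_eq_mul P (g * c.out)
        have hgc : (MulAction.toPerm g : Equiv.Perm (G ⧸ P)) c = QuotientGroup.mk (g * c.out) := by
          conv_lhs => rw [← QuotientGroup.out_eq' c]
          rfl
        rw [hgc, hρ, hh, show g⁻¹ * (g * c.out * (h : G)) = c.out * h by group, mul_assoc g, map_mul,
          mul_smul, hcst]
      · show ∑ c : G ⧸ P, u c.out • ε.symm (ε ((x * u c.out⁻¹) • v)) = v
        simp only [LinearEquiv.symm_apply_apply, smul_smul, ← mul_assoc, ← Finset.sum_smul, htr,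
          one_smul]
  have h1 : (Finset.univ : Finset (Fin n)).card ≤
      (Nat.card G * d) * (Finset.univ.image prof).card := by
    refine Finset.card_le_mul_card_image _ _ fun c hc => ?_
    obtain ⟨a₀, -, rfl⟩ := Finset.mem_image.1 hc
    exact hfib a₀
  rw [Finset.card_univ, Fintype.card_fin] at h1
  refine h1.trans ?_
  rw [mul_comm]
  refine Nat.mul_le_mul_right _ ((Finset.card_le_univ _).trans ?_)
  simp

end Cfsg.Agent.Lib.BlockAlg
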