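import Mathlib
import Cfsg.Agent.Lib.BlockAlg.Block
import Cfsg.Agent.Lib.BlockAlg.Higman
import Cfsg.Agent.Lib.Blocks.DefectProps
import Cfsg.Agent.Lib.BrauerMap.Embed
import Cfsg.Agent.S4491

/-!
# The algebra of a block with cyclic defect group and one simple module

The unit is a relative trace from a defect group; with a cyclic one and a single simple module the
number of characters is at least the order of the defect group.
-/

set_option autoImplicit false

namespace Cfsg.Agent.Lib.BlockAlg

open Cfsg MonoidAlgebra
open Cfsg.Agent.Lib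
open Cfsg.Agent.Lib.Blocks

universe u

attribute [local instance] Classical.propDecidable

variable {G : Type u} [Group G] [Fintype G] {p : ℕ} [Fact p.Prime] {M : Ideal AlgInt} [M.IsPrime]
  {B : Set (IrrCharacter G)}

/-- The unit of the block algebra is a relative trace from a defect group. -/
theorem exists_trace_eq_one (hM : IsPModular p M) (hB : IsPBlock M B) {P : Subgroup G}
    (hP : IsDefectGroup p M B P) [Fintype (G ⧸ P)] :
    ∃ x : Alg hB, (∀ h ∈ P, elt hB h * x = x * elt hB h) ∧
      ∑ c : G ⧸ P, elt hB c.out * x * elt hB c.out⁻¹ = 1 := by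
  haveI := charP_residue hM
  obtain ⟨g, hg, hgP⟩ := isDefectGroup_iff.1 hP
  obtain ⟨χ, hχ⟩ := isPBlock_nonempty hB
  set C := Subgroup.centralizer ({g} : Set G) with hC
  have hcomm : ∀ h ∈ P, h * g = g * h := fun h hh =>
    Subgroup.mem_centralizer_singleton_iff.1 (hgP.2.1 hh)
  -- the index prime to `p`
  have hidx : Nat.card C = Nat.card P * P.relIndex C :=
    (Subgroup.card_mul_index (P.subgroupOf C)).symm.trans (congrArg (· * _)
      (Nat.card_congr (Subgroup.subgroupOfEquivOfLe hgP.2.1).toEquiv))
  have hn : ¬ p ∣ P.relIndex C := fun hd => by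
    have h1 : p ^ ((Nat.card C).factorization p + 1) ∣ Nat.card C := by
      rw [pow_succ]
      nth_rw 2 [hidx]
      rw [← hgP.2.2]
      exact Nat.mul_dvd_mul_left _ hd
    exact Nat.pow_succ_factorization_not_dvd Nat.card_pos.ne' (Fact.out : p.Prime) h1
  -- the class sum
  set w := omegaBar M χ (classSumR M g) with hw
  have hw0 : w ≠ 0 := mt (omegaBar_classSumR_eq_zero_iff χ g).1 (hg.2.2 χ hχ)
  obtain ⟨a, ha⟩ := IsLocalRing.residue_surjective (R := localRing M) w
  set z := proj hB (classSum (Residue M) g) with hz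
  have hzc : ∀ y, z * y = y * z := fun y => by
    obtain ⟨v, rfl⟩ := proj_surjective hB y
    rw [hz, ← map_mul, ← map_mul, (Subalgebra.mem_center_iff.1 (classSum_mem_center g) v)]
  have hnil : IsNilpotent (z - algebraMap (Residue M) (Alg hB) w) := by
    have h := BrauerMap.isNilpotent_toF_mul_sub (blockIdem M hB) (classSumR M g) a fun ψ hψ => by
      rw [omegaBar_blockIdem] at hψ
      by_cases hψb : ψ ∈ B
      · rw [omegaBar_eq_of_sameBlock (sameBlock_of_mem hB hψb hχ)]
        exact ha.symm
      · rw [if_neg hψb] at hψ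
        exact absurd rfl hψ
    have h2 := h.map (proj hB)
    suffices key : proj hB (toF M G ((blockIdem M hB * (classSumR M g - algebraMap _ _ a) :
        RCenter M G) : MonoidAlgebra (localRing M) G)) = z - algebraMap (Residue M) (Alg hB) w by
      rwa [key] at h2
    rw [MulMemClass.coe_mul, map_mul, show toF M G ((blockIdem M hB : RCenter M G) :
      MonoidAlgebra (localRing M) G) = idem hB from rfl, proj_idem_mul, AddSubgroupClass.coe_sub,
      map_sub, map_sub, hz]
    congr 1
    · congr 1
      exact map_classSum (residue M) g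
    · rw [← ha, ← AlgHom.commutes (proj hB)]
      congr 1
      simp [toF, MonoidAlgebra.coe_algebraMap]
  obtain ⟨Z, hZ⟩ : IsUnit z := by
    have h1 : IsUnit (algebraMap (Residue M) (Alg hB) w) := (IsUnit.mk0 w hw0).map _
    have h2 := hnil.isUnit_add_left_of_commute h1 (Algebra.commutes _ _).symm
    rwa [add_comm, sub_add_cancel, ] at h2
  set m : Residue M := (P.relIndex C : Residue M) with hm
  have hm0 : m ≠ 0 := fun h => hn ((CharP.cast_eq_zero_iff (Residue M) p _).1 h)
  have hZc : ∀ y, (↑Z⁻¹ : Alg hB) * y = y * ↑Z⁻¹ := fun y => by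
    refine (Commute.units_inv_left ?_).eq
    rw [Commute, SemiconjBy, hZ]
    exact hzc y
  refine ⟨m⁻¹ • ((↑Z⁻¹ : Alg hB) * elt hB g), fun h hh => ?_, ?_⟩
  · rw [mul_smul_comm, smul_mul_assoc, ← mul_assoc, ← hZc, mul_assoc, mul_assoc, ← map_mul,
      ← map_mul, hcomm h hh]
  · -- the trace of `g` is a multiple of its class sum
    have hcount : ∀ x : G, (Finset.univ.filter fun c : G ⧸ P => c.out * g * c.out⁻¹ = x).card *
        Nat.card P = if IsConj g x then Nat.card C else 0 := by
      intro x
      have h1 : (Finset.univ.filter fun h : G => h * g * h⁻¹ = x).card =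
          (Finset.univ.filter fun c : G ⧸ P => c.out * g * c.out⁻¹ = x).card * Nat.card P := by
        rw [Finset.card_eq_sum_card_fiberwise (f := fun h : G => (h : G ⧸ P))
          (t := Finset.univ) fun h _ => Finset.mem_univ _, Finset.card_filter, Finset.sum_mul]
        refine Finset.sum_congr rfl fun c _ => ?_
        have hconst : ∀ h : G, (h : G ⧸ P) = c → h * g * h⁻¹ = c.out * g * c.out⁻¹ := fun h hhc => by
          obtain ⟨d, hd⟩ := QuotientGroup.mk_out_eq_mul P h
          rw [← hhc, hd]
          have := hcomm (d : G) d.2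
          calc h * g * h⁻¹ = h * (g * (d : G)) * (d : G)⁻¹ * h⁻¹ := by group
            _ = _ := by rw [← this]; group
        by_cases hx : c.out * g * c.out⁻¹ = x
        · rw [if_pos hx, one_mul, Nat.card_eq_fintype_card]
          rw [← Finset.card_univ (α := P)]
          refine (Finset.card_nbij' (fun d : P => c.out * (d : G))
            (fun h => if hh : c.out⁻¹ * h ∈ P then ⟨_, hh⟩ else 1) ?_ ?_ ?_ ?_).symm
          · intro d _
            have hcd : ((c.out * (d : G) : G) : G ⧸ P) = c := by
              rw [QuotientGroup.mk_mul_of_mem _ d.2, QuotientGroup.out_eq']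
            exact Finset.mem_filter.2 ⟨Finset.mem_filter.2 ⟨Finset.mem_univ _,
              (hconst _ hcd).trans hx⟩, hcd⟩
          · intro h _
            exact Finset.mem_univ _
          · intro d _
            simp
          · intro h hh
            have h' : (h : G ⧸ P) = c := (Finset.mem_filter.1 hh).2
            have hmem : c.out⁻¹ * h ∈ P :=
              QuotientGroup.eq.1 ((QuotientGroup.out_eq' c).trans h'.symm)
            simp only [dif_pos hmem, mul_inv_cancel_left]
        · rw [if_neg hx, zero_mul, Finset.card_eq_zero, Finset.filter_eq_empty_iff]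
          exact fun h hh hhc => hx ((hconst h hhc).symm.trans (Finset.mem_filter.1 hh).2)
      rw [← h1]
      split_ifs with hx
      · obtain ⟨b, hb⟩ := isConj_iff.1 hx
        rw [Nat.card_eq_fintype_card, ← Finset.card_univ]
        refine Finset.card_nbij' (fun h => if hh : b⁻¹ * h ∈ C then ⟨_, hh⟩ else 1)
          (fun d : C => b * (d : G)) ?_ ?_ ?_ ?_
        · intro h _
          exact Finset.mem_univ _
        · intro d _
          refine Finset.mem_filter.2 ⟨Finset.mem_univ _, ?_⟩
          have := Subgroup.mem_centralizer_singleton_iff.1 d.2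
          calc b * (d : G) * g * (b * (d : G))⁻¹ = b * ((d : G) * g) * (d : G)⁻¹ * b⁻¹ := by group
            _ = x := by rw [this, ← hb]; group
        · intro h hh
          have h' : h * g * h⁻¹ = x := (Finset.mem_filter.1 hh).2
          have hmem : b⁻¹ * h ∈ C := Subgroup.mem_centralizer_singleton_iff.2 (by
            calc b⁻¹ * h * g = b⁻¹ * (h * g * h⁻¹) * h := by group
              _ = b⁻¹ * (b * g * b⁻¹) * h := by rw [h', hb]
              _ = g * (b⁻¹ * h) := by group)
          simp only [dif_pos hmem, mul_inv_cancel_left]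
        · intro d _
          simp
      · rw [Finset.card_eq_zero, Finset.filter_eq_empty_iff]
        exact fun h _ hh => hx (isConj_iff.2 ⟨h, hh⟩)
    have hsum : ∑ c : G ⧸ P, elt hB (c.out * g * c.out⁻¹) = m • z := by
      rw [hz, proj_eq_sum, Finset.smul_sum,
        ← Finset.sum_fiberwise (s := Finset.univ) (g := fun c : G ⧸ P => c.out * g * c.out⁻¹)]
      refine Finset.sum_congr rfl fun x _ => ?_
      rw [Finset.sum_congr rfl fun c hc => congrArg (elt hB) (Finset.mem_filter.1 hc).2,
        Finset.sum_const, coeff_classSum, ← Nat.cast_smul_eq_nsmul (Residue M), smul_smul, hm]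
      congr 1
      have hc := hcount x
      split_ifs at hc ⊢ with hx
      · rw [hidx, mul_comm (Nat.card P)] at hc
        rw [mul_one, Nat.eq_of_mul_eq_mul_right Nat.card_pos hc]
      · rw [mul_zero, (Nat.mul_eq_zero.1 hc).resolve_right Nat.card_pos.ne', Nat.cast_zero]
    calc ∑ c : G ⧸ P, elt hB c.out * (m⁻¹ • ((↑Z⁻¹ : Alg hB) * elt hB g)) * elt hB c.out⁻¹
        = ∑ c : G ⧸ P, m⁻¹ • ((↑Z⁻¹ : Alg hB) * elt hB (c.out * g * c.out⁻¹)) :=
          Finset.sum_congr rfl fun c _ => by
            rw [mul_smul_comm, smul_mul_assoc, ← mul_assoc, ← hZc, mul_assoc, mul_assoc, ← map_mul,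
              ← map_mul, ← mul_assoc]
      _ = 1 := by
          rw [← Finset.smul_sum, ← Finset.mul_sum, hsum, mul_smul_comm, smul_smul,
            inv_mul_cancel₀ hm0, one_smul, ← hZ, Units.inv_mul]

/-- A block with one Brauer character and cyclic defect group has at least as many characters as
the defect group has elements. -/
theorem card_defectGroup_le (hM : IsPModular p M) (hB : IsPBlock M B) {P : Subgroup G}
    (hP : IsDefectGroup p M B P) (hcyc : IsCyclic P) (hl : blockRank p B = 1) :
    Nat.card P ≤ Nat.card B := by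
  haveI := charP_residue hM
  haveI := Contrib.isAlgClosed_residue hM
  haveI : Nontrivial (Alg hB) := Module.nontrivial_of_finrank_pos (R := Residue M) (finrank_pos hB)
  haveI : Fintype (G ⧸ P) := Fintype.ofFinite _
  obtain ⟨z, hz⟩ := (Subgroup.isCyclic_iff_exists_zpowers_eq_top P).1 hcyc
  obtain ⟨e, he⟩ := IsPGroup.iff_orderOf.1 (Blocks.isPGroup_of_isDefectGroup hP)
    ⟨z, hz ▸ Subgroup.mem_zpowers z⟩
  rw [Subgroup.orderOf_mk] at he
  obtain ⟨x, hx, hx1⟩ := exists_trace_eq_one hM hB hP
  obtain ⟨D, hD⟩ := fewModules (k := Residue M) (elt hB) (span_elt hB) P hz.symm he x hx hx1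
  obtain ⟨S⟩ : Nonempty (Sylow p G) := inferInstance
  obtain ⟨f, m, hdim, hmle, hdvd⟩ := exists_sq_mul
    (fun m d Q hd hQ => (card_factors_le hB hM d Q hd hQ).trans hl.le) hD
    (finrank_quot_le hB) fun i hi => card_dvd_finrank_mulRight hB hM S.2 hi
  refine le_trans ?_ hmle
  rw [card_defectGroup hM hB hP]
  -- compare the exponents of `p`
  set A := (Nat.card G).factorization p with hA
  have hpos := finrank_pos hB
  rw [hdim] at hpos
  have hf : f ≠ 0 := fun h => by simp [h] at hpos
  have hfm : f * m ≠ 0 := fun h => by simp [h] at hpos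
  have hm0 : m ≠ 0 := fun h => by simp [h] at hpos
  have h1 := congrArg (fun n => n.factorization p) hdim
  rw [finrank_alg, ← finsum_mem_eq_toFinset_sum] at h1
  simp only [S4491.result p M hM B hB] at h1
  rw [Nat.factorization_mul hf hfm, Nat.factorization_mul hf hm0, Finsupp.add_apply,
    Finsupp.add_apply, ← hA] at h1
  have h2 : A ≤ f.factorization p + m.factorization p := by
    rw [Sylow.card_eq_multiplicity] at hdvd
    have := (Fact.out : p.Prime).pow_dvd_iff_le_factorization hfm |>.1 hdvd
    rwa [Nat.factorization_mul hf hm0, Finsupp.add_apply] at this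
  have h3 : blockDefect p B ≤ A := Blocks.blockDefect_le B
  exact Nat.le_of_dvd (Nat.pos_of_ne_zero hm0)
    ((pow_dvd_pow p (by omega : blockDefect p B ≤ m.factorization p)).trans (Nat.ordProj_dvd m p))

end Cfsg.Agent.Lib.BlockAlg
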