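import Mathlib
import Cfsg.Agent.Lib.NilBlock.Form

/-!
# The number of characters of a block whose inertial quotient acts freely

If a block and all its proper subsections have one irreducible Brauer character and the inertial
quotient, of order `e`, acts freely, then `e (k - 1) ≤ |D| - 1`.
-/

set_option autoImplicit false

namespace Cfsg.Agent.Lib.BlockAlg

open Cfsg
open Cfsg.Agent.Lib
open Cfsg.Agent.Lib.BrauerPairs
open Cfsg.Agent.Lib.NilBlock
open scoped ComplexConjugate

universe u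

attribute [local instance] Classical.propDecidable

variable {G : Type u} [Group G] [Fintype G] {p : ℕ} {M : Ideal AlgInt} [Fact p.Prime] [M.IsPrime]
  {B : Set (IrrCharacter G)} {b : BrauerPairIdx G}

set_option maxHeartbeats 2000000 in
/-- The count of the subsections of a block with free inertial quotient. -/
theorem stab_mul_card_le (hM : IsPModular p M) (hmax : IsMaximalBrauerPair p M B b.1 b.2)
    (hl : blockRank p B = 1) (hl' : ∀ u ∈ b.1, u ≠ 1 → blockRank p (bu p M b u).2 = 1)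
    (hfree : ∀ x ∈ pairStab hmax.1.1.2, ∀ u ∈ b.1, u ≠ 1 → x * u * x⁻¹ = u →
      x ∈ Subgroup.centralizer (b.1 : Set G)) :
    Nat.card (pairStab hmax.1.1.2) * (Nat.card B - 1) ≤
      Nat.card (Subgroup.centralizer (b.1 : Set G)) * (Nat.card b.1 - 1) := by
  have hB : IsPBlock M B := hmax.1.2.1
  set T := pairStab hmax.1.1.2 with hTdef
  set K := Subgroup.centralizer (b.1 : Set G)
  let V := (pElems p G).filter fun v => v ≠ 1
  let A : G → Finset (BrauerPairIdx G) := fun v =>
    (Star.pairsOn M (Subgroup.zpowers v)).filter fun a => IsBrauerPairOf p M B a.1 a.2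
  let cst : G → ℕ := fun v => Nat.card (Subgroup.centralizer (Subgroup.zpowers v : Set G))
  have hblock : ∀ w ∈ b.1, IsPBlock M (bu p M b w).2 := fun w hw =>
    (isBrauerPairOf_bu hM hmax hw).1.2
  have hmemconj : ∀ x ∈ T, ∀ w ∈ b.1, x * w * x⁻¹ ∈ b.1 := fun x hx w hw =>
    (Subgroup.mem_normalizer_iff.1 ((mem_pairStab_iff hmax.1.1.2).1 hx).1 w).1 hw
  have hconj : ∀ x ∈ T, ∀ w ∈ b.1, conjPair x (bu p M b w) = bu p M b (x * w * x⁻¹) := by
    intro x hx w hw
    have h := pairLE_conj (bu_le hM hmax.1.1 hw) x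
    rw [show conjPair x b = b from hx] at h
    refine eq_bu hM hmax.1.1 (hmemconj x hx w hw) h ?_
    rw [conjPair_fst, bu_fst, MonoidHom.map_zpowers]
    rfl
  -- the trace of the sections
  have hk : Nat.card G * Nat.card B = Nat.card G + ∑ v ∈ V, cst v * (A v).card := by
    have hG : (Nat.card G : ℂ) ≠ 0 := Chars.natCard_ne_zero
    have key : (Nat.card G : ℂ) * (Nat.card B : ℂ) = ∑ v ∈ pElems p G,
        (cst v : ℂ) * ∑ a ∈ Star.pairsOn M (Subgroup.zpowers v), ∑ χ ∈ B.toFinset, con p v a χ χ := by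
      calc (Nat.card G : ℂ) * (Nat.card B : ℂ)
          = ∑ χ ∈ B.toFinset, (Nat.card G : ℂ) * classInner (χ : G → ℂ) (χ : G → ℂ) := by
            simp only [Chars.classInner_irr_self, mul_one, Finset.sum_const, nsmul_eq_mul,
              Set.toFinset_card, Nat.card_eq_fintype_card (α := B)]
            ring
        _ = ∑ χ ∈ B.toFinset, ∑ v ∈ pElems p G,
            (cst v : ℂ) * ∑ a ∈ Star.pairsOn M (Subgroup.zpowers v), con p v a χ χ := by
            refine Finset.sum_congr rfl fun χ _ => ?_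
            rw [inner_eq_sum_sections hM hmax]
            refine Finset.sum_congr rfl fun v _ => ?_
            rw [sum_con_pairsOn, ← mul_assoc, mul_inv_cancel₀ Chars.natCard_ne_zero, one_mul]
        _ = _ := by
            rw [Finset.sum_comm]
            refine Finset.sum_congr rfl fun v _ => ?_
            rw [← Finset.mul_sum, Finset.sum_comm]
    have h1mem : (1 : G) ∈ pElems p G := mem_pElems.2 ⟨0, by simp⟩
    rw [← Finset.add_sum_erase _ _ h1mem] at key
    have h1 : (cst 1 : ℂ) * ∑ a ∈ Star.pairsOn M (Subgroup.zpowers (1 : G)),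
        ∑ χ ∈ B.toFinset, con p 1 a χ χ = (Nat.card G : ℂ) := by
      rw [Finset.sum_comm, Finset.mul_sum]
      have htop : Subgroup.centralizer (Subgroup.zpowers (1 : G) : Set G) = ⊤ :=
        (Subgroup.eq_top_iff' _).2 fun g => by
          rw [centralizer_zpowers, Subgroup.mem_centralizer_singleton_iff, mul_one, one_mul]
      have hall : ∀ (D : Subgroup G), D = ⊤ → ∀ (_ : Fintype D) (F : G → ℂ),
          ∑ c : D, F (c : G) = ∑ g : G, F g := by
        rintro D rfl _ F
        exact Fintype.sum_equiv Subgroup.topEquiv.toEquiv _ _ fun c => rfl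
      have hr := BrauerFeit.blockRank_eq_sum_regCoef hM hB
      rw [hl, Nat.cast_one] at hr
      rw [show (Nat.card G : ℂ) = ∑ χ ∈ B.toFinset, (Nat.card G : ℂ) * BrauerFeit.regCoef p χ χ by
        rw [← Finset.mul_sum, ← hr, mul_one]]
      refine Finset.sum_congr rfl fun χ _ => ?_
      rw [sum_con_pairsOn, ← mul_assoc, mul_inv_cancel₀ Chars.natCard_ne_zero, one_mul,
        BrauerFeit.regCoef, classInner, ← mul_assoc, mul_inv_cancel₀ hG, one_mul]
      refine (Finset.sum_congr rfl fun c _ => ?_).trans (hall _ htop _ fun g =>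
        pRegularPart p (χ : G → ℂ) g * conj ((χ : G → ℂ) g))
      simp only [BrauerFeit.pRegularPart_apply, one_mul, Subgroup.orderOf_coe]
      split_ifs <;> simp
    rw [h1] at key
    have key2 : ((Nat.card G * Nat.card B : ℕ) : ℂ) =
        ((Nat.card G + ∑ v ∈ V, cst v * (A v).card : ℕ) : ℂ) := by
      push_cast
      rw [key]
      congr 1
      rw [show (pElems p G).erase 1 = V by ext v; simp [V, and_comm]]
      refine Finset.sum_congr rfl fun v hv => ?_
      obtain ⟨hvp, hv1⟩ := Finset.mem_filter.1 hv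
      congr 1
      rw [show ((A v).card : ℂ) = ∑ a ∈ Star.pairsOn M (Subgroup.zpowers v),
        if IsBrauerPairOf p M B a.1 a.2 then (1 : ℂ) else 0 by simp [A]]
      refine Finset.sum_congr rfl fun a ha => ?_
      obtain ⟨ha1, ha2⟩ := Star.mem_pairsOn.1 ha
      split_ifs with haB
      · obtain ⟨g, w, hw, rfl, rfl⟩ := exists_conj_bu hM hmax ha1 haB
        simp only [con_conj]
        have hw1 : w ≠ 1 := fun h => hv1 (by rw [h]; group)
        show ∑ χ ∈ B.toFinset, Contrib.contrib p w (bu p M b w).2 χ χ = 1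
        rw [Contrib.sum_contrib_self hM (exists_orderOf_eq hM hmax hw) (centralizer_bu w)
          (isInducedBlock_bu hM hmax hw), hl' w hw hw1, Nat.cast_one]
      · exact Finset.sum_eq_zero fun χ hχ =>
          con_eq_zero hM (mem_pElems.1 hvp) ha1 ha2 hB haB (Set.mem_toFinset.1 hχ) χ
    exact_mod_cast key2
  -- the fibres
  let U : Finset ↥(b.1) := (Finset.univ : Finset ↥(b.1)).filter fun (w : ↥(b.1)) => (w : G) ≠ 1
  let Φ : G × b.1 → (Σ _ : G, BrauerPairIdx G) := fun q =>
    ⟨q.1 * (q.2 : G) * q.1⁻¹, conjPair q.1 (bu p M b q.2)⟩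
  let X := V.sigma A
  have hmaps : ∀ q ∈ (Finset.univ : Finset G) ×ˢ U, Φ q ∈ X := by
    rintro ⟨g, w⟩ hq
    have hw1 : (w : G) ≠ 1 := (Finset.mem_filter.1 (Finset.mem_product.1 hq).2).2
    obtain ⟨j, hj⟩ := exists_orderOf_eq hM hmax w.2
    refine Finset.mem_sigma.2 ⟨Finset.mem_filter.2 ⟨mem_pElems.2 ⟨j, ?_⟩, fun h => hw1 ?_⟩,
      Finset.mem_filter.2 ⟨Star.mem_pairsOn.2 ⟨?_, isPBlock_conjPair (hblock w w.2) _⟩,
        isBrauerPairOf_conj (isBrauerPairOf_bu hM hmax w.2) _⟩⟩
    · show orderOf ((MulAut.conj g) (w : G)) = _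
      rw [MulEquiv.orderOf_eq, hj]
    · have h' : g * (w : G) * g⁻¹ = 1 := h
      calc (w : G) = g⁻¹ * (g * w * g⁻¹) * g := by group
        _ = 1 := by rw [h']; group
    · show (bu p M b w).1.map (MulAut.conj g).toMonoidHom = _
      rw [bu_fst, MonoidHom.map_zpowers]
      rfl
  have hfib : ∀ x ∈ X, cst x.1 * Nat.card T ≤
      (((Finset.univ : Finset G) ×ˢ U).filter fun q => Φ q = x).card * Nat.card K := by
    rintro ⟨v, a⟩ hx
    obtain ⟨hv, ha⟩ := Finset.mem_sigma.1 hx
    obtain ⟨hap, haB⟩ := Finset.mem_filter.1 ha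
    obtain ⟨ha1, ha2⟩ := Star.mem_pairsOn.1 hap
    have hv1 : v ≠ 1 := (Finset.mem_filter.1 hv).2
    obtain ⟨g₀, w₀, hw₀, rfl, rfl⟩ := exists_conj_bu hM hmax ha1 haB
    have hw1 : w₀ ≠ 1 := fun h => hv1 (by rw [h]; group)
    set D := Subgroup.centralizer (Subgroup.zpowers (g₀ * w₀ * g₀⁻¹) : Set G)
    set S := ((Finset.univ : Finset G) ×ˢ U).filter
      fun q => Φ q = ⟨g₀ * w₀ * g₀⁻¹, conjPair g₀ (bu p M b w₀)⟩
    let ψ : D × T → G × b.1 := fun cx =>
      ((cx.1 : G) * g₀ * (cx.2 : G)⁻¹, ⟨(cx.2 : G) * w₀ * (cx.2 : G)⁻¹, hmemconj _ cx.2.2 _ hw₀⟩)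
    have hψS : ∀ cx : D × T, ψ cx ∈ S := by
      intro cx
      have hne : (cx.2 : G) * w₀ * (cx.2 : G)⁻¹ ≠ 1 := fun h => hw1 (conj_eq_one_iff.1 h)
      refine Finset.mem_filter.2 ⟨Finset.mem_product.2 ⟨Finset.mem_univ _,
        Finset.mem_filter.2 ⟨Finset.mem_univ _, hne⟩⟩, ?_⟩
      have hc : (cx.1 : G) * (g₀ * w₀ * g₀⁻¹) = g₀ * w₀ * g₀⁻¹ * (cx.1 : G) :=
        (Subgroup.mem_centralizer_iff.1 cx.1.2 _ (Subgroup.mem_zpowers _)).symm
      have hst : conjPair (cx.1 : G) (conjPair g₀ (bu p M b w₀)) = conjPair g₀ (bu p M b w₀) :=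
        core_le_pairStab (isPBlock_conjPair (hblock w₀ hw₀) g₀) (Subgroup.mem_sup_right (by
          rw [ha1]
          exact cx.1.2))
      simp only [Φ, ψ, Sigma.mk.injEq, heq_eq_eq]
      constructor
      · calc (cx.1 : G) * g₀ * (cx.2 : G)⁻¹ * ((cx.2 : G) * w₀ * (cx.2 : G)⁻¹) *
              ((cx.1 : G) * g₀ * (cx.2 : G)⁻¹)⁻¹
            = ((cx.1 : G) * (g₀ * w₀ * g₀⁻¹)) * (cx.1 : G)⁻¹ := by group
          _ = g₀ * w₀ * g₀⁻¹ := by rw [hc, mul_inv_cancel_right]
      · rw [← hconj _ cx.2.2 _ hw₀, conjPair_mul (hblock w₀ hw₀),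
          inv_mul_cancel_right, ← conjPair_mul (hblock w₀ hw₀), hst]
    have h1 : (Finset.univ : Finset (D × T)).card ≤ Nat.card K * (Finset.univ.image ψ).card := by
      refine Finset.card_le_mul_card_image _ _ fun q hq => ?_
      obtain ⟨⟨c₁, x₁⟩, -, rfl⟩ := Finset.mem_image.1 hq
      rw [Nat.card_eq_fintype_card, ← Finset.card_univ]
      have hmemK : ∀ cx : D × T, ψ cx = ψ (c₁, x₁) → (x₁ : G)⁻¹ * (cx.2 : G) ∈ K := by
        intro cx h
        simp only [ψ, Prod.mk.injEq, Subtype.mk.injEq] at h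
        refine hfree _ (mul_mem (inv_mem x₁.2) cx.2.2) w₀ hw₀ hw1 ?_
        calc (x₁ : G)⁻¹ * (cx.2 : G) * w₀ * ((x₁ : G)⁻¹ * (cx.2 : G))⁻¹
            = (x₁ : G)⁻¹ * ((cx.2 : G) * w₀ * (cx.2 : G)⁻¹) * x₁ := by group
          _ = w₀ := by rw [h.2]; group
      refine Finset.card_le_card_of_injOn (fun cx => if h : (x₁ : G)⁻¹ * (cx.2 : G) ∈ K
        then (⟨_, h⟩ : K) else 1) (fun _ _ => Finset.mem_univ _) fun cx hcx dy hdy h => ?_
      have hx' := (Finset.mem_filter.1 hcx).2
      have hy' := (Finset.mem_filter.1 hdy).2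
      simp only [dif_pos (hmemK _ hx'), dif_pos (hmemK _ hy'), Subtype.mk.injEq, mul_right_inj] at h
      have h2 : cx.2 = dy.2 := Subtype.ext h
      refine Prod.ext (Subtype.ext ?_) h2
      have h3 := congrArg Prod.fst (hx'.trans hy'.symm)
      simp only [ψ, h2, mul_left_inj] at h3
      exact h3
    rw [Finset.card_univ, Fintype.card_prod, ← Nat.card_eq_fintype_card, ← Nat.card_eq_fintype_card,
      mul_comm (Nat.card K)] at h1
    exact h1.trans (Nat.mul_le_mul_right _ (Finset.card_le_card fun q hq => by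
      obtain ⟨cx, -, rfl⟩ := Finset.mem_image.1 hq
      exact hψS cx))
  have hU : U.card = Nat.card b.1 - 1 := by
    rw [show U = Finset.univ.erase 1 by ext w; simp [U], Finset.card_erase_of_mem (Finset.mem_univ _),
      Finset.card_univ, Nat.card_eq_fintype_card]
  have htot : Nat.card T * ∑ v ∈ V, cst v * (A v).card ≤
      Nat.card G * (Nat.card K * (Nat.card b.1 - 1)) := by
    calc Nat.card T * ∑ v ∈ V, cst v * (A v).card
        = ∑ x ∈ X, cst x.1 * Nat.card T := by
          rw [Finset.sum_sigma, Finset.mul_sum]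
          refine Finset.sum_congr rfl fun v _ => ?_
          show _ = ∑ _s ∈ A v, cst v * Nat.card T
          rw [Finset.sum_const, smul_eq_mul]
          ring
      _ ≤ ∑ x ∈ X, (((Finset.univ : Finset G) ×ˢ U).filter fun q => Φ q = x).card * Nat.card K :=
          Finset.sum_le_sum hfib
      _ = _ := by
          rw [← Finset.sum_mul, ← Finset.card_eq_sum_card_fiberwise hmaps, Finset.card_product,
            Finset.card_univ, ← Nat.card_eq_fintype_card, hU]
          ring
  refine Nat.le_of_mul_le_mul_left ?_ (Nat.card_pos (α := G))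
  calc Nat.card G * (Nat.card T * (Nat.card B - 1))
      = Nat.card T * ∑ v ∈ V, cst v * (A v).card := by
        rw [Nat.mul_left_comm, Nat.mul_sub, mul_one, hk, Nat.add_sub_cancel_left]
    _ ≤ _ := htot

end Cfsg.Agent.Lib.BlockAlg
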