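import Mathlib
import Cfsg.Agent.Lib.BlockAlg.Cyclic
import Cfsg.Agent.Lib.BlockAlg.SubsectionBound
import Cfsg.Agent.Lib.NilBlock.Main
import Cfsg.Agent.Lib.BrauerPairs.CyclicInertia

/-!
# A block with cyclic defect group is nilpotent exactly when it has one Brauer character
-/

set_option autoImplicit false

namespace Cfsg.Agent.Lib.BlockAlg

open Cfsg
open Cfsg.Agent.Lib
open Cfsg.Agent.Lib.BrauerPairs

universe u

variable {G : Type u} [Group G] [Fintype G] {p : ℕ} [Fact p.Prime] {M : Ideal AlgInt} [M.IsPrime]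
  {B : Set (IrrCharacter G)}

/-- One Brauer character and a cyclic defect group force a trivial inertial quotient. -/
theorem isNilpotentBlock_of_cyclic (hM : IsPModular p M) (hB : IsPBlock M B) {P : Subgroup G}
    (hPD : IsDefectGroup p M B P) (hcyc : IsCyclic P) (hl : blockRank p B = 1) :
    IsNilpotentBlock p M B := by
  classical
  obtain ⟨c, hmax⟩ := NilBlock.exists_maximal hM hB hPD
  set b : BrauerPairIdx G := ⟨P, c⟩ with hb
  have hmax' : IsMaximalBrauerPair p M B b.1 b.2 := hmax
  have hab : ∀ x ∈ P, ∀ y ∈ P, x * y = y * x := fun x hx y hy => by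
    letI := hcyc.commGroup
    exact congrArg Subtype.val (mul_comm (⟨x, hx⟩ : P) ⟨y, hy⟩)
  rw [isNilpotentBlock_iff_of_comm hM (b := b) hmax' hab]
  intro x hxN hxst
  by_cases hP1 : P = ⊥
  · refine Subgroup.mem_centralizer_iff.2 fun y hy => ?_
    rw [(Subgroup.eq_bot_iff_forall P).1 hP1 y hy, one_mul, mul_one]
  have hfree : ∀ g ∈ pairStab hmax'.1.1.2, ∀ u ∈ P, u ≠ 1 → g * u * g⁻¹ = u →
      g ∈ Subgroup.centralizer (P : Set G) := fun g hg u hu hu1 hgu =>
    CyclicInertia.mem_centralizer_of_stab (b := b) hM hmax' hcyc (Subgroup.zpowers_le.2 hu)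
      (Subgroup.zpowers_ne_bot.2 hu1) hg (by
        rw [centralizer_zpowers, Subgroup.mem_centralizer_singleton_iff]
        exact mul_inv_eq_iff_eq_mul.1 hgu)
  have hl' : ∀ u ∈ P, u ≠ 1 → blockRank p (NilBlock.bu p M b u).2 = 1 := by
    intro u hu hu1
    set Q := Subgroup.zpowers u
    have hQP : Q ≤ P := Subgroup.zpowers_le.2 hu
    have hPp : IsPGroup p P := Blocks.isPGroup_of_isDefectGroup hPD
    obtain ⟨f, hf⟩ := LocalInertial.exists_induced hM hab hQP hPp hmax'.1.1.2
    have hnil : IsNilpotentBlock p M f := (LocalInertial.isNilpotentBlock_iff hM hab hQP hmax hf).2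
      fun g hgQ hgN hst => hfree g ((mem_pairStab_iff_stabilizesBlock (a := b) hmax'.1.1.2).2 ⟨hgN, hst⟩)
        u hu hu1 (by
          rw [← Subgroup.mem_centralizer_iff.1 hgQ u (Subgroup.mem_zpowers u), mul_inv_cancel_right])
    have hle : PairLE p M ⟨Q, f⟩ b := Relation.ReflTransGen.single
      (LocalInertial.normalSubpair hM (le_centralizer_of_comm hab hQP) hQP hPp hmax'.1.1.2 hf)
    have heq := NilBlock.eq_bu (b := b) hM hmax'.1.1 hu hle rfl
    haveI := Fintype.ofFinite (Subgroup.centralizer (Q : Set G))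
    have h1 := NilBlock.blockRank_eq_one hM hnil
    rw [← heq]
    exact h1
  have hcount := stab_mul_card_le (b := b) hM hmax' hl hl' hfree
  have hge := card_defectGroup_le hM hB hPD hcyc hl
  have hCT : Subgroup.centralizer (P : Set G) ≤ pairStab hmax'.1.1.2 := fun g hg =>
    core_le_pairStab _ (Subgroup.mem_sup_right hg)
  have hP2 : 1 < Nat.card P := (Subgroup.one_lt_card_iff_ne_bot P).2 hP1
  have hcard : Nat.card (pairStab hmax'.1.1.2) ≤ Nat.card (Subgroup.centralizer (P : Set G)) := by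
    refine Nat.le_of_mul_le_mul_right ((Nat.mul_le_mul_left _ ?_).trans hcount)
      (Nat.sub_pos_of_lt hP2)
    exact Nat.sub_le_sub_right hge 1
  rw [show Subgroup.centralizer (b.1 : Set G) = pairStab hmax'.1.1.2 from
    Subgroup.eq_of_le_of_card_ge hCT hcard]
  exact (mem_pairStab_iff_stabilizesBlock (a := b) hmax'.1.1.2).2 ⟨hxN, hxst⟩

end Cfsg.Agent.Lib.BlockAlg
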