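import Mathlib
import Cfsg.Agent.Lib.BlockAlg.Corner

/-!
# Local symmetric algebras with at most four independent traces are commutative

This is a lemma of Külshammer: a symmetric local algebra whose centre has dimension at most four is
commutative.
-/

set_option autoImplicit false

namespace Cfsg.Agent.Lib.BlockAlg

open Module
open Cfsg.Agent.Lib.Contrib (cornerTrace cornerTrace_mul)

variable {k : Type*} [Field k] {B : Type*} [Ring B] [Algebra k B]

namespace MatUnits

variable (U : MatUnits k B)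

/-- The span of the commutators of the corner. -/
def comms : Submodule k B :=
  Submodule.span k {w | ∃ x ∈ U.corner, ∃ y ∈ U.corner, w = x * y - y * x}

theorem comm_mem_comms {x y : B} (hx : x ∈ U.corner) (hy : y ∈ U.corner) :
    x * y - y * x ∈ U.comms := Submodule.subset_span ⟨x, hx, y, hy, rfl⟩

theorem rad_le : U.rad ≤ U.corner := inf_le_left

theorem mul_mem_rad {x y : B} (hx : x ∈ U.rad) (hy : y ∈ U.corner) :
    x * y ∈ U.rad ∧ y * x ∈ U.rad :=
  ⟨U.mem_rad.2 ⟨U.mul_mem_corner (U.rad_le hx) hy, by rw [map_mul, (U.mem_rad.1 hx).2, zero_mul]⟩,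
    U.mem_rad.2 ⟨U.mul_mem_corner hy (U.rad_le hx), by rw [map_mul, (U.mem_rad.1 hx).2, mul_zero]⟩⟩

theorem rad_sq_le : U.rad * U.rad ≤ U.rad :=
  Submodule.mul_le.2 fun _ hx _ hy => (U.mul_mem_rad hx (U.rad_le hy)).1

theorem pow_succ_le (n : ℕ) (hn : 1 ≤ n) : U.rad ^ (n + 1) ≤ U.rad ^ n := by
  obtain ⟨m, rfl⟩ : ∃ m, n = m + 1 := ⟨n - 1, by omega⟩
  rw [pow_succ, pow_succ, mul_assoc]
  exact mul_le_mul' le_rfl U.rad_sq_le

theorem pow_le_pow {m n : ℕ} (hm : 1 ≤ m) (hmn : m ≤ n) : U.rad ^ n ≤ U.rad ^ m := by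
  induction n, hmn using Nat.le_induction with
  | base => exact le_rfl
  | succ n hn ih => exact (U.pow_succ_le n (by omega)).trans ih

theorem pow_le_rad {n : ℕ} (hn : 1 ≤ n) : U.rad ^ n ≤ U.rad := by
  have h := U.pow_le_pow le_rfl hn
  rwa [pow_one] at h

theorem mul_mem_pow {n : ℕ} (hn : 1 ≤ n) {x y : B} (hx : x ∈ U.rad ^ n) (hy : y ∈ U.corner) :
    x * y ∈ U.rad ^ n ∧ y * x ∈ U.rad ^ n := by
  have hxc : x ∈ U.corner := U.rad_le (U.pow_le_rad hn hx)
  have hyd : y = (y - U.π y 0 0 • U.i) + U.π y 0 0 • U.i := (sub_add_cancel _ _).symm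
  have hy' := U.sub_mem_rad hy
  constructor
  · rw [hyd, mul_add, mul_smul_comm, U.corner_mul_right hxc]
    exact add_mem (U.pow_succ_le n hn (by rw [pow_succ]; exact Submodule.mul_mem_mul hx hy'))
      ((U.rad ^ n).smul_mem _ hx)
  · rw [hyd, add_mul, smul_mul_assoc, U.corner_mul_left hxc]
    exact add_mem (U.pow_succ_le n hn (by rw [pow_succ']; exact Submodule.mul_mem_mul hy' hx))
      ((U.rad ^ n).smul_mem _ hx)

theorem exists_rad_pow_eq_bot : ∃ N, U.rad ^ (N + 1) = ⊥ := by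
  obtain ⟨N, hN⟩ := U.hnilp
  refine ⟨N, eq_bot_iff.2 fun x hx => ?_⟩
  have h1 : ∀ n, ∀ x ∈ U.rad ^ (n + 1), x ∈ RingHom.ker U.π.toRingHom ^ (n + 1) := by
    intro n
    induction n with
    | zero =>
      intro x hx
      rw [zero_add, pow_one] at hx
      rw [zero_add, Submodule.pow_one]
      exact (U.mem_rad.1 hx).2
    | succ n ih =>
      intro x hx
      rw [pow_succ _ (n + 1)] at hx
      induction hx using Submodule.mul_induction_on' with
      | mem_mul_mem a ha b hb =>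
        rw [Submodule.pow_succ (M := RingHom.ker U.π.toRingHom) (n := n + 1)]
        exact Ideal.mul_mem_mul (ih a ha) (U.mem_rad.1 hb).2
      | add a _ b _ h h' => exact Ideal.add_mem _ h h'
  have h2 := Ideal.pow_le_pow_right (Nat.le_succ N) (h1 N x hx)
  rw [hN] at h2
  simpa using h2

theorem eq_bot_of_le_succ {n : ℕ} (h : U.rad ^ n ≤ U.rad ^ (n + 1)) :
    U.rad ^ n = ⊥ := by
  obtain ⟨N, hN⟩ := U.exists_rad_pow_eq_bot
  have h1 : ∀ j, U.rad ^ n ≤ U.rad ^ (n + j) := fun j => by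
    induction j with
    | zero => exact le_rfl
    | succ j ih =>
      refine h.trans ?_
      rw [pow_succ', show n + (j + 1) = (n + j) + 1 from rfl, pow_succ']
      exact mul_le_mul' le_rfl ih
  have h2 := h1 (N + 1)
  rw [pow_add, hN, Submodule.mul_bot] at h2
  exact le_bot_iff.1 h2

variable (τ : B →ₗ[k] k) (hτ : ∀ x y, τ (x * y) = τ (y * x))
  (hnd : ∀ x, (∀ y, τ (x * y) = 0) → x = 0)

include hnd in
theorem nondeg {x : B} (hx : x ∈ U.corner) (h : ∀ y ∈ U.corner, τ (x * y) = 0) (hτ : ∀ x y, τ (x * y) = τ (y * x)) :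
    x = 0 := by
  refine hnd x fun y => ?_
  rw [show x * y = U.i * (x * (U.i * y)) by
    rw [← mul_assoc x, U.corner_mul_right hx, ← mul_assoc, U.corner_mul_left hx],
    hτ, mul_assoc]
  exact h _ (U.proj_mem y)

include hτ hnd in
/-- An ideal of the corner on which the form vanishes is zero. -/
theorem eq_bot_of_form {n : ℕ} (hn : 1 ≤ n) (h : ∀ x ∈ U.rad ^ n, τ x = 0) : U.rad ^ n = ⊥ :=
  eq_bot_iff.2 fun x hx => (Submodule.mem_bot k).2 (U.nondeg τ hnd (U.rad_le (U.pow_le_rad hn hx))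
    (fun y hy => h _ (U.mul_mem_pow hn hx hy).1) hτ)

include hτ in
theorem form_comms {x : B} (hx : x ∈ U.comms) : τ x = 0 := by
  induction hx using Submodule.span_induction with
  | mem x hx => obtain ⟨a, -, b, -, rfl⟩ := hx; rw [map_sub, hτ, sub_self]
  | zero => exact map_zero _
  | add a b _ _ h h' => rw [map_add, h, h', add_zero]
  | smul c a _ h => rw [map_smul, h, smul_zero]

theorem sub_sub_comm {x y : B} (hx : x ∈ U.corner) (hy : y ∈ U.corner) :
    x * y - y * x = (x - U.π x 0 0 • U.i) * (y - U.π y 0 0 • U.i) -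
      (y - U.π y 0 0 • U.i) * (x - U.π x 0 0 • U.i) := by
  simp only [sub_mul, mul_sub, smul_mul_assoc, mul_smul_comm, U.corner_mul_left hx,
    U.corner_mul_right hx, U.corner_mul_left hy, U.corner_mul_right hy, U.hi.eq]
  module

theorem comms_le_sq : U.comms ≤ U.rad ^ 2 := by
  refine Submodule.span_le.2 ?_
  rintro _ ⟨x, hx, y, hy, rfl⟩
  rw [SetLike.mem_coe, U.sub_sub_comm hx hy, pow_two]
  exact sub_mem (Submodule.mul_mem_mul (U.sub_mem_rad hx) (U.sub_mem_rad hy))
    (Submodule.mul_mem_mul (U.sub_mem_rad hy) (U.sub_mem_rad hx))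

/-- If one element generates the radical, the corner is commutative. -/
theorem comm_of_one_gen {g : B} (hg : g ∈ U.rad) (hgen : U.rad ≤ Submodule.span k {g} ⊔ U.rad ^ 2)
    {x y : B} (hx : x ∈ U.corner) (hy : y ∈ U.corner) : x * y = y * x := by
  obtain ⟨N, hN⟩ := U.exists_rad_pow_eq_bot
  have hstep : ∀ n, U.rad ^ (n + 1) ≤ Submodule.span k {g ^ (n + 1)} ⊔ U.rad ^ (n + 2) := by
    intro n
    induction n with
    | zero => rw [zero_add, pow_one, pow_one]; exact hgen
    | succ n ih =>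
      conv_lhs => rw [pow_succ]
      rw [Submodule.mul_le]
      intro v hv w hw
      obtain ⟨v₀, hv₀, v₁, hv₁, rfl⟩ := Submodule.mem_sup.1 (ih hv)
      obtain ⟨t, rfl⟩ := Submodule.mem_span_singleton.1 hv₀
      obtain ⟨w₀, hw₀, w₁, hw₁, rfl⟩ := Submodule.mem_sup.1 (hgen hw)
      obtain ⟨t', rfl⟩ := Submodule.mem_span_singleton.1 hw₀
      rw [add_mul, mul_add, smul_mul_smul_comm, ← pow_succ]
      have hgp : g ^ (n + 1) ∈ U.rad ^ (n + 1) := Submodule.pow_mem_pow _ hg _
      refine add_mem (add_mem (Submodule.mem_sup_left (Submodule.smul_mem _ _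
        (Submodule.mem_span_singleton_self _))) (Submodule.mem_sup_right ?_)) (Submodule.mem_sup_right ?_)
      · rw [show n + 1 + 2 = (n + 1) + 2 from rfl, pow_add]
        exact Submodule.mul_mem_mul (Submodule.smul_mem _ _ hgp) hw₁
      · rw [show n + 1 + 2 = (n + 2) + 1 from rfl, pow_succ _ (n + 2)]
        exact Submodule.mul_mem_mul hv₁ (add_mem (U.rad.smul_mem _ hg) (U.pow_le_rad (by omega) hw₁))
  have hdown : ∀ z : B, (∀ n, Commute (g ^ (n + 1)) z) → ∀ v ∈ U.rad, Commute v z := by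
    intro z hz
    suffices h : ∀ j n, n + j = N → ∀ v ∈ U.rad ^ (n + 1), Commute v z from fun v hv =>
      h N 0 (zero_add N) v (by rwa [zero_add, pow_one])
    intro j
    induction j with
    | zero =>
      intro n hn v hv
      rw [show n + 1 = N + 1 by omega, hN, Submodule.mem_bot] at hv
      rw [hv]
      exact Commute.zero_left z
    | succ j ih =>
      intro n hn v hv
      obtain ⟨v₀, hv₀, v₁, hv₁, rfl⟩ := Submodule.mem_sup.1 (hstep n hv)
      obtain ⟨t, rfl⟩ := Submodule.mem_span_singleton.1 hv₀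
      exact ((hz n).smul_left t).add_left (ih (n + 1) (by omega) v₁ hv₁)
  have hgz : ∀ v ∈ U.rad, Commute v g := hdown g fun n => (Commute.refl g).pow_left _
  have hall : ∀ v ∈ U.rad, ∀ w ∈ U.rad, Commute v w := fun v hv w hw =>
    hdown w (fun n => ((hgz w hw).symm).pow_left _) v hv
  rw [← sub_eq_zero, U.sub_sub_comm hx hy, (hall _ (U.sub_mem_rad hx) _ (U.sub_mem_rad hy)).eq, sub_self]

/-- If two elements generate the radical, the commutators lie in the span of theirs and the cube. -/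
theorem comms_le_of_gens {a b : B} (ha : a ∈ U.rad) (hb : b ∈ U.rad)
    (hgen : U.rad ≤ Submodule.span k {a, b} ⊔ U.rad ^ 2) :
    U.comms ≤ Submodule.span k {a * b - b * a} ⊔ U.rad ^ 3 := by
  refine Submodule.span_le.2 ?_
  rintro _ ⟨x, hx, y, hy, rfl⟩
  rw [SetLike.mem_coe, U.sub_sub_comm hx hy]
  obtain ⟨x₀, hx₀, x₁, hx₁, hxe⟩ := Submodule.mem_sup.1 (hgen (U.sub_mem_rad hx))
  obtain ⟨y₀, hy₀, y₁, hy₁, hye⟩ := Submodule.mem_sup.1 (hgen (U.sub_mem_rad hy))
  obtain ⟨r, s, rfl⟩ := Submodule.mem_span_pair.1 hx₀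
  obtain ⟨r', s', rfl⟩ := Submodule.mem_span_pair.1 hy₀
  rw [← hxe, ← hye]
  have hX : r • a + s • b ∈ U.rad := add_mem (U.rad.smul_mem _ ha) (U.rad.smul_mem _ hb)
  have hY : r' • a + s' • b + y₁ ∈ U.rad :=
    add_mem (add_mem (U.rad.smul_mem _ ha) (U.rad.smul_mem _ hb)) (U.pow_le_rad (by omega) hy₁)
  rw [show (r • a + s • b + x₁) * (r' • a + s' • b + y₁) - (r' • a + s' • b + y₁) * (r • a + s • b + x₁)
      = (r * s' - s * r') • (a * b - b * a) + (((r • a + s • b) * y₁ - y₁ * (r • a + s • b)) +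
        (x₁ * (r' • a + s' • b + y₁) - (r' • a + s' • b + y₁) * x₁)) by
    simp only [add_mul, mul_add, smul_mul_assoc, mul_smul_comm]
    module]
  refine Submodule.add_mem_sup (Submodule.smul_mem _ _ (Submodule.mem_span_singleton_self _)) ?_
  have e3 : U.rad ^ 3 = U.rad * U.rad ^ 2 := pow_succ' _ 2
  have e3' : U.rad ^ 3 = U.rad ^ 2 * U.rad := pow_succ _ 2
  refine add_mem (sub_mem ?_ ?_) (sub_mem ?_ ?_)
  · rw [e3]; exact Submodule.mul_mem_mul hX hy₁
  · rw [e3']; exact Submodule.mul_mem_mul hy₁ hX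
  · rw [e3']; exact Submodule.mul_mem_mul hx₁ hY
  · rw [e3]; exact Submodule.mul_mem_mul hY hx₁

/-- Two generators with non-zero commutator: the third layer is spanned by one element. -/
theorem cube_le {a b : B} (ha : a ∈ U.rad) (hb : b ∈ U.rad)
    (hsq : U.rad ^ 2 ≤ Submodule.span k {a * b - b * a} ⊔ U.rad ^ 3)
    (hgen : U.rad ≤ Submodule.span k {a, b} ⊔ U.rad ^ 2) :
    ∃ u ∈ U.rad ^ 3, U.rad ^ 3 ≤ Submodule.span k {u} ⊔ U.rad ^ 4 := by
  set c := a * b - b * a with hc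
  have hc2 : c ∈ U.rad ^ 2 := by
    rw [pow_two]
    exact sub_mem (Submodule.mul_mem_mul ha hb) (Submodule.mul_mem_mul hb ha)
  set W := U.rad ^ 4 with hW
  let q := W.mkQ
  have e4 : W = U.rad * U.rad ^ 3 := by rw [hW, ← pow_succ']
  have e4' : W = U.rad ^ 3 * U.rad := by rw [hW, ← pow_succ]
  have e3 : U.rad ^ 3 = U.rad * U.rad ^ 2 := by rw [← pow_succ']
  have e3' : U.rad ^ 3 = U.rad ^ 2 * U.rad := by rw [← pow_succ]
  -- coefficients of the products
  have hco : ∀ v w : B, v ∈ U.rad → w ∈ U.rad → ∃ t : k, ∀ z ∈ U.rad,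
      q (v * w * z) = t • q (c * z) ∧ q (z * (v * w)) = t • q (z * c) := by
    intro v w hv hw
    obtain ⟨c₀, hc₀, r, hr, he⟩ :=
      Submodule.mem_sup.1 (hsq (by rw [pow_two]; exact Submodule.mul_mem_mul hv hw))
    obtain ⟨t, rfl⟩ := Submodule.mem_span_singleton.1 hc₀
    refine ⟨t, fun z hz => ⟨?_, ?_⟩⟩
    · rw [← he, add_mul, smul_mul_assoc, map_add, map_smul, add_eq_left, Submodule.mkQ_apply,
        Submodule.Quotient.mk_eq_zero, e4']
      exact Submodule.mul_mem_mul hr hz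
    · rw [← he, mul_add, mul_smul_comm, map_add, map_smul, add_eq_left, Submodule.mkQ_apply,
        Submodule.Quotient.mk_eq_zero, e4]
      exact Submodule.mul_mem_mul hz hr
  obtain ⟨α, hα⟩ := hco a a ha ha
  obtain ⟨β, hβ⟩ := hco a b ha hb
  obtain ⟨δ, hδ⟩ := hco b b hb hb
  have hβ' : ∀ z ∈ U.rad, q (b * a * z) = (β - 1) • q (c * z) ∧
      q (z * (b * a)) = (β - 1) • q (z * c) := fun z hz => by
    rw [show b * a = a * b - c by rw [hc, sub_sub_cancel]]
    simp only [sub_mul, mul_sub, map_sub, (hβ z hz).1, (hβ z hz).2, sub_smul, one_smul, and_self]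
  set X := q (a * c)
  set Y := q (b * c)
  have E1 : β • q (c * a) = (β - 1) • X := by
    rw [← (hβ a ha).1, ← (hβ' a ha).2, mul_assoc]
  have E2 : α • q (c * b) = β • X := by
    rw [← (hα b hb).1, ← (hβ a ha).2, mul_assoc]
  have E3 : δ • X = β • q (c * b) := by
    rw [← (hβ b hb).1, ← (hδ a ha).2, mul_assoc]
  have E4 : (β - 1) • q (c * b) = β • Y := by
    rw [← (hβ' b hb).1, ← (hβ b hb).2, mul_assoc]
  obtain ⟨u, hu, hX, hY⟩ : ∃ u ∈ U.rad ^ 3, (∃ t : k, X = t • q u) ∧ ∃ t : k, Y = t • q u := by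
    by_cases h0 : β = 0
    · refine ⟨b * c, by rw [e3]; exact Submodule.mul_mem_mul hb hc2, ⟨0, ?_⟩, ⟨1, (one_smul _ _).symm⟩⟩
      rw [h0, zero_smul, zero_sub, neg_smul, one_smul, eq_comm, neg_eq_zero] at E1
      rw [E1, zero_smul]
    · by_cases h1 : β = 1
      · refine ⟨c * b, by rw [e3']; exact Submodule.mul_mem_mul hc2 hb, ⟨α, ?_⟩, ⟨0, ?_⟩⟩
        · rw [h1, one_smul] at E2
          exact E2.symm
        · rw [h1, sub_self, zero_smul, one_smul] at E4
          rw [zero_smul, ← E4]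
      · refine ⟨a * c, by rw [e3]; exact Submodule.mul_mem_mul ha hc2, ⟨1, (one_smul _ _).symm⟩,
          ⟨β⁻¹ * (β - 1) * (β⁻¹ * δ), ?_⟩⟩
        rw [mul_smul, mul_smul, mul_smul, E3, inv_smul_smul₀ h0, E4, inv_smul_smul₀ h0]
  refine ⟨u, hu, ?_⟩
  rw [e3, Submodule.mul_le]
  intro v hv w hw
  obtain ⟨c₀, hc₀, r, hr, rfl⟩ := Submodule.mem_sup.1 (hsq hw)
  obtain ⟨t, rfl⟩ := Submodule.mem_span_singleton.1 hc₀
  obtain ⟨v₀, hv₀, v₁, hv₁, rfl⟩ := Submodule.mem_sup.1 (hgen hv)
  obtain ⟨r₁, r₂, rfl⟩ := Submodule.mem_span_pair.1 hv₀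
  obtain ⟨tX, hX⟩ := hX
  obtain ⟨tY, hY⟩ := hY
  have h4 : v₁ * c ∈ W := by
    rw [hW, show (4 : ℕ) = 2 + 2 from rfl, pow_add]
    exact Submodule.mul_mem_mul hv₁ hc2
  have h5 : (r₁ • a + r₂ • b + v₁) * r ∈ W := by
    rw [e4]
    exact Submodule.mul_mem_mul (add_mem (add_mem (U.rad.smul_mem _ ha) (U.rad.smul_mem _ hb))
      (U.pow_le_rad (by omega) hv₁)) hr
  refine Submodule.mem_sup.2 ⟨(t * (r₁ * tX + r₂ * tY)) • u,
    Submodule.smul_mem _ _ (Submodule.mem_span_singleton_self u),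
    (r₁ • a + r₂ • b + v₁) * (t • c + r) - (t * (r₁ * tX + r₂ * tY)) • u, ?_, add_sub_cancel _ _⟩
  rw [← Submodule.Quotient.mk_eq_zero W, ← Submodule.mkQ_apply, map_sub, mul_add, map_add,
    (Submodule.Quotient.mk_eq_zero W).2 h5 |> (Submodule.mkQ_apply W _).trans, add_zero, sub_eq_zero,
    mul_smul_comm, map_smul, map_smul, add_mul, add_mul, smul_mul_assoc, smul_mul_assoc, map_add, map_add,
    map_smul, map_smul, (Submodule.Quotient.mk_eq_zero W).2 h4 |> (Submodule.mkQ_apply W _).trans, add_zero,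
    show W.mkQ (a * c) = tX • W.mkQ u from hX, show W.mkQ (b * c) = tY • W.mkQ u from hY]
  simp only [smul_add, smul_smul, ← add_smul]

variable [FiniteDimensional k B]

include hτ hnd in
/-- Külshammer: with at most four independent traces the corner is commutative. -/
theorem corner_comm_of_four {r : ℕ} (hr : r ≤ 4)
    (hle : ∀ W : Submodule k B, (∀ x y, x * y - y * x ∈ W) → Module.finrank k (B ⧸ W) ≤ r) :
    ∀ x ∈ U.corner, ∀ y ∈ U.corner, x * y = y * x := by
  classical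
  by_contra hnc
  push Not at hnc
  obtain ⟨x, hx, y, hy, hxy⟩ := hnc
  have hC0 : ∀ n, U.comms ≤ U.rad ^ n → U.rad ^ n ≠ ⊥ := fun n h h0 => hxy (sub_eq_zero.1 (by
    have := h (U.comm_mem_comms hx hy)
    rwa [h0, Submodule.mem_bot] at this))
  -- the codimension of the commutators
  have hA : finrank k U.corner ≤ finrank k U.comms + 4 := by
    have h := Contrib.rank_traces hle (U.comms.mkQ.comp (cornerTrace U.u U.v)) fun x y => by
      show U.comms.mkQ (cornerTrace U.u U.v (x * y)) = U.comms.mkQ (cornerTrace U.u U.v (y * x))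
      rw [cornerTrace_mul U.huv, cornerTrace_mul U.huv, Submodule.mkQ_apply, Submodule.mkQ_apply,
        Submodule.Quotient.eq,
        Finset.sum_comm (f := fun s t => U.v s * y * U.u t * (U.v t * x * U.u s)), ← Finset.sum_sub_distrib]
      refine U.comms.sum_mem fun s _ => ?_
      rw [← Finset.sum_sub_distrib]
      exact U.comms.sum_mem fun t _ => U.comm_mem_comms (U.units_mem x s t) (U.units_mem y t s)
    have h2 : U.corner.map U.comms.mkQ ≤ LinearMap.range (U.comms.mkQ.comp (cornerTrace U.u U.v)) := by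
      rintro _ ⟨z, hz, rfl⟩
      refine ⟨U.u 0 * z * U.v 0, ?_⟩
      show U.comms.mkQ (∑ s, U.v s * (U.u 0 * z * U.v 0) * U.u s) = U.comms.mkQ z
      rw [Finset.sum_eq_single 0]
      · rw [← mul_assoc, ← mul_assoc, U.hvu, if_pos rfl, mul_assoc, U.hvu, if_pos rfl,
          U.corner_mul_left hz, U.corner_mul_right hz]
      · intro s _ hs
        rw [← mul_assoc, ← mul_assoc, U.hvu, if_neg hs]
        simp
      · exact fun h => absurd (Finset.mem_univ _) h
    have hCA : U.comms ≤ U.corner := U.comms_le_sq.trans ((U.pow_le_rad (by omega)).trans U.rad_le)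
    have h3 := LinearMap.finrank_range_add_finrank_ker (U.comms.mkQ.comp U.corner.subtype)
    rw [LinearMap.range_comp, Submodule.range_subtype, LinearMap.ker_comp, Submodule.ker_mkQ,
      (Submodule.comapSubtypeEquivOfLe hCA).finrank_eq] at h3
    have := (Submodule.finrank_mono h2).trans h
    omega
  have hCK : U.comms < U.rad ^ 2 := by
    refine lt_of_le_of_ne U.comms_le_sq fun he => hC0 2 U.comms_le_sq ?_
    exact U.eq_bot_of_form τ hτ hnd (by omega) fun z hz => U.form_comms τ hτ (he ▸ hz)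
  have hC2 := Submodule.finrank_lt_finrank_of_lt hCK
  have hK2le : U.rad ^ 2 ≤ U.rad := U.pow_le_rad (by omega)
  have hKA : finrank k U.rad < finrank k U.corner := by
    refine Submodule.finrank_lt_finrank_of_lt (lt_of_le_of_ne U.rad_le fun he => ?_)
    have h1 : U.i ∈ U.rad := he ▸ U.i_mem
    have h2 := (U.mem_rad.1 h1).2
    rw [U.hπi] at h2
    have := congrFun (congrFun h2 0) 0
    simp at this
  -- the radical needs two generators
  have hmono := Submodule.finrank_mono hK2le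
  have hext : ∀ a : B, a ∈ U.rad → a ∉ U.rad ^ 2 → ∃ b ∈ U.rad, U.rad ≤ Submodule.span k {a, b} ⊔ U.rad ^ 2 := by
    intro a ha ha2
    by_cases hone : U.rad ≤ Submodule.span k {a} ⊔ U.rad ^ 2
    · exact ⟨a, ha, hone.trans (sup_le_sup_right (Submodule.span_mono (by simp)) _)⟩
    obtain ⟨b, hb, hb'⟩ := SetLike.not_le_iff_exists.1 hone
    refine ⟨b, hb, ?_⟩
    have h1 : U.rad ^ 2 < Submodule.span k {a} ⊔ U.rad ^ 2 := lt_of_le_of_ne le_sup_right fun he =>
      ha2 (he.symm ▸ Submodule.mem_sup_left (Submodule.mem_span_singleton_self a))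
    have h2 : Submodule.span k {a} ⊔ U.rad ^ 2 < Submodule.span k {a, b} ⊔ U.rad ^ 2 :=
      lt_of_le_of_ne (sup_le_sup_right (Submodule.span_mono (by simp)) _) fun he =>
        hb' (he.symm ▸ Submodule.mem_sup_left (Submodule.subset_span (by simp)))
    have h3 : Submodule.span k {a, b} ⊔ U.rad ^ 2 ≤ U.rad := by
      refine sup_le (Submodule.span_le.2 ?_) hK2le
      rintro z (rfl | rfl)
      · exact ha
      · exact hb
    have := Submodule.finrank_lt_finrank_of_lt h1
    have := Submodule.finrank_lt_finrank_of_lt h2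
    exact (Submodule.eq_of_le_of_finrank_le h3 (by omega)).ge
  have hnotone : ∀ a b : B, a ∈ U.rad → b ∈ U.rad → U.rad ≤ Submodule.span k {a, b} ⊔ U.rad ^ 2 →
      a * b - b * a ∉ U.rad ^ 3 := by
    intro a b ha hb hgen hc
    have h1 : U.comms ≤ U.rad ^ 3 := (U.comms_le_of_gens ha hb hgen).trans
      (sup_le ((Submodule.span_singleton_le_iff_mem _ _).2 hc) le_rfl)
    have hne := hC0 3 h1
    -- an element of the cube outside the commutators
    obtain ⟨s, hs, hsτ⟩ : ∃ s ∈ U.rad ^ 3, τ s ≠ 0 := by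
      by_contra hno
      push Not at hno
      exact hne (U.eq_bot_of_form τ hτ hnd (by omega) hno)
    have h2 : finrank k U.comms < finrank k (U.rad ^ 3 : Submodule k B) :=
      Submodule.finrank_lt_finrank_of_lt (lt_of_le_of_ne h1 fun he => hsτ (U.form_comms τ hτ (he ▸ hs)))
    have h4 : U.rad ^ 3 ≠ U.rad ^ 2 := fun he => hC0 2 U.comms_le_sq (U.eq_bot_of_le_succ he.ge)
    have h32 : U.rad ^ 3 ≤ U.rad ^ 2 := U.pow_succ_le 2 (by omega)
    have h5 := Submodule.finrank_lt_finrank_of_lt (lt_of_le_of_ne h32 h4)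
    -- so one element generates the radical
    by_cases hsmall : ∃ g ∈ U.rad, U.rad ≤ Submodule.span k {g} ⊔ U.rad ^ 2
    · obtain ⟨g, hg, hg'⟩ := hsmall
      exact hxy (U.comm_of_one_gen hg hg' hx hy)
    push Not at hsmall
    obtain ⟨a', ha', ha2⟩ : ∃ a' ∈ U.rad, a' ∉ U.rad ^ 2 := by
      by_contra hno
      push Not at hno
      exact hsmall 0 (zero_mem _) fun z hz => Submodule.mem_sup_right (hno z hz)
    obtain ⟨b', hb', hb2⟩ := SetLike.not_le_iff_exists.1 (hsmall a' ha')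
    have h6 : U.rad ^ 2 < Submodule.span k {a'} ⊔ U.rad ^ 2 := lt_of_le_of_ne le_sup_right fun he =>
      ha2 (he.symm ▸ Submodule.mem_sup_left (Submodule.mem_span_singleton_self a'))
    have h7 : Submodule.span k {a'} ⊔ U.rad ^ 2 < U.rad :=
      lt_of_le_of_ne (sup_le ((Submodule.span_singleton_le_iff_mem _ _).2 ha') hK2le) fun he =>
        hb2 (he.symm ▸ hb')
    have := Submodule.finrank_lt_finrank_of_lt h6
    have := Submodule.finrank_lt_finrank_of_lt h7
    omega
  obtain ⟨a₀, ha₀, ha₀'⟩ : ∃ a ∈ U.rad, a ∉ U.rad ^ 2 := by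
    by_contra hno
    push Not at hno
    have h := U.eq_bot_of_le_succ (n := 1) fun z hz => hno z (by rwa [pow_one] at hz)
    rw [pow_one] at h
    exact hC0 2 U.comms_le_sq (eq_bot_iff.2 (hK2le.trans h.le))
  obtain ⟨b₀, hb₀, hgen₀⟩ := hext a₀ ha₀ ha₀'
  set c := a₀ * b₀ - b₀ * a₀ with hcdef
  have hc3 := hnotone a₀ b₀ ha₀ hb₀ hgen₀
  -- exactly two generators
  have hne2 : finrank k (U.rad ^ 2 : Submodule k B) + 2 ≤ finrank k U.rad := by
    have h1 : U.rad ^ 2 < Submodule.span k {a₀} ⊔ U.rad ^ 2 := lt_of_le_of_ne le_sup_right fun he =>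
      ha₀' (he.symm ▸ Submodule.mem_sup_left (Submodule.mem_span_singleton_self a₀))
    have h2 : Submodule.span k {a₀} ⊔ U.rad ^ 2 < U.rad := by
      refine lt_of_le_of_ne (sup_le ((Submodule.span_singleton_le_iff_mem _ _).2 ha₀) hK2le) fun he => hc3 ?_
      obtain ⟨b₁, hb₁, b₂, hb₂, hbe⟩ := Submodule.mem_sup.1 (he.symm ▸ hb₀ : b₀ ∈ Submodule.span k {a₀} ⊔ U.rad ^ 2)
      obtain ⟨t, rfl⟩ := Submodule.mem_span_singleton.1 hb₁
      rw [← hbe, mul_add, add_mul, mul_smul_comm, smul_mul_assoc, add_sub_add_left_eq_sub]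
      refine sub_mem ?_ ?_
      · rw [pow_succ']; exact Submodule.mul_mem_mul ha₀ hb₂
      · rw [pow_succ]; exact Submodule.mul_mem_mul hb₂ ha₀
    have := Submodule.finrank_lt_finrank_of_lt h1
    have := Submodule.finrank_lt_finrank_of_lt h2
    omega
  have hr2 : finrank k (U.rad ^ 2 : Submodule k B) = finrank k U.comms + 1 := by omega
  -- the cube is not zero
  have hK3 : U.rad ^ 3 ≠ ⊥ := by
    intro h0
    refine hc3 ?_
    have hc2 : c ∈ U.comms := U.comm_mem_comms (U.rad_le ha₀) (U.rad_le hb₀)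
    have hcz : c = 0 := by
      refine U.nondeg τ hnd (U.rad_le (hK2le (U.comms_le_sq hc2))) (fun z hz => ?_) hτ
      rw [show z = (z - U.π z 0 0 • U.i) + U.π z 0 0 • U.i from (sub_add_cancel _ _).symm, mul_add,
        mul_smul_comm, U.corner_mul_right (U.rad_le (hK2le (U.comms_le_sq hc2))), map_add, map_smul,
        U.form_comms τ hτ hc2, smul_zero, add_zero]
      have h1 : c * (z - U.π z 0 0 • U.i) ∈ U.rad ^ 3 := by
        rw [pow_succ]; exact Submodule.mul_mem_mul (U.comms_le_sq hc2) (U.sub_mem_rad hz)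
      rw [h0, Submodule.mem_bot] at h1
      rw [h1, map_zero]
    rw [← hcdef, hcz]
    exact zero_mem _
  have hsq : U.rad ^ 2 ≤ Submodule.span k {c} ⊔ U.rad ^ 3 := by
    obtain ⟨s, hs, hsτ⟩ : ∃ s ∈ U.rad ^ 3, τ s ≠ 0 := by
      by_contra hno
      push Not at hno
      exact hK3 (U.eq_bot_of_form τ hτ hnd (by omega) hno)
    have h1 : U.comms < Submodule.span k {s} ⊔ U.comms := lt_of_le_of_ne le_sup_right fun he =>
      hsτ (U.form_comms τ hτ (he.symm ▸ Submodule.mem_sup_left (Submodule.mem_span_singleton_self s)))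
    have h2 : Submodule.span k {s} ⊔ U.comms ≤ U.rad ^ 2 :=
      sup_le ((Submodule.span_singleton_le_iff_mem _ _).2 (U.pow_succ_le 2 (by omega) hs)) U.comms_le_sq
    have := Submodule.finrank_lt_finrank_of_lt h1
    rw [← Submodule.eq_of_le_of_finrank_le h2 (by omega)]
    exact sup_le ((Submodule.span_singleton_le_iff_mem _ _).2 (Submodule.mem_sup_right hs))
      (U.comms_le_of_gens ha₀ hb₀ hgen₀)
  obtain ⟨u₃, hu₃, hcube⟩ := U.cube_le ha₀ hb₀ hsq hgen₀
  have hchain : ∀ n, 2 ≤ n → ∃ w ∈ U.rad ^ n, U.rad ^ n ≤ Submodule.span k {w} ⊔ U.rad ^ (n + 1) := by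
    intro n hn
    induction n using Nat.strong_induction_on with
    | _ n ih =>
      rcases (by omega : n = 2 ∨ n = 3 ∨ 4 ≤ n) with rfl | rfl | hn4
      · exact ⟨c, U.comms_le_sq (U.comm_mem_comms (U.rad_le ha₀) (U.rad_le hb₀)), hsq⟩
      · exact ⟨u₃, hu₃, hcube⟩
      · obtain ⟨m, rfl⟩ : ∃ m, n = 2 + m := ⟨n - 2, by omega⟩
        obtain ⟨w, hw, hwle⟩ := ih m (by omega) (by omega)
        have hc2 : c ∈ U.rad ^ 2 := U.comms_le_sq (U.comm_mem_comms (U.rad_le ha₀) (U.rad_le hb₀))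
        refine ⟨c * w, by rw [pow_add]; exact Submodule.mul_mem_mul hc2 hw, ?_⟩
        conv_lhs => rw [pow_add]
        rw [Submodule.mul_le]
        intro v hv z hz
        obtain ⟨v₀, hv₀, v₁, hv₁, rfl⟩ := Submodule.mem_sup.1 (hsq hv)
        obtain ⟨t, rfl⟩ := Submodule.mem_span_singleton.1 hv₀
        obtain ⟨z₀, hz₀, z₁, hz₁, rfl⟩ := Submodule.mem_sup.1 (hwle hz)
        obtain ⟨t', rfl⟩ := Submodule.mem_span_singleton.1 hz₀
        rw [add_mul, mul_add, smul_mul_smul_comm]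
        refine add_mem (add_mem (Submodule.mem_sup_left (Submodule.smul_mem _ _
          (Submodule.mem_span_singleton_self _))) (Submodule.mem_sup_right ?_)) (Submodule.mem_sup_right ?_)
        · rw [show 2 + m + 1 = 2 + (m + 1) by omega, pow_add]
          exact Submodule.mul_mem_mul (Submodule.smul_mem _ _ hc2) hz₁
        · rw [show 2 + m + 1 = 3 + m by omega, pow_add]
          exact Submodule.mul_mem_mul hv₁ (add_mem (Submodule.smul_mem _ _ hw) (U.pow_succ_le m (by omega) hz₁))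
  -- the last non-zero layer
  obtain ⟨N, hN⟩ := U.exists_rad_pow_eq_bot
  obtain ⟨L, hL⟩ : ∃ L, Nat.find (⟨N + 1, hN⟩ : ∃ L, U.rad ^ L = ⊥) = L := ⟨_, rfl⟩
  have hL0 : U.rad ^ L = ⊥ := hL ▸ Nat.find_spec (⟨N + 1, hN⟩ : ∃ L, U.rad ^ L = ⊥)
  have hLmin : ∀ l < L, U.rad ^ l ≠ ⊥ := fun l hl => Nat.find_min _ (hL ▸ hl)
  have hL4 : 4 ≤ L := by
    by_contra hlt
    rcases Nat.eq_zero_or_pos L with h | h
    · subst h
      refine hK3 (eq_bot_iff.2 ?_)
      rw [← zero_add 3, pow_add, hL0, Submodule.bot_mul]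
    · exact hK3 (eq_bot_iff.2 ((U.pow_le_pow h (by omega : L ≤ 3)).trans hL0.le))
  obtain ⟨m, rfl⟩ : ∃ m, L = m + 2 := ⟨L - 2, by omega⟩
  -- the annihilator of the square
  let Ψ : U.corner →ₗ[k] Module.Dual k (U.rad ^ 2 : Submodule k B) :=
    LinearMap.mk₂ k (fun a w => τ ((a : B) * (w : B)))
      (fun a a' w => by rw [Submodule.coe_add, add_mul, map_add])
      (fun t a w => by rw [Submodule.coe_smul, smul_mul_assoc, map_smul])
      (fun a w w' => by rw [Submodule.coe_add, mul_add, map_add])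
      (fun t a w => by rw [Submodule.coe_smul, mul_smul_comm, map_smul])
  have hdim := LinearMap.finrank_range_add_finrank_ker Ψ
  have hdual := Submodule.finrank_le (LinearMap.range Ψ)
  rw [Subspace.dual_finrank_eq] at hdual
  have hann : ∀ a : U.corner, a ∈ LinearMap.ker Ψ → ∀ w ∈ U.rad ^ 2, (a : B) * w = 0 := by
    intro a ha w hw
    refine U.nondeg τ hnd (U.mul_mem_corner a.2 (U.rad_le (hK2le hw))) (fun z hz => ?_) hτ
    rw [mul_assoc]
    exact LinearMap.congr_fun (LinearMap.mem_ker.1 ha) ⟨_, (U.mul_mem_pow (by omega) hw hz).1⟩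
  have hin : ∀ a : U.corner, a ∈ LinearMap.ker Ψ → (a : B) ∈ U.rad := by
    intro a ha
    by_contra har
    have h0 : U.π (a : B) 0 0 ≠ 0 := fun h0 => har (by simpa [h0] using U.sub_mem_rad a.2)
    refine hC0 2 U.comms_le_sq (U.eq_bot_of_le_succ fun w hw => ?_)
    have h1 : (a : B) * w = 0 := hann a ha w hw
    rw [show (a : B) = ((a : B) - U.π (a : B) 0 0 • U.i) + U.π (a : B) 0 0 • U.i from (sub_add_cancel _ _).symm,
      add_mul, smul_mul_assoc, U.corner_mul_left (U.rad_le (hK2le hw)), add_comm, add_eq_zero_iff_eq_neg] at h1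
    rw [← inv_smul_smul₀ h0 w, h1]
    refine Submodule.smul_mem _ _ (neg_mem ?_)
    rw [show 2 + 1 = 1 + 2 from rfl, pow_add, pow_one]
    exact Submodule.mul_mem_mul (U.sub_mem_rad a.2) hw
  by_cases hout : ∃ a : U.corner, a ∈ LinearMap.ker Ψ ∧ (a : B) ∉ U.rad ^ 2
  · -- a central generator
    obtain ⟨a, ha, ha2⟩ := hout
    obtain ⟨b, hb, hgen⟩ := hext a (hin a ha) ha2
    refine hnotone a b (hin a ha) hb hgen ?_
    rw [U.nondeg τ hnd (x := (a : B) * b - b * a)
      (U.corner.sub_mem (U.mul_mem_corner a.2 (U.rad_le hb)) (U.mul_mem_corner (U.rad_le hb) a.2))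
      (fun z hz => ?_) hτ]
    · exact zero_mem _
    have h1 : τ ((a : B) * (b * z - z * b)) = 0 :=
      LinearMap.congr_fun (LinearMap.mem_ker.1 ha) ⟨_, U.comms_le_sq (U.comm_mem_comms (U.rad_le hb) hz)⟩
    rw [mul_sub, map_sub, sub_eq_zero] at h1
    rw [sub_mul, map_sub, sub_eq_zero, mul_assoc, h1, mul_assoc b, hτ b, mul_assoc]
  push Not at hout
  -- the annihilator lies deep in the radical
  have hdeep : ∀ a : U.corner, a ∈ LinearMap.ker Ψ → ∀ n, 2 ≤ n → n ≤ m → (a : B) ∈ U.rad ^ n := by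
    intro a ha n hn hnL
    induction n, hn using Nat.le_induction with
    | base => exact hout a ha
    | succ n hn ih =>
      obtain ⟨w, hw, hwle⟩ := hchain n hn
      obtain ⟨w₀, hw₀, w₁, hw₁, hwe⟩ := Submodule.mem_sup.1 (hwle (ih (by omega)))
      obtain ⟨t, rfl⟩ := Submodule.mem_span_singleton.1 hw₀
      by_cases ht : t = 0
      · rwa [← hwe, ht, zero_smul, zero_add]
      exfalso
      refine hLmin (n + 2) (by omega) (U.eq_bot_of_le_succ ?_)
      rw [show n + 2 + 1 = (n + 1) + 2 by omega, pow_add, pow_add, Submodule.mul_le]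
      intro v hv z hz
      obtain ⟨v₀, hv₀, v₁, hv₁, rfl⟩ := Submodule.mem_sup.1 (hwle hv)
      obtain ⟨t', rfl⟩ := Submodule.mem_span_singleton.1 hv₀
      have h1 := hann a ha z hz
      rw [← hwe, add_mul, smul_mul_assoc, add_eq_zero_iff_eq_neg] at h1
      have h2 : w * z = t⁻¹ • -(w₁ * z) := by rw [← h1, inv_smul_smul₀ ht]
      rw [add_mul, smul_mul_assoc, h2]
      exact add_mem (Submodule.smul_mem _ _ (Submodule.smul_mem _ _ (neg_mem (Submodule.mul_mem_mul hw₁ hz))))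
        (Submodule.mul_mem_mul hv₁ hz)
  have hker : (LinearMap.ker Ψ).map U.corner.subtype ≤ U.rad ^ m := by
    rintro _ ⟨a, ha, rfl⟩
    exact hdeep a ha m (by omega) le_rfl
  have hker' := Submodule.finrank_mono hker
  rw [Submodule.finrank_map_subtype_eq] at hker'
  -- the last two layers
  have hsmall : ∀ n, 2 ≤ n → finrank k (U.rad ^ n : Submodule k B) ≤ finrank k (U.rad ^ (n + 1) : Submodule k B) + 1 := by
    intro n hn
    obtain ⟨w, -, hwle⟩ := hchain n hn
    have h1 := Submodule.finrank_mono hwle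
    have h2 := Submodule.finrank_add_le_finrank_add_finrank (Submodule.span k {w}) (U.rad ^ (n + 1))
    have h3 : finrank k (Submodule.span k {w}) ≤ 1 := (finrank_span_le_card {w}).trans (by simp)
    omega
  have h1 := hsmall m (by omega)
  have h2 := hsmall (m + 1) (by omega)
  rw [show m + 1 + 1 = m + 2 from rfl, hL0, finrank_bot] at h2
  omega

end MatUnits

end Cfsg.Agent.Lib.BlockAlg
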