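import Mathlib

/-!
# Small summands of permutation modules of p-groups

An equivariant idempotent on the functions on a finite set acted on by a p-group, in characteristic
p, whose non-zero entries between fixed points only occur for subgroups of order at most `d`, and
whose rank is at most the index of such a subgroup, factors through a single orbit.
-/

set_option autoImplicit false

namespace Cfsg.Agent.Lib.BlockAlg.PermSummand

open MulAction

variable {k : Type*} [Field k] {R X : Type*} [Group R] [MulAction R X]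

/-- The translation of functions. -/
def tr (r : R) : Module.End k (X → k) where
  toFun f x := f (r⁻¹ • x)
  map_add' _ _ := rfl
  map_smul' _ _ := rfl

theorem tr_apply (r : R) (f : X → k) (x : X) : tr r f x = f (r⁻¹ • x) := rfl

theorem tr_single [DecidableEq X] (r : R) (x : X) :
    tr r (Pi.single x (1 : k)) = Pi.single (r • x) 1 := by
  funext y
  simp only [tr_apply, Pi.single_apply, inv_smul_eq_iff]

/-- Equivariance. -/
def Equi (f : Module.End k (X → k)) : Prop := ∀ r : R, Commute f (tr r)

theorem equi_entry [DecidableEq X] {f : Module.End k (X → k)} (hf : Equi (R := R) f) (r : R) (x y : X) :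
    f (Pi.single (r • x) 1) (r • y) = f (Pi.single x 1) y := by
  rw [← tr_single (k := k), ← Module.End.mul_apply, (hf r).eq, Module.End.mul_apply, tr_apply,
    inv_smul_smul]

theorem equi_aeval {f : Module.End k (X → k)} (hf : Equi (R := R) f) (h : Polynomial k) :
    Equi (R := R) (Polynomial.aeval f h) := by
  intro r
  induction h using Polynomial.induction_on' with
  | add a b ha hb => rw [map_add]; exact ha.add_left hb
  | monomial n a =>
    rw [Polynomial.aeval_monomial]
    exact (Algebra.commute_algebraMap_left _ _).mul_left ((hf r).pow_left n)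

variable [Fintype X]

theorem apply_eq_sum [DecidableEq X] (f : Module.End k (X → k)) (w : X → k) (y : X) :
    f w y = ∑ x, w x * f (Pi.single x 1) y := by
  have h : f w = ∑ x, w x • f (Pi.single x 1) := by
    conv_lhs => rw [pi_eq_sum_univ' w]
    rw [map_sum]
    exact Finset.sum_congr rfl fun x _ => by rw [map_smul]
  rw [h, Finset.sum_apply]
  rfl

/-- An invariant family with non-zero sum is non-zero at a fixed point. -/
theorem exists_fixed_ne_zero {p : ℕ} [Fact p.Prime] [CharP k p] {H Y : Type*} [Group H]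
    [MulAction H Y] [Fintype Y] (hH : IsPGroup p H) (F : Y → k) (hinv : ∀ (h : H) y, F (h • y) = F y)
    (hne : ∑ y, F y ≠ 0) : ∃ y, (∀ h : H, h • y = y) ∧ F y ≠ 0 := by
  classical
  by_contra hno
  push Not at hno
  refine hne ?_
  let mk : Y → orbitRel.Quotient H Y := fun x => Quotient.mk'' x
  rw [← Finset.sum_fiberwise Finset.univ mk]
  refine Finset.sum_eq_zero fun ω _ => ?_
  induction ω using Quotient.inductionOn' with
  | h x =>
    have hc : ∀ y ∈ Finset.univ.filter (fun y => mk y = Quotient.mk'' x), F y = F x := by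
      intro y hy
      obtain ⟨a, rfl⟩ : y ∈ orbit H x := Quotient.eq''.1 (Finset.mem_filter.1 hy).2
      exact hinv a x
    rw [Finset.sum_congr rfl hc, Finset.sum_const, nsmul_eq_mul]
    have hcard : (Finset.univ.filter (fun y => mk y = Quotient.mk'' x)).card = Nat.card (orbit H x) := by
      rw [Nat.card_eq_fintype_card, ← Set.toFinset_card]
      congr 1
      ext y
      rw [Set.mem_toFinset, Finset.mem_filter]
      exact ⟨fun h => Quotient.eq''.1 h.2, fun h => ⟨Finset.mem_univ _, Quotient.eq''.2 h⟩⟩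
    rw [hcard]
    obtain ⟨n, hn⟩ := hH.card_orbit x
    rcases Nat.eq_zero_or_pos n with hn0 | hnpos
    · rw [hn0, pow_zero] at hn
      have hfix : ∀ h : H, h • x = x := fun h => by
        haveI : Subsingleton (orbit H x) := (Nat.card_eq_one_iff_unique.1 hn).1
        exact congrArg Subtype.val
          (Subsingleton.elim (⟨h • x, mem_orbit x h⟩ : orbit H x) ⟨x, mem_orbit_self x⟩)
      rw [hno x hfix, mul_zero]
    · have h0 : ((Nat.card (orbit H x) : ℕ) : k) = 0 := by
        rw [hn, Nat.cast_pow, CharP.cast_eq_zero, zero_pow hnpos.ne']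
      rw [h0, zero_mul]

/-- A p-group fixes a non-zero vector in every non-zero invariant subspace. -/
theorem exists_fixed_vector [Finite R] {p : ℕ} [Fact p.Prime] [CharP k p] (hR : IsPGroup p R)
    (W : Submodule k (X → k)) (hW : ∀ r : R, ∀ w ∈ W, tr r w ∈ W) (hne : W ≠ ⊥) :
    ∃ v ∈ W, v ≠ 0 ∧ ∀ r : R, tr r v = v := by
  classical
  letI : Algebra (ZMod p) k := ZMod.algebra k p
  obtain ⟨w, hwW, hw0⟩ := (Submodule.ne_bot_iff W).1 hne
  set S : Submodule (ZMod p) (X → k) := Submodule.span (ZMod p) (Set.range fun r : R => tr r w)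
  haveI : Module.Finite (ZMod p) S := Module.Finite.span_of_finite (ZMod p) (Set.finite_range _)
  haveI : Finite S := Module.finite_of_finite (ZMod p)
  have hcomp : ∀ (r s : R) (u : X → k), tr r (tr s u) = tr (r * s) u := fun r s u => by
    funext x
    simp only [tr_apply, _root_.mul_inv_rev, mul_smul]
  have hinv : ∀ (r : R), ∀ v ∈ S, tr r v ∈ S := by
    intro r v hv
    have : S ≤ S.comap ((tr (k := k) (X := X) r).restrictScalars (ZMod p)) := by
      refine Submodule.span_le.2 ?_
      rintro _ ⟨s, rfl⟩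
      show tr r (tr s w) ∈ S
      rw [hcomp]
      exact Submodule.subset_span ⟨r * s, rfl⟩
    exact this hv
  have hSW : ∀ v ∈ S, v ∈ W := fun v hv => by
    have : S ≤ W.restrictScalars (ZMod p) := Submodule.span_le.2 (by
      rintro _ ⟨s, rfl⟩
      exact hW s w hwW)
    exact this hv
  letI : MulAction R S :=
    { smul := fun r v => ⟨tr r v.1, hinv r v.1 v.2⟩
      one_smul := fun v => Subtype.ext (funext fun x => by
        show v.1 ((1 : R)⁻¹ • x) = v.1 x
        rw [inv_one, one_smul])
      mul_smul := fun r s v => Subtype.ext (hcomp r s v.1).symm }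
  have hdvd : p ∣ Nat.card S := by
    have hw : w ∈ S := Submodule.subset_span ⟨1, funext fun x => by
      simp only [tr_apply, inv_one, one_smul]⟩
    haveI : Nontrivial S := ⟨⟨⟨w, hw⟩, 0, fun h => hw0 (congrArg Subtype.val h)⟩⟩
    rw [Module.natCard_eq_pow_finrank (K := ZMod p), Nat.card_zmod]
    exact dvd_pow_self p (Module.finrank_pos).ne'
  have h0 : (0 : S) ∈ fixedPoints R S := fun r => Subtype.ext (map_zero (tr r))
  obtain ⟨v, hv, hv0⟩ := hR.exists_fixed_point_of_prime_dvd_card_of_fixed_point S hdvd h0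
  exact ⟨v.1, hSW _ v.2, fun h => hv0 (Subtype.ext h.symm), fun r => congrArg Subtype.val (hv r)⟩

/-- Fitting: in a minimal summand a non-nilpotent intertwiner has a left inverse. -/
theorem exists_left_inv {e : Module.End k (X → k)} (he : IsIdempotentElem e)
    (hmin : ∀ ε : Module.End k (X → k), IsIdempotentElem ε → Equi (R := R) ε → e * ε = ε → ε * e = ε →
      ε ≠ 0 → LinearMap.range e ≤ LinearMap.range ε)
    {φ : Module.End k (X → k)} (hφ : Equi (R := R) φ) (heφ : e * φ = φ) (hφe : φ * e = φ)
    (hnil : ¬ IsNilpotent φ) : ∃ ψ, Equi (R := R) ψ ∧ ψ * φ = e := by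
  obtain ⟨g, hg, hgnd⟩ := Polynomial.exists_eq_pow_rootMultiplicity_mul_and_not_dvd (minpoly k φ)
    (minpoly.ne_zero (Algebra.IsIntegral.isIntegral φ)) 0
  set m := (minpoly k φ).rootMultiplicity 0
  rw [Polynomial.C_0, sub_zero] at hg hgnd
  have hc : g.coeff 0 ≠ 0 := fun h => hgnd (Polynomial.X_dvd_iff.2 h)
  set h1 := Polynomial.aeval φ (Polynomial.C (-(g.coeff 0)⁻¹) * g.divX) with hh1
  have hh1e : Equi (R := R) h1 := equi_aeval hφ _
  have hcomm : Commute φ h1 := by
    rw [hh1]
    have h := (Commute.all (Polynomial.X : Polynomial k)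
      (Polynomial.C (-(g.coeff 0)⁻¹) * g.divX)).map (Polynomial.aeval φ)
    rwa [Polynomial.aeval_X] at h
  have hstep : φ ^ m = φ ^ (m + 1) * h1 := by
    have h0 := minpoly.aeval k φ
    rw [hg, map_mul, map_pow, Polynomial.aeval_X] at h0
    conv at h0 => lhs; arg 2; rw [← Polynomial.X_mul_divX_add g]
    rw [map_add, map_mul, Polynomial.aeval_X, Polynomial.aeval_C, mul_add, ← mul_assoc, ← pow_succ] at h0
    rw [hh1, map_mul, Polynomial.aeval_C, ← Algebra.smul_def, mul_smul_comm]
    rw [← Algebra.commutes, ← Algebra.smul_def, add_eq_zero_iff_eq_neg] at h0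
    rw [h0, neg_smul, smul_neg, neg_neg, smul_smul, inv_mul_cancel₀ hc, one_smul]
  set n := m + 1 with hnm
  have hn1 : φ ^ n = φ ^ m * φ := pow_succ φ m
  have hn2 : φ ^ n = φ * φ ^ m := pow_succ' φ m
  have hstep' : φ ^ n = φ ^ (n + 1) * h1 := by
    rw [pow_succ' φ n, mul_assoc, ← hstep, hn2]
  have hiter : ∀ j, φ ^ n = φ ^ (n + j) * h1 ^ j := fun j => by
    induction j with
    | zero => rw [add_zero, pow_zero, mul_one]
    | succ j ih =>
      calc φ ^ n = φ * φ ^ n * h1 := by rw [← pow_succ', ← hstep']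
        _ = φ * (φ ^ (n + j) * h1 ^ j) * h1 := by rw [← ih]
        _ = φ ^ (n + (j + 1)) * h1 ^ (j + 1) := by
          rw [← add_assoc, pow_succ' φ (n + j), pow_succ h1 j, mul_assoc, mul_assoc, mul_assoc]
  set ε := φ ^ n * h1 ^ n with hε
  have hεε : IsIdempotentElem ε := by
    show φ ^ n * h1 ^ n * (φ ^ n * h1 ^ n) = ε
    rw [mul_assoc, ← mul_assoc (h1 ^ n), ← (hcomm.pow_pow n n).eq, ← mul_assoc, ← mul_assoc, ← pow_add,
      ← hiter, ← hε]
  have heε : e * ε = ε := by
    rw [hε, hn2, ← mul_assoc, ← mul_assoc, heφ]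
  have hεe : ε * e = ε := by
    rw [hε, (hcomm.pow_pow n n).eq, mul_assoc, hn1, mul_assoc (φ ^ m), hφe]
  have hε0 : ε ≠ 0 := fun h => hnil ⟨n, by rw [hiter n, pow_add, mul_assoc, ← hε, h, mul_zero]⟩
  have hle := hmin ε hεε (fun r => ((hφ r).pow_left n).mul_left ((hh1e r).pow_left n)) heε hεe hε0
  have hee : ε * e = e := LinearMap.ext fun w => by
    obtain ⟨u, hu⟩ := hle ⟨w, rfl⟩
    show ε (e w) = e w
    rw [← hu, ← Module.End.mul_apply, hεε.eq]
  refine ⟨φ ^ m * h1 ^ n, fun r => ((hφ r).pow_left m).mul_left ((hh1e r).pow_left n), ?_⟩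
  rw [← hee, hεe, hε, hn1, mul_assoc, mul_assoc,
    ← (hcomm.pow_right n).eq]

/-- A minimal summand is a summand of one orbit. -/
theorem exists_not_nilpotent {e : Module.End k (X → k)} (he : IsIdempotentElem e) (he0 : e ≠ 0)
    (hmin : ∀ ε : Module.End k (X → k), IsIdempotentElem ε → Equi (R := R) ε → e * ε = ε → ε * e = ε →
      ε ≠ 0 → LinearMap.range e ≤ LinearMap.range ε) (heq : Equi (R := R) e)
    {ι : Type*} [Fintype ι] (t : ι → Module.End k (X → k)) (ht : ∀ i, Equi (R := R) (t i))
    (het : ∀ i, e * t i = t i) (hte : ∀ i, t i * e = t i) (hsum : ∑ i, t i = e) :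
    ∃ i, ¬ IsNilpotent (t i) := by
  classical
  by_contra hno
  push Not at hno
  have hno_left : ∀ u : Module.End k (X → k), e * u = u → IsNilpotent u →
      ¬ ∃ l : Module.End k (X → k), l * u = e := by
    rintro u heu ⟨N, hN⟩ ⟨l, hl⟩
    have : ∀ j, (l ^ j * u ^ (j + 1)) = u := fun j => by
      induction j with
      | zero => simp
      | succ j ih =>
        rw [pow_succ, show j + 1 + 1 = (j + 1) + 1 from rfl, pow_succ' u (j + 1), mul_assoc,
          ← mul_assoc l, hl, pow_succ' u j, ← mul_assoc e, heu, ← pow_succ', ih]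
    have hu : u = 0 := by
      rw [← this N, pow_succ, hN, zero_mul, mul_zero]
    exact he0 (by rw [← hl, hu, mul_zero])
  suffices h : ∀ s : Finset ι, ¬ ∃ ψ : Module.End k (X → k), Equi (R := R) ψ ∧ ψ * ∑ i ∈ s, t i = e from
    h Finset.univ ⟨e, heq, by rw [hsum, he.eq]⟩
  intro s
  induction s using Finset.induction_on with
  | empty => rintro ⟨ψ, -, hψ⟩; rw [Finset.sum_empty, mul_zero] at hψ; exact he0 hψ.symm
  | insert a s ha ih =>
    rintro ⟨ψ₀, hψ₀, hψ₀e⟩
    rw [Finset.sum_insert ha] at hψ₀e
    set ψ := e * ψ₀ with hψdef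
    have hψ : ψ * (t a + ∑ i ∈ s, t i) = e := by rw [hψdef, mul_assoc, hψ₀e, he.eq]
    set u := ψ * t a with hu
    have heu : e * u = u := by rw [hu, hψdef, ← mul_assoc, ← mul_assoc, he.eq]
    have hue : u * e = u := by rw [hu, mul_assoc, hte]
    have hueq : Equi (R := R) u := fun r => ((heq r).mul_left (hψ₀ r)).mul_left (ht a r)
    have hunil : IsNilpotent u := by
      by_contra hun
      obtain ⟨χ, -, hχ⟩ := exists_left_inv he hmin hueq heu hue hun
      exact hno_left (t a) (het a) (hno a) ⟨χ * ψ, by rw [mul_assoc, ← hu, hχ]⟩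
    obtain ⟨N, hN⟩ := hunil
    refine ih ⟨(∑ j ∈ Finset.range N, u ^ j) * ψ, fun r => ?_, ?_⟩
    · exact ((Commute.sum_left _ _ _ fun j _ => (hueq r).pow_left j)).mul_left ((heq r).mul_left (hψ₀ r))
    · have h2 : ψ * ∑ i ∈ s, t i = (1 - u) * e := by
        rw [sub_mul, one_mul, hue, ← hψ, mul_add, ← hu, add_sub_cancel_left]
      rw [mul_assoc, h2, ← mul_assoc, geom_sum_mul_neg, hN, sub_zero, one_mul]

theorem exists_orbit [Finite R] {p : ℕ} [Fact p.Prime] [CharP k p] [DecidableEq X] (hR : IsPGroup p R)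
    (π : Module.End k (X → k)) (hπ : IsIdempotentElem π) (hπeq : Equi (R := R) π) (hπ0 : π ≠ 0)
    {d : ℕ} (hd : ∀ (H : Subgroup R) (x y : X), (∀ h ∈ H, h • x = x) → (∀ h ∈ H, h • y = y) →
      π (Pi.single x 1) y ≠ 0 → Nat.card H ≤ d)
    (hrank : Module.finrank k (LinearMap.range π) * d ≤ Nat.card R) :
    ∃ x₀ : X, Nat.card (stabilizer R x₀) = d ∧
      ∀ (H : Subgroup R) (x y : X), (∀ h ∈ H, h • x = x) → (∀ h ∈ H, h • y = y) →
        π (Pi.single x 1) y ≠ 0 → ∃ o ∈ orbit R x₀, ∀ h ∈ H, h • o = o := by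
  classical
  -- a summand of least rank
  let cand : Module.End k (X → k) → Prop := fun e =>
    IsIdempotentElem e ∧ Equi (R := R) e ∧ π * e = e ∧ e * π = e ∧ e ≠ 0
  have hex : ∃ n, ∃ e, cand e ∧ Module.finrank k (LinearMap.range e) = n :=
    ⟨_, π, ⟨hπ, hπeq, hπ.eq, hπ.eq, hπ0⟩, rfl⟩
  obtain ⟨e, ⟨he, heeq, hπe, heπ, he0⟩, hn⟩ := Nat.find_spec hex
  have hmin : ∀ ε : Module.End k (X → k), IsIdempotentElem ε → Equi (R := R) ε → e * ε = ε → ε * e = ε →
      ε ≠ 0 → LinearMap.range e ≤ LinearMap.range ε := by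
    intro ε hεi hεeq h1 h2 h3
    have hle : LinearMap.range ε ≤ LinearMap.range e := by
      rintro _ ⟨w, rfl⟩
      exact ⟨ε w, by rw [← Module.End.mul_apply, h1]⟩
    refine (Submodule.eq_of_le_of_finrank_le hle ?_).ge
    rw [hn]
    exact Nat.find_min' hex ⟨ε, ⟨hεi, hεeq, by rw [← h1, ← mul_assoc, hπe],
      by rw [← h2, mul_assoc, heπ], h3⟩, rfl⟩
  -- the projections to the orbits
  let mk : X → orbitRel.Quotient R X := fun x => Quotient.mk'' x
  let P : orbitRel.Quotient R X → Module.End k (X → k) := fun ω =>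
    { toFun := fun f x => if mk x = ω then f x else 0
      map_add' := fun f g => funext fun x => by simp only [Pi.add_apply]; split_ifs <;> simp
      map_smul' := fun a f => funext fun x => by
        simp only [Pi.smul_apply, RingHom.id_apply, smul_eq_mul]; split_ifs <;> simp }
  have hPapply : ∀ ω f x, P ω f x = if mk x = ω then f x else 0 := fun _ _ _ => rfl
  have hmk : ∀ (r : R) x, mk (r • x) = mk x := fun r x => Quotient.eq''.2 (mem_orbit x r)
  have hPeq : ∀ ω, Equi (R := R) (P ω) := fun ω r => LinearMap.ext fun f => funext fun x => by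
    simp only [Module.End.mul_apply, hPapply, tr_apply, hmk]
  have hPP : ∀ ω, P ω * P ω = P ω := fun ω => LinearMap.ext fun f => funext fun x => by
    simp only [Module.End.mul_apply, hPapply]
    split_ifs <;> rfl
  have hPsum : ∑ ω, P ω = 1 := LinearMap.ext fun f => funext fun x => by
    simp only [LinearMap.sum_apply, Finset.sum_apply, hPapply, Finset.sum_ite_eq, Finset.mem_univ,
      if_true, Module.End.one_apply]
  obtain ⟨ω, hω⟩ := exists_not_nilpotent he he0 hmin heeq (fun ω => e * P ω * e)
    (fun ω r => ((heeq r).mul_left (hPeq ω r)).mul_left (heeq r))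
    (fun ω => by rw [← mul_assoc, ← mul_assoc, he.eq]) (fun ω => by rw [mul_assoc, he.eq])
    (by rw [← Finset.sum_mul, ← Finset.mul_sum, hPsum, mul_one, he.eq])
  obtain ⟨ψ, hψeq, hψ⟩ := exists_left_inv he hmin
    (fun r => ((heeq r).mul_left (hPeq ω r)).mul_left (heeq r))
    (by rw [← mul_assoc, ← mul_assoc, he.eq]) (by rw [mul_assoc, he.eq]) hω
  obtain ⟨x₀, rfl⟩ : ∃ x, mk x = ω := Quotient.exists_rep ω
  set Q := P (mk x₀) with hQ
  set b := e * ψ * e * Q with hb
  set a := Q * e with ha
  have hba : b * a = e := by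
    rw [hb, ha, mul_assoc, ← mul_assoc Q, hPP, mul_assoc (e * ψ), ← mul_assoc e, mul_assoc e ψ, hψ, he.eq]
  have hbeq : Equi (R := R) b := fun r =>
    (((heeq r).mul_left (hψeq r)).mul_left (heeq r)).mul_left (hPeq _ r)
  have haeq : Equi (R := R) a := fun r => (hPeq _ r).mul_left (heeq r)
  have heb : e * b = b := by simp only [hb, ← mul_assoc, he.eq]
  have hbQ : b * Q = b := by rw [hb, mul_assoc, hPP]
  have hQa : Q * a = a := by rw [ha, ← mul_assoc, hPP]
  set ε := a * b with hε
  have hεε : ε * ε = ε := by rw [hε, mul_assoc, ← mul_assoc b, hba, heb]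
  have hεeq : Equi (R := R) ε := fun r => (haeq r).mul_left (hbeq r)
  have hε0 : ε ≠ 0 := fun h => he0 (by
    rw [← he.eq, ← hba, mul_assoc, ← mul_assoc a, ← hε, h, zero_mul, mul_zero])
  have hQε : Q * ε = ε := by rw [hε, ← mul_assoc, hQa]
  have hεQ : ε * Q = ε := by rw [hε, mul_assoc, hbQ]
  -- the only idempotents on one orbit are trivial
  have hone : ε = Q := by
    by_contra hne
    have hfix : ∀ δ : Module.End k (X → k), δ * δ = δ → Equi (R := R) δ → Q * δ = δ → δ ≠ 0 →
        δ (fun x => if mk x = mk x₀ then 1 else 0) = fun x => if mk x = mk x₀ then 1 else 0 := by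
      intro δ hδ hδeq hQδ hδ0
      have hne' : LinearMap.range δ ≠ ⊥ := fun h => hδ0 (LinearMap.range_eq_bot.1 h)
      obtain ⟨v, ⟨w, hw⟩, hv0, hv⟩ := exists_fixed_vector hR (LinearMap.range δ) (by
        rintro r _ ⟨w, rfl⟩
        exact ⟨tr r w, by rw [← Module.End.mul_apply, (hδeq r).eq, Module.End.mul_apply]⟩) hne'
      have hδv : δ v = v := by rw [← hw, ← Module.End.mul_apply, hδ]
      have hQv : Q v = v := by rw [← hw, ← Module.End.mul_apply, hQδ]
      have hc : v = v x₀ • fun x => if mk x = mk x₀ then (1 : k) else 0 := by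
        funext x
        rw [Pi.smul_apply, smul_eq_mul]
        by_cases hx : mk x = mk x₀
        · obtain ⟨r, rfl⟩ : x ∈ orbit R x₀ := Quotient.eq''.1 hx
          rw [if_pos hx, mul_one]
          have := congrFun (hv r) (r • x₀)
          rw [tr_apply, inv_smul_smul] at this
          exact this.symm
        · rw [if_neg hx, mul_zero]
          have := congrFun hQv x
          rw [hQ, hPapply, if_neg hx] at this
          exact this.symm
      have hcne : v x₀ ≠ 0 := fun h => hv0 (by rw [hc, h, zero_smul])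
      rw [hc, map_smul] at hδv
      exact smul_right_injective _ hcne hδv
    have h1 := hfix ε hεε hεeq hQε hε0
    have h2 := hfix (Q - ε) (by rw [sub_mul, mul_sub, mul_sub, hPP, hQε, hεQ, hεε, sub_self, sub_zero])
      (fun r => (hPeq _ r).sub_left (hεeq r)) (by rw [mul_sub, hPP, hQε]) (sub_ne_zero.2 (Ne.symm hne))
    rw [LinearMap.sub_apply, h1] at h2
    have h3 := congrFun h2 x₀
    simp only [Pi.sub_apply, hQ, hPapply, if_true, sub_self] at h3
    exact zero_ne_one h3
  -- the orbit is no larger than the summand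
  have hOle : Nat.card (orbit R x₀) ≤ Module.finrank k (LinearMap.range e) := by
    haveI := Fintype.ofFinite (orbit R x₀)
    have h1 : Module.finrank k (LinearMap.range Q) ≤ Module.finrank k (LinearMap.range e) := by
      rw [← hone, hε, Module.End.mul_eq_comp, LinearMap.range_comp]
      refine (Submodule.finrank_map_le _ _).trans (Submodule.finrank_mono ?_)
      rintro _ ⟨w, rfl⟩
      exact ⟨b w, by rw [← Module.End.mul_apply, heb]⟩
    refine le_trans ?_ h1
    let J : (orbit R x₀ → k) →ₗ[k] LinearMap.range Q :=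
      { toFun := fun f => ⟨Q (fun x => if h : x ∈ orbit R x₀ then f ⟨x, h⟩ else 0), _, rfl⟩
        map_add' := fun f g => Subtype.ext (by
          show Q _ = Q _ + Q _
          rw [← map_add]
          congr 1
          funext x
          simp only [Pi.add_apply]
          split_ifs <;> simp)
        map_smul' := fun c f => Subtype.ext (by
          show Q _ = c • Q _
          rw [← map_smul]
          congr 1
          funext x
          simp only [Pi.smul_apply, smul_eq_mul]
          split_ifs <;> simp) }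
    have hJ : Function.Injective J := fun f g hfg => funext fun o => by
      have := congrFun (congrArg Subtype.val hfg) o.1
      simpa [J, hQ, hPapply, show mk o.1 = mk x₀ from Quotient.eq''.2 o.2, o.2] using this
    have h2 := LinearMap.finrank_le_finrank_of_injective hJ
    rwa [Module.finrank_pi, ← Nat.card_eq_fintype_card] at h2
  -- the stabiliser is small
  have hstab : Nat.card (stabilizer R x₀) ≤ d := by
    set v := b (Pi.single x₀ 1) with hv
    have hπb : π * b = b := by rw [← heb, ← mul_assoc, hπe]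
    have hax : a v x₀ = 1 := by
      rw [hv, ← Module.End.mul_apply, ← hε, hone, hQ, hPapply, if_pos rfl, Pi.single_eq_same]
    have hev : e v = v := by rw [hv, ← Module.End.mul_apply, heb]
    have hvx : v x₀ ≠ 0 := by
      rw [ha, Module.End.mul_apply, hev, hQ, hPapply, if_pos rfl] at hax
      rw [hax]
      exact one_ne_zero
    have hsum : ∑ x, v x * π (Pi.single x 1) x₀ ≠ 0 := by
      rw [← apply_eq_sum]
      rwa [hv, ← Module.End.mul_apply, hπb]
    obtain ⟨x, hx, hne⟩ := exists_fixed_ne_zero (hR.to_subgroup (stabilizer R x₀))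
      (fun x => v x * π (Pi.single x 1) x₀) (fun h x => by
        have hh : (h : R) • x₀ = x₀ := h.2
        have h1 := equi_entry hbeq (h : R) x₀ x
        have h2 := equi_entry hπeq (h : R) x x₀
        rw [hh] at h1 h2
        show b _ ((h : R) • x) * _ = _
        rw [hv, h1]
        congr 1) hsum
    exact hd _ x x₀ (fun h hh => hx ⟨h, hh⟩) (fun h hh => hh) (right_ne_zero_of_mul hne)
  have hRc : Nat.card (orbit R x₀) * Nat.card (stabilizer R x₀) = Nat.card R := by
    rw [Nat.card_congr (orbitEquivQuotientStabilizer R x₀), mul_comm]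
    exact Subgroup.card_mul_index _
  have hrange : LinearMap.range e ≤ LinearMap.range π := by
    rintro _ ⟨w, rfl⟩
    exact ⟨e w, by rw [← Module.End.mul_apply, hπe]⟩
  have hOpos : 0 < Nat.card (orbit R x₀) := by
    haveI : Nonempty (orbit R x₀) := ⟨⟨x₀, mem_orbit_self x₀⟩⟩
    exact Nat.card_pos
  have hle2 := hOle.trans (Submodule.finrank_mono hrange)
  have hd0 : 0 < d := lt_of_lt_of_le Nat.card_pos hstab
  have hstab_eq : Nat.card (stabilizer R x₀) = d := by
    refine le_antisymm hstab (Nat.le_of_mul_le_mul_left ?_ hOpos)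
    rw [hRc]
    exact (Nat.mul_le_mul_right d hle2).trans hrank
  have heπ' : e = π := by
    have hre : LinearMap.range e = LinearMap.range π := by
      refine Submodule.eq_of_le_of_finrank_le hrange (le_trans ?_ hOle)
      refine Nat.le_of_mul_le_mul_right ?_ hd0
      rw [← hstab_eq] at hrank ⊢
      rwa [hRc]
    rw [← heπ]
    refine LinearMap.ext fun w => ?_
    obtain ⟨u, hu⟩ : π w ∈ LinearMap.range e := hre ▸ ⟨w, rfl⟩
    rw [Module.End.mul_apply, ← hu, ← Module.End.mul_apply, he.eq]
  refine ⟨x₀, hstab_eq, fun H x y hHx hHy hne => ?_⟩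
  rw [← heπ', ← hba, Module.End.mul_apply, apply_eq_sum] at hne
  obtain ⟨o, ho, hne'⟩ := exists_fixed_ne_zero (hR.to_subgroup H)
    (fun o => a (Pi.single x 1) o * b (Pi.single o 1) y) (fun h o => by
      have h1 := equi_entry haeq (h : R) x o
      have h2 := equi_entry hbeq (h : R) o y
      rw [hHx _ h.2] at h1
      rw [hHy _ h.2] at h2
      show a _ ((h : R) • o) * b (Pi.single ((h : R) • o) 1) y = _
      rw [h1, h2]) hne
  refine ⟨o, ?_, fun h hh => ho ⟨h, hh⟩⟩
  by_contra hno
  have : a (Pi.single x 1) o = 0 := by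
    rw [← hQa, Module.End.mul_apply, hQ, hPapply, if_neg (fun h => hno (Quotient.eq''.1 h))]
  exact left_ne_zero_of_mul hne' this

end Cfsg.Agent.Lib.BlockAlg.PermSummand
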