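import Mathlib
import Cfsg.Agent.Lib.BlockAlg.Block
import Cfsg.Agent.Lib.BlockAlg.PermSummand
import Cfsg.Agent.Lib.BrauerPairs.Block
import Cfsg.Agent.Lib.Blocks.DefectClass

/-!
# Blocks of least dimension

If the block algebra has dimension `[G]_p² / |D|` then it is, as a module for `P × P` with `P` a
Sylow p-subgroup, a transitive permutation module; hence the automizer of every p-subgroup carrying
a pair of the block is a p-group.
-/

set_option autoImplicit false

namespace Cfsg.Agent.Lib.BlockAlg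

open Cfsg MonoidAlgebra
open Cfsg.Agent.Lib
open Cfsg.Agent.Lib.Blocks
open MulAction

universe u

attribute [local instance] Classical.propDecidable

variable {G : Type u} [Group G] [Fintype G] {p : ℕ} [Fact p.Prime] {M : Ideal AlgInt} [M.IsPrime]
  {B : Set (IrrCharacter G)} (hB : IsPBlock M B)

theorem idem_coeff_conj (u g : G) : (idem hB).coeff (u * g * u⁻¹) = (idem hB).coeff g := by
  have h := congrArg (fun z : MonoidAlgebra (Residue M) G => z.coeff (u * g))
    (idem_comm hB (single u 1))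
  simp only [coeff_mul_single_apply, coeff_single_mul_apply, mul_one, one_mul,
    inv_mul_cancel_left] at h
  exact h

theorem unit_of_idem_coeff_ne_zero {g : G} (h : (idem hB).coeff g ≠ 0) :
    ¬ MemLocalIdeal M (blockCoeff B g) := by
  intro hm
  apply h
  have : (idem hB).coeff g = residue M
      (((blockIdem M hB : RCenter M G) : MonoidAlgebra (localRing M) G).coeff g) := by
    simp [idem, toF]
  rw [this, residue_eq_zero_iff, coe_coeff_blockIdem]
  exact hm

theorem idem_coeff_ne_zero_of_unit {g : G} (h : ¬ MemLocalIdeal M (blockCoeff B g)) :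
    (idem hB).coeff g ≠ 0 := by
  intro hm
  apply h
  have : (idem hB).coeff g = residue M
      (((blockIdem M hB : RCenter M G) : MonoidAlgebra (localRing M) G).coeff g) := by
    simp [idem, toF]
  rwa [this, residue_eq_zero_iff, coe_coeff_blockIdem] at hm

theorem finrank_range_regMatrix :
    Module.finrank (Residue M) (LinearMap.range (Contrib.regMatrix (idem hB)).mulVecLin) =
      Module.finrank (Residue M) (Alg hB) := by
  rw [← Contrib.finrank_range_mulLeft]
  have h1 := LinearMap.finrank_range_add_finrank_ker (LinearMap.mulLeft (Residue M) (idem hB))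
  have h2 := LinearMap.finrank_range_add_finrank_ker (proj hB).toLinearMap
  have hk : LinearMap.ker (proj hB).toLinearMap = LinearMap.ker (LinearMap.mulLeft (Residue M) (idem hB)) := by
    ext z
    exact proj_eq_zero_iff hB
  rw [LinearMap.range_eq_top.2 (proj_surjective hB), finrank_top, hk] at h2
  omega

/-- A block of least dimension has p-groups as automizers. -/
theorem mem_centralizer_of_minimal (hM : IsPModular p M) {D : Subgroup G}
    (hD : IsDefectGroup p M B D)
    (hdim : Module.finrank (Residue M) (Alg hB) * Nat.card D ≤ (p ^ (Nat.card G).factorization p) ^ 2)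
    {Q : Subgroup G} (hQ : IsPGroup p Q) {c : G} (hc : c ∈ Subgroup.centralizer (Q : Set G))
    (hcne : ¬ MemLocalIdeal M (blockCoeff B c)) {x : G} (hxN : x ∈ Subgroup.normalizer (Q : Set G))
    (hxp : IsPRegular p x) : x ∈ Subgroup.centralizer (Q : Set G) := by
  classical
  haveI := charP_residue hM
  obtain ⟨P⟩ : Nonempty (Sylow p G) := inferInstance
  -- conjugate the situation into `P`
  obtain ⟨S, hS⟩ := hQ.exists_le_sylow
  obtain ⟨s, hs⟩ := MulAction.exists_smul_eq G S P
  have hQP : ∀ q ∈ Q, s * q * s⁻¹ ∈ (P : Subgroup G) := fun q hq => by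
    rw [← hs]
    exact Subgroup.smul_mem_pointwise_smul q (MulAut.conj s) _ (hS hq)
  -- the action on the group
  let act : ↥(P : Subgroup G) × ↥(P : Subgroup G) →* Equiv.Perm G :=
    { toFun := fun r =>
        { toFun := fun g => (r.1 : G) * g * (r.2 : G)⁻¹
          invFun := fun g => (r.1 : G)⁻¹ * g * (r.2 : G)
          left_inv := fun g => by group
          right_inv := fun g => by group }
      map_one' := Equiv.ext fun g => by simp
      map_mul' := fun r r' => Equiv.ext fun g => by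
        simp only [Prod.fst_mul, Prod.snd_mul, Subgroup.coe_mul, Equiv.coe_fn_mk,
          Equiv.Perm.mul_apply]
        group }
  letI : MulAction (↥(P : Subgroup G) × ↥(P : Subgroup G)) G := MulAction.compHom G act
  have hsmul : ∀ (r : ↥(P : Subgroup G) × ↥(P : Subgroup G)) (g : G), r • g = (r.1 : G) * g * (r.2 : G)⁻¹ :=
    fun _ _ => rfl
  set π : Module.End (Residue M) (G → Residue M) := (Contrib.regMatrix (idem hB)).mulVecLin with hπdef
  have hentry : ∀ a b : G, π (Pi.single a 1) b = (idem hB).coeff (b * a⁻¹) := fun a b => by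
    rw [hπdef, Matrix.mulVecLin_apply, Matrix.mulVec_single_one]
    rfl
  have hπi : IsIdempotentElem π := by
    show π * π = π
    rw [hπdef, Module.End.mul_eq_comp, ← Matrix.mulVecLin_mul,
      Contrib.regMatrix_mul_self (idem_mul_self hB)]
  have hπeq : PermSummand.Equi (R := ↥(P : Subgroup G) × ↥(P : Subgroup G)) π := fun r => by
    refine LinearMap.ext fun f => funext fun y => ?_
    show π (PermSummand.tr r f) y = π f (r⁻¹ • y)
    rw [hπdef, Matrix.mulVecLin_apply, Matrix.mulVecLin_apply]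
    simp only [Matrix.mulVec, dotProduct, PermSummand.tr_apply]
    refine (Equiv.sum_comp (MulAction.toPerm r) _).symm.trans (Finset.sum_congr rfl fun z _ => ?_)
    rw [MulAction.toPerm_apply, inv_smul_smul]
    congr 1
    show (idem hB).coeff (y * (r • z)⁻¹) = (idem hB).coeff ((r⁻¹ • y) * z⁻¹)
    rw [hsmul, hsmul, ← idem_coeff_conj hB (r.1 : G) ((r⁻¹.1 : G) * y * (r⁻¹.2 : G)⁻¹ * z⁻¹)]
    congr 1
    simp only [Prod.fst_inv, Prod.snd_inv, InvMemClass.coe_inv]
    group
  have hπ0 : π ≠ 0 := fun h => by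
    have h1 := finrank_range_regMatrix hB
    rw [← hπdef, h, LinearMap.range_zero, finrank_bot] at h1
    exact (finrank_pos hB).ne h1
  obtain ⟨g, hg, hgD⟩ := Blocks.isDefectGroup_iff.1 hD
  have hD' := Blocks.isPGroup_of_isDefectGroup hD
  have hR : IsPGroup p (↥(P : Subgroup G) × ↥(P : Subgroup G)) := by
    refine IsPGroup.of_card (n := (Nat.card G).factorization p + (Nat.card G).factorization p) ?_
    rw [Nat.card_prod, P.card_eq_multiplicity, pow_add]
  have hd : ∀ (H : Subgroup (↥(P : Subgroup G) × ↥(P : Subgroup G))) (a b : G), (∀ h ∈ H, h • a = a) →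
      (∀ h ∈ H, h • b = b) → π (Pi.single a 1) b ≠ 0 → Nat.card H ≤ Nat.card D := by
    intro H a b ha hb hne
    rw [hentry] at hne
    let f : H →* G := ((P : Subgroup G).subtype.comp (MonoidHom.fst _ _)).comp H.subtype
    have hfinj : Function.Injective f := (injective_iff_map_eq_one f).2 fun h h1 => by
      have h2 : ((h.1.1 : G)) * a * (h.1.2 : G)⁻¹ = a := (hsmul h.1 a).symm.trans (ha _ h.2)
      have h3 : (h.1.1 : G) = 1 := h1
      rw [h3, one_mul, mul_eq_left, inv_eq_one] at h2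
      exact Subtype.ext (Prod.ext (Subtype.ext h3) (Subtype.ext h2))
    have hcen : b * a⁻¹ ∈ Subgroup.centralizer (f.range : Set G) := by
      rw [Subgroup.mem_centralizer_iff]
      rintro _ ⟨h, rfl⟩
      have h1 : (h.1.1 : G) * a * (h.1.2 : G)⁻¹ = a := (hsmul h.1 a).symm.trans (ha _ h.2)
      have h2 : (h.1.1 : G) * b * (h.1.2 : G)⁻¹ = b := (hsmul h.1 b).symm.trans (hb _ h.2)
      show (h.1.1 : G) * (b * a⁻¹) = b * a⁻¹ * (h.1.1 : G)
      calc (h.1.1 : G) * (b * a⁻¹) = (h.1.1 : G) * b * (h.1.2 : G)⁻¹ *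
            ((h.1.1 : G) * a * (h.1.2 : G)⁻¹)⁻¹ * (h.1.1 : G) := by group
        _ = _ := by rw [h1, h2]
    have hK : IsPGroup p f.range :=
      (hR.to_subgroup H).of_surjective f.rangeRestrict f.rangeRestrict_surjective
    obtain ⟨t, ht⟩ := Blocks.exists_conj_le_of_unit hM hB hg hgD hK hcen
      (unit_of_idem_coeff_ne_zero hB hne)
    calc Nat.card H = Nat.card f.range := Nat.card_congr (MonoidHom.ofInjective hfinj).toEquiv
      _ ≤ Nat.card (D.map (MulAut.conj t).toMonoidHom) := Subgroup.card_le_of_le ht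
      _ = Nat.card D :=
          Nat.card_congr (Subgroup.equivMapOfInjective _ _ (MulAut.conj t).injective).toEquiv.symm
  obtain ⟨x₀, hx₀, horb⟩ := PermSummand.exists_orbit hR π hπi hπeq hπ0 hd (by
    rw [hπdef, finrank_range_regMatrix, Nat.card_prod, P.card_eq_multiplicity, ← pow_two]
    exact hdim)
  -- a point fixed by the diagonal of a defect group
  obtain ⟨T, hT⟩ := hD'.exists_le_sylow
  obtain ⟨t, ht⟩ := MulAction.exists_smul_eq G T P
  have hDP : ∀ δ ∈ D, t * δ * t⁻¹ ∈ (P : Subgroup G) := fun δ hδ => by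
    rw [← ht]
    exact Subgroup.smul_mem_pointwise_smul δ (MulAut.conj t) _ (hT hδ)
  let dD : D →* (P : Subgroup G) := ((MulAut.conj t).toMonoidHom.comp D.subtype).codRestrict _
    fun δ => hDP δ δ.2
  have hdDinj : Function.Injective (dD.prod dD) := fun δ δ' h => by
    have h1 : t * (δ : G) * t⁻¹ = t * (δ' : G) * t⁻¹ := congrArg (fun r : ↥(P : Subgroup G) × ↥(P : Subgroup G) => ((r.1 : ↥(P : Subgroup G)) : G)) h
    exact Subtype.ext (mul_left_cancel (mul_right_cancel h1))
  have hgc : ∀ δ ∈ D, δ * g = g * δ := fun δ hδ =>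
    Subgroup.mem_centralizer_singleton_iff.1 (hgD.2.1 hδ)
  obtain ⟨o, ho, hofix⟩ := horb (dD.prod dD).range 1 (t * g * t⁻¹) (by
      rintro _ ⟨δ, rfl⟩
      rw [hsmul, mul_one]
      exact mul_inv_cancel _) (by
      rintro _ ⟨δ, rfl⟩
      rw [hsmul]
      show t * (δ : G) * t⁻¹ * (t * g * t⁻¹) * (t * (δ : G) * t⁻¹)⁻¹ = t * g * t⁻¹
      calc t * (δ : G) * t⁻¹ * (t * g * t⁻¹) * (t * (δ : G) * t⁻¹)⁻¹ =
            t * ((δ : G) * g) * (δ : G)⁻¹ * t⁻¹ := by group
        _ = _ := by rw [hgc δ δ.2]; group) (by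
      rw [hentry, inv_one, mul_one, idem_coeff_conj]
      exact idem_coeff_ne_zero_of_unit hB hg.2.1)
  have hstabo : stabilizer (↥(P : Subgroup G) × ↥(P : Subgroup G)) o = (dD.prod dD).range := by
    refine (Subgroup.eq_of_le_of_card_ge (fun h hh => hofix h hh) ?_).symm
    obtain ⟨r, rfl⟩ := ho
    rw [Nat.card_congr (MonoidHom.ofInjective hdDinj).toEquiv.symm, ← hx₀,
      MulAction.stabilizer_smul_eq_stabilizer_map_conj]
    exact (Nat.card_congr (Subgroup.equivMapOfInjective _ _ (MulAut.conj r).injective).toEquiv.symm).le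
  -- the twisted diagonal
  have hxQ : ∀ q : G, q ∈ Q → x * q * x⁻¹ ∈ Q := fun q hq =>
    (Subgroup.mem_normalizer_iff.1 hxN q).1 hq
  let d1 : Q →* (P : Subgroup G) := ((MulAut.conj (s * x)).toMonoidHom.comp Q.subtype).codRestrict _
    fun q => by
      have := hQP _ (hxQ q q.2)
      show s * x * (q : G) * (s * x)⁻¹ ∈ (P : Subgroup G)
      convert this using 1
      group
  let d2 : Q →* (P : Subgroup G) := ((MulAut.conj s).toMonoidHom.comp Q.subtype).codRestrict _
    fun q => hQP q q.2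
  have hcc : ∀ q ∈ Q, q * c = c * q := fun q hq => Subgroup.mem_centralizer_iff.1 hc q hq
  obtain ⟨o', ho', ho'fix⟩ := horb (d1.prod d2).range (s * x * s⁻¹) (s * (c * x) * s⁻¹) (by
      rintro _ ⟨q, rfl⟩
      rw [hsmul]
      show s * x * (q : G) * (s * x)⁻¹ * (s * x * s⁻¹) * (s * (q : G) * s⁻¹)⁻¹ = _
      group) (by
      rintro _ ⟨q, rfl⟩
      rw [hsmul]
      show s * x * (q : G) * (s * x)⁻¹ * (s * (c * x) * s⁻¹) * (s * (q : G) * s⁻¹)⁻¹ = _
      calc s * x * (q : G) * (s * x)⁻¹ * (s * (c * x) * s⁻¹) * (s * (q : G) * s⁻¹)⁻¹ =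
            s * ((x * (q : G) * x⁻¹) * c) * (x * (q : G)⁻¹ * s⁻¹) := by group
        _ = _ := by rw [hcc _ (hxQ q q.2)]; group) (by
      rw [hentry, show s * (c * x) * s⁻¹ * (s * x * s⁻¹)⁻¹ = s * c * s⁻¹ by group, idem_coeff_conj]
      exact idem_coeff_ne_zero_of_unit hB hcne)
  obtain ⟨w, rfl⟩ : o' ∈ orbit (↥(P : Subgroup G) × ↥(P : Subgroup G)) o := by
    rw [MulAction.orbit_eq_iff.2 ho]
    exact ho'
  set z := s⁻¹ * ((w.1 : G) * (w.2 : G)⁻¹) * s with hz
  have hzq : ∀ q ∈ Q, x * q * x⁻¹ = z * q * z⁻¹ := fun q hq => by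
    have h1 := ho'fix (d1.prod d2 ⟨q, hq⟩) ⟨_, rfl⟩
    have h2 : d1.prod d2 ⟨q, hq⟩ ∈ stabilizer (↥(P : Subgroup G) × ↥(P : Subgroup G)) (w • o) := h1
    rw [MulAction.stabilizer_smul_eq_stabilizer_map_conj, hstabo] at h2
    obtain ⟨_, ⟨δ, rfl⟩, hδ⟩ := h2
    have ha : (w.1 : G) * (t * (δ : G) * t⁻¹) * (w.1 : G)⁻¹ = s * x * q * (s * x)⁻¹ :=
      congrArg (fun r : ↥(P : Subgroup G) × ↥(P : Subgroup G) => ((r.1 : ↥(P : Subgroup G)) : G)) hδ
    have hb : (w.2 : G) * (t * (δ : G) * t⁻¹) * (w.2 : G)⁻¹ = s * q * s⁻¹ :=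
      congrArg (fun r : ↥(P : Subgroup G) × ↥(P : Subgroup G) => ((r.2 : ↥(P : Subgroup G)) : G)) hδ
    calc x * q * x⁻¹ = s⁻¹ * (s * x * q * (s * x)⁻¹) * s := by group
      _ = s⁻¹ * ((w.1 : G) * (w.2 : G)⁻¹ * ((w.2 : G) * (t * (δ : G) * t⁻¹) * (w.2 : G)⁻¹) *
            ((w.1 : G) * (w.2 : G)⁻¹)⁻¹) * s := by rw [← ha]; group
      _ = z * q * z⁻¹ := by rw [hb, hz]; group
  have hzN : z ∈ Subgroup.normalizer (Q : Set G) := by
    refine mem_normalizer_of_map_le fun q hq => ?_
    rw [← hzq q hq]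
    exact hxQ q hq
  -- both induce the same automorphism
  let θ := Q.normalizerMonoidHom
  have heq : θ ⟨x, hxN⟩ = θ ⟨z, hzN⟩ := MulEquiv.ext fun q => Subtype.ext (hzq q q.2)
  obtain ⟨n, hn⟩ : ∃ n, ((w.1 : G) * (w.2 : G)⁻¹) ^ p ^ n = 1 := by
    obtain ⟨n, hn⟩ := P.isPGroup' (w.1 * w.2⁻¹)
    exact ⟨n, by simpa using congrArg Subtype.val hn⟩
  have h1 : orderOf (θ ⟨x, hxN⟩) ∣ orderOf x := by
    refine (orderOf_map_dvd θ _).trans ?_
    rw [Subgroup.orderOf_mk]
  have h2 : orderOf (θ ⟨x, hxN⟩) ∣ p ^ n := by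
    rw [heq]
    refine (orderOf_map_dvd θ _).trans ?_
    rw [Subgroup.orderOf_mk]
    refine orderOf_dvd_of_pow_eq_one ?_
    have hh := conj_pow (a := s⁻¹) (b := (w.1 : G) * (w.2 : G)⁻¹) (i := p ^ n)
    rw [inv_inv] at hh
    rw [hz, hh, hn, mul_one, inv_mul_cancel]
  have h3 : θ ⟨x, hxN⟩ = 1 := orderOf_eq_one_iff.1
    (Nat.eq_one_of_dvd_coprimes (((Nat.Prime.coprime_iff_not_dvd Fact.out).2 hxp).pow_left n) h2 h1)
  rw [Subgroup.mem_centralizer_iff]
  intro q hq
  have h4 : x * q * x⁻¹ = q :=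
    (congrArg (fun φ : MulAut Q => ((φ ⟨q, hq⟩ : Q) : G)) h3 :)
  calc q * x = x * q * x⁻¹ * x := by rw [h4]
    _ = x * q := by group
where
  mem_normalizer_of_map_le {G : Type u} [Group G] [Finite G] {Q : Subgroup G} {z : G}
      (h : ∀ q ∈ Q, z * q * z⁻¹ ∈ Q) : z ∈ Subgroup.normalizer (Q : Set G) := by
    have hle : Q.map (MulAut.conj z).toMonoidHom ≤ Q := by
      rintro _ ⟨q, hq, rfl⟩
      exact h q hq
    have heq : Q.map (MulAut.conj z).toMonoidHom = Q := Subgroup.eq_of_le_of_card_ge hle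
      (Nat.card_congr (Subgroup.equivMapOfInjective _ _ (MulAut.conj z).injective).toEquiv).le
    refine Subgroup.mem_normalizer_iff.2 fun y => ⟨h y, fun hy => ?_⟩
    obtain ⟨y', hy', he⟩ : z * y * z⁻¹ ∈ Q.map (MulAut.conj z).toMonoidHom := heq.symm ▸ hy
    have : y' = y := (MulAut.conj z).injective he
    exact this ▸ hy'

end Cfsg.Agent.Lib.BlockAlg
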