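import Mathlib
import Cfsg.Agent.Lib.BlockAlg.Auto
import Cfsg.Agent.Lib.Blocks.SectionSums

/-!
# Sections of a block and automorphisms

The characters of a block on a section are those of the blocks of the centraliser inducing it; so
the trace on a section of a map realised by an automorphism of the centraliser is a natural number.
-/

set_option autoImplicit false

namespace Cfsg.Agent.Lib.BlockAlg

open Cfsg
open Cfsg.Agent.Lib
open Cfsg.Agent.Lib.Blocks
open scoped ComplexConjugate

universe u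

attribute [local instance] Classical.propDecidable

variable {G : Type u} [Group G] [Fintype G] {p : ℕ} [Fact p.Prime] {M : Ideal AlgInt} [M.IsPrime]

/-- The characters of `C` in blocks inducing `B`. -/
def inducingSet (M : Ideal AlgInt) (C : Subgroup G) (B : Set (IrrCharacter G)) :
    Set (IrrCharacter C) :=
  {φ | IsInducedBlock M C (blockOf M (φ : C → ℂ)) B}

omit [Fintype G] in
theorem isInducedBlock_unique {C : Subgroup G} {e : Set (IrrCharacter C)}
    {B B' : Set (IrrCharacter G)} (h : IsInducedBlock M C e B) (h' : IsInducedBlock M C e B') :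
    B = B' := by
  obtain ⟨ξ, hξ⟩ := isPBlock_nonempty h.1
  obtain ⟨χ, hχ⟩ := isPBlock_nonempty h.2.1
  obtain ⟨χ', hχ'⟩ := isPBlock_nonempty h'.2.1
  refine isPBlock_eq_of_mem h.2.1 h'.2.1 hχ (mem_of_sameBlock h'.2.1 hχ' fun g => ?_)
  have hsub := memLocalIdeal_sub (h.2.2 ξ hξ χ hχ g) (h'.2.2 ξ hξ χ' hχ' g)
  rwa [sub_sub_sub_cancel_left] at hsub

/-- A sum over a union of blocks, by blocks. -/
theorem sum_filter_by_blocks {H : Type u} [Group H] [Fintype H] (Q : Set (IrrCharacter H) → Prop)
    (f : IrrCharacter H → ℂ)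
    (h : ∀ ξ : IrrCharacter H, Q (blockOf M (ξ : H → ℂ)) →
      ∑ φ ∈ (blockOf M (ξ : H → ℂ)).toFinset, f φ = 0) :
    ∑ φ ∈ Finset.univ.filter (fun φ : IrrCharacter H => Q (blockOf M (φ : H → ℂ))), f φ = 0 := by
  rw [← Finset.sum_fiberwise (Finset.univ.filter fun φ : IrrCharacter H => Q (blockOf M (φ : H → ℂ)))
    (fun φ : IrrCharacter H => blockOf M (φ : H → ℂ))]
  refine Finset.sum_eq_zero fun b _ => ?_
  by_cases hb : ∃ ξ : IrrCharacter H, blockOf M (ξ : H → ℂ) = b ∧ Q b
  · obtain ⟨ξ, rfl, hQ⟩ := hb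
    refine Eq.trans (Finset.sum_congr ?_ fun _ _ => rfl) (h ξ hQ)
    ext φ
    simp only [Finset.mem_filter, Finset.mem_univ, true_and, Set.mem_toFinset]
    exact ⟨fun e => e.2 ▸ mem_blockOf_self φ, fun hm => by
      have := (eq_blockOf_of_mem (isPBlock_blockOf ξ) hm).symm
      exact ⟨this ▸ hQ, this⟩⟩
  · rw [Finset.filter_false_of_mem fun φ hφ e => hb ⟨φ, e, e ▸ (Finset.mem_filter.1 hφ).2⟩]
    exact Finset.sum_empty

variable (hM : IsPModular p M) {B : Set (IrrCharacter G)} (hB : IsPBlock M B) {u : G}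
  (hu : ∃ k : ℕ, orderOf u = p ^ k) {C : Subgroup G}
  (hC : C = Subgroup.centralizer ({u} : Set G))

omit [Fintype G] in
include hC in
theorem isClassFunction_translate_mul (χ : IrrCharacter G) :
    IsClassFunction C (fun c : C => (χ : G → ℂ) (u * c)) := fun g h => by
  have hh : (h : G) * u = u * (h : G) := Subgroup.mem_centralizer_singleton_iff.1 (hC.le h.2)
  show (χ : G → ℂ) (u * ((h * g * h⁻¹ : C) : G)) = _
  rw [show u * ((h * g * h⁻¹ : C) : G) = (h : G) * (u * g) * (h : G)⁻¹ from by
    push_cast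
    rw [← mul_assoc u, ← mul_assoc u, ← hh]
    group, Chars.irr_isClassFunction χ]

include hM hu hC in
/-- Only the inducing blocks see a member of the block. -/
theorem sum_translate_eq_zero (Q : Set (IrrCharacter C) → Prop) {χ : IrrCharacter G}
    (hQ : ∀ e, Q e → ¬ IsInducedBlock M C e (blockOf M (χ : G → ℂ))) {s : C}
    (hs : ¬ p ∣ orderOf s) :
    ∑ φ ∈ Finset.univ.filter (fun φ : IrrCharacter C => Q (blockOf M (φ : C → ℂ))),
      classInner (fun c : C => (χ : G → ℂ) (u * c)) (φ : C → ℂ) * (φ : C → ℂ) s = 0 := by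
  refine sum_filter_by_blocks (M := M) Q _ fun ξ hξ => ?_
  have h := secondMain_blockPart hM hu (isPBlock_blockOf χ) (mem_blockOf_self χ) hC
    (isPBlock_blockOf ξ) (hQ _ hξ) hs
  simp only [blockPart] at h
  rw [finsum_mem_eq_toFinset_sum, Subsingleton.elim (Fintype.ofFinite C) (inferInstance : Fintype C)] at h
  exact h

include hM hB hu hC in
/-- A member of the block on the section is its inducing part; any other character has none. -/
theorem inducing_part_eq (χ : IrrCharacter G) {s : C} (hs : ¬ p ∣ orderOf s) :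
    ∑ φ ∈ (inducingSet M C B).toFinset,
      classInner (fun c : C => (χ : G → ℂ) (u * c)) (φ : C → ℂ) * (φ : C → ℂ) s =
        if χ ∈ B then (χ : G → ℂ) (u * s) else 0 := by
  have hset : (inducingSet M C B).toFinset =
      Finset.univ.filter (fun φ : IrrCharacter C => IsInducedBlock M C (blockOf M (φ : C → ℂ)) B) := by
    ext φ; simp only [Set.mem_toFinset, Finset.mem_filter, Finset.mem_univ, true_and]; rfl
  rw [hset]
  split_ifs with hχ
  · have hb := eq_blockOf_of_mem hB hχ
    conv_rhs => rw [Chars.isClassFunction_apply_eq_sum_classInner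
      (isClassFunction_translate_mul hC χ) s, ← Finset.sum_filter_add_sum_filter_not Finset.univ
      (fun φ : IrrCharacter C => IsInducedBlock M C (blockOf M (φ : C → ℂ)) B)]
    refine left_eq_add.2 ?_
    convert sum_translate_eq_zero (χ := χ) hM hu hC (fun e => ¬ IsInducedBlock M C e B)
      (fun e he => hb ▸ he) hs using 3
  · refine sum_translate_eq_zero hM hu hC (fun e => IsInducedBlock M C e B) (fun e he h' => hχ ?_) hs
    rw [isInducedBlock_unique he h']
    exact mem_blockOf_self χ

include hM in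
theorem ker_inducing_eq_zero {a s : C} (ha : p ∣ orderOf a) (hs : ¬ p ∣ orderOf s) :
    Sections.ker (inducingSet M C B) a s = 0 := by
  rw [Sections.ker, finsum_mem_eq_toFinset_sum]
  rw [show (inducingSet M C B).toFinset =
      Finset.univ.filter (fun φ : IrrCharacter C => IsInducedBlock M C (blockOf M (φ : C → ℂ)) B) by
    ext φ; simp only [Set.mem_toFinset, Finset.mem_filter, Finset.mem_univ, true_and]; rfl]
  rw [sum_filter_by_blocks (M := M) (fun e => IsInducedBlock M C e B) _ fun ξ _ => ?_, mul_zero]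
  have h := weak_block_orth hM (isPBlock_blockOf (M := M) ξ) hs ha
  rw [finsum_mem_eq_toFinset_sum] at h
  rw [← h]
  exact Finset.sum_congr rfl fun φ _ => mul_comm _ _

include hM in
theorem inducing_sum_eq_regular (ϑ : C → ℂ) {s : C} (hs : ¬ p ∣ orderOf s) :
    ∑ φ ∈ (inducingSet M C B).toFinset, classInner ϑ (φ : C → ℂ) * (φ : C → ℂ) s =
      ∑ a : C, pRegularPart p ϑ a * Sections.ker (inducingSet M C B) a s := by
  have h := Sections.blockPart_eq_sum_ker (inducingSet M C B) ϑ s
  simp only [blockPart] at h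
  rw [finsum_mem_eq_toFinset_sum, Subsingleton.elim (Fintype.ofFinite C) (inferInstance : Fintype C)] at h
  rw [h]
  refine Finset.sum_congr rfl fun a _ => ?_
  rw [BrauerFeit.pRegularPart_apply]
  split_ifs with ha
  · rw [ker_inducing_eq_zero hM ha hs, mul_zero, mul_zero]
  · rfl

include hM hB hu hC in
/-- The products of the values of the block on a section are those of the inducing blocks. -/
theorem sum_block_section_mul {s t : C} (hs : ¬ p ∣ orderOf s) (ht : ¬ p ∣ orderOf t) :
    ∑ χ ∈ B.toFinset, (χ : G → ℂ) (u * s) * (χ : G → ℂ) (u⁻¹ * t) =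
      ∑ φ ∈ (inducingSet M C B).toFinset, (φ : C → ℂ) s * (φ : C → ℂ) t := by
  have hu' : ∃ k : ℕ, orderOf u⁻¹ = p ^ k := by
    obtain ⟨k, hk⟩ := hu
    exact ⟨k, by rw [orderOf_inv, hk]⟩
  have hC' : C = Subgroup.centralizer ({u⁻¹} : Set G) := by
    rw [hC]
    ext x
    rw [Subgroup.mem_centralizer_singleton_iff, Subgroup.mem_centralizer_singleton_iff]
    exact ⟨fun h => (show Commute x u from h).inv_right, fun h => by
      simpa using (show Commute x u⁻¹ from h).inv_right.eq⟩
  set K := Sections.ker (inducingSet M C B) with hK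
  have hL : ∑ χ ∈ B.toFinset, (χ : G → ℂ) (u * s) * (χ : G → ℂ) (u⁻¹ * t) =
      ∑ χ : IrrCharacter G,
        (∑ a : C, pRegularPart p (fun c : C => (χ : G → ℂ) (u * c)) a * K a s) *
        (∑ b : C, pRegularPart p (fun c : C => (χ : G → ℂ) (u⁻¹ * c)) b * K b t) := by
    rw [← Finset.sum_subset (Finset.subset_univ B.toFinset) fun χ _ hχ => ?_]
    · refine Finset.sum_congr rfl fun χ hχ => ?_
      rw [← inducing_sum_eq_regular hM _ hs, ← inducing_sum_eq_regular hM _ ht,
        inducing_part_eq hM hB hu hC χ hs, inducing_part_eq hM hB hu' hC' χ ht,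
        if_pos (Set.mem_toFinset.1 hχ), if_pos (Set.mem_toFinset.1 hχ)]
    · rw [← inducing_sum_eq_regular hM _ hs, inducing_part_eq hM hB hu hC χ hs,
        if_neg (fun h => hχ (Set.mem_toFinset.2 h)), zero_mul]
  have hR : ∑ φ ∈ (inducingSet M C B).toFinset, (φ : C → ℂ) s * (φ : C → ℂ) t =
      ∑ φ : IrrCharacter C, (∑ a : C, pRegularPart p (φ : C → ℂ) a * K a s) *
        (∑ b : C, pRegularPart p (φ : C → ℂ) b * K b t) := by
    have hval : ∀ (φ : IrrCharacter C) (x : C), ¬ p ∣ orderOf x →
        ∑ a : C, pRegularPart p (φ : C → ℂ) a * K a x =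
          if φ ∈ inducingSet M C B then (φ : C → ℂ) x else 0 := fun φ x hx => by
      rw [← inducing_sum_eq_regular hM _ hx]
      simp only [Chars.classInner_irr, ite_mul, one_mul, zero_mul, Finset.sum_ite_eq,
        Set.mem_toFinset]
    rw [← Finset.sum_subset (Finset.subset_univ (inducingSet M C B).toFinset) fun φ _ hφ => ?_]
    · refine Finset.sum_congr rfl fun φ hφ => ?_
      rw [hval φ s hs, hval φ t ht, if_pos (Set.mem_toFinset.1 hφ), if_pos (Set.mem_toFinset.1 hφ)]
    · rw [hval φ s hs, if_neg (fun h => hφ (Set.mem_toFinset.2 h)), zero_mul]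
  rw [hL, hR]
  simp only [Finset.sum_mul, Finset.mul_sum]
  rw [Finset.sum_comm]
  conv_rhs => rw [Finset.sum_comm]
  refine Finset.sum_congr rfl fun b _ => ?_
  rw [Finset.sum_comm]
  conv_rhs => rw [Finset.sum_comm]
  refine Finset.sum_congr rfl fun a _ => ?_
  by_cases ha : p ∣ orderOf a
  · simp [BrauerFeit.pRegularPart_apply, ha]
  by_cases hb : p ∣ orderOf b
  · simp [BrauerFeit.pRegularPart_apply, hb]
  simp only [BrauerFeit.pRegularPart_apply, ha, hb, if_false]
  calc ∑ χ : IrrCharacter G, (χ : G → ℂ) (u * a) * K a s * ((χ : G → ℂ) (u⁻¹ * b) * K b t)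
      = (K a s * K b t) * ∑ χ : IrrCharacter G, (χ : G → ℂ) (u * a) * (χ : G → ℂ) (u⁻¹ * b) := by
        rw [Finset.mul_sum]
        exact Finset.sum_congr rfl fun χ _ => by ring
    _ = (K a s * K b t) * ∑ φ : IrrCharacter C, (φ : C → ℂ) a * (φ : C → ℂ) b := by
        rw [Sections.sum_mul_eq hu hC ha hb]
    _ = _ := by
        rw [Finset.mul_sum]
        exact Finset.sum_congr rfl fun χ _ => by ring

include hM hB hu hC in
/-- The trace on a section of a map realised by an automorphism of the centralizer. -/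
theorem exists_nat_section_trace [M.IsMaximal] (γ : C ≃* C) :
    ∃ n : ℕ, ∑ c : C, (if p ∣ orderOf c then 0 else ∑ χ ∈ B.toFinset,
      (χ : G → ℂ) (u * γ c) * conj ((χ : G → ℂ) (u * c))) = n := by
  have hcu : ∀ c : C, Commute (c : G) u := fun c =>
    Subgroup.mem_centralizer_singleton_iff.1 (hC.le c.2)
  have hterm : ∀ c : C, (if p ∣ orderOf c then 0 else ∑ χ ∈ B.toFinset,
      (χ : G → ℂ) (u * γ c) * conj ((χ : G → ℂ) (u * c))) =
      ∑ φ ∈ (inducingSet M C B).toFinset,
        pRegularPart p (fun x => (φ : C → ℂ) (γ x)) c * conj ((φ : C → ℂ) c) := by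
    intro c
    simp only [BrauerFeit.pRegularPart_apply]
    split_ifs with hc
    · simp
    · have hγc : ¬ p ∣ orderOf (γ c) := by rwa [MulEquiv.orderOf_eq]
      have hcinv : ¬ p ∣ orderOf c⁻¹ := by rwa [orderOf_inv]
      have h := sum_block_section_mul hM hB hu hC hγc hcinv
      have e1 : ∀ φ : IrrCharacter C, (φ : C → ℂ) c⁻¹ = conj ((φ : C → ℂ) c) :=
        fun φ => Chars.isCharacter_inv_apply (Chars.irr_isCharacter φ) c
      have e2 : ∀ χ : IrrCharacter G, (χ : G → ℂ) (u⁻¹ * ((c⁻¹ : C) : G)) =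
          conj ((χ : G → ℂ) (u * c)) := fun χ => by
        rw [← Chars.isCharacter_inv_apply (Chars.irr_isCharacter χ) (u * c)]
        congr 1
        rw [Subgroup.coe_inv, mul_inv_rev, ((hcu c).inv_left.inv_right).eq]
      simp only [e1, e2] at h
      exact h
  rw [Finset.sum_congr rfl fun c _ => hterm c, Finset.sum_comm]
  have hinner : ∀ φ : IrrCharacter C, ∑ c : C, pRegularPart p (fun x => (φ : C → ℂ) (γ x)) c *
      conj ((φ : C → ℂ) c) =
      (Nat.card C : ℂ) * classInner (pRegularPart p (fun x => (φ : C → ℂ) (γ x))) (φ : C → ℂ) :=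
    fun φ => by rw [classInner, ← mul_assoc, mul_inv_cancel₀ Chars.natCard_ne_zero, one_mul]
  rw [Finset.sum_congr rfl fun φ _ => hinner φ, ← Finset.mul_sum]
  suffices h : ∃ n : ℕ, ∑ φ ∈ (inducingSet M C B).toFinset,
      classInner (pRegularPart p (fun x => (φ : C → ℂ) (γ x))) (φ : C → ℂ) = n by
    obtain ⟨n, hn⟩ := h
    exact ⟨Nat.card C * n, by rw [hn, Nat.cast_mul]⟩
  rw [← Finset.sum_fiberwise_of_maps_to (s := (inducingSet M C B).toFinset)
    (g := fun φ : IrrCharacter C => blockOf M (φ : C → ℂ))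
    (t := (inducingSet M C B).toFinset.image fun φ : IrrCharacter C => blockOf M (φ : C → ℂ))
    fun φ hφ => Finset.mem_image_of_mem _ hφ]
  have hblock : ∀ e ∈ (inducingSet M C B).toFinset.image (fun φ : IrrCharacter C => blockOf M (φ : C → ℂ)),
      ∃ n : ℕ, ∑ φ ∈ (inducingSet M C B).toFinset.filter (fun φ : IrrCharacter C => blockOf M (φ : C → ℂ) = e),
        classInner (pRegularPart p (fun x => (φ : C → ℂ) (γ x))) (φ : C → ℂ) = n := by
    intro e he
    obtain ⟨ξ, hξ, rfl⟩ := Finset.mem_image.1 he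
    have hset : (inducingSet M C B).toFinset.filter
        (fun φ : IrrCharacter C => blockOf M (φ : C → ℂ) = blockOf M (ξ : C → ℂ)) =
        (blockOf M (ξ : C → ℂ)).toFinset := by
      ext φ
      simp only [Finset.mem_filter, Set.mem_toFinset]
      refine ⟨fun h => h.2 ▸ mem_blockOf_self φ, fun h => ?_⟩
      have := (eq_blockOf_of_mem (isPBlock_blockOf ξ) h).symm
      refine ⟨?_, this⟩
      show IsInducedBlock M C (blockOf M (φ : C → ℂ)) B
      rw [this]
      exact (Set.mem_toFinset.1 hξ : ξ ∈ inducingSet M C B)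
    rw [hset]
    exact exists_nat_trace hM (isPBlock_blockOf ξ) γ
  choose! n hn using hblock
  exact ⟨∑ e ∈ (inducingSet M C B).toFinset.image (fun φ : IrrCharacter C => blockOf M (φ : C → ℂ)), n e, by
    rw [Nat.cast_sum]
    exact Finset.sum_congr rfl hn⟩

end Cfsg.Agent.Lib.BlockAlg
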