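import Mathlib
import Cfsg.Agent.Lib.BlockAlg.FourTraces
import Cfsg.Agent.Lib.BlockAlg.CyclicNilpotent
import Cfsg.Agent.Lib.KleinBlock.Main
import Cfsg.Agent.S4675

/-!
# Blocks with one Brauer character and at most four characters
-/

set_option autoImplicit false

namespace Cfsg.Agent.Lib.BlockAlg

open Cfsg MonoidAlgebra
open Cfsg.Agent.Lib
open Cfsg.Agent.Lib.Blocks

universe u

attribute [local instance] Classical.propDecidable

variable {G : Type u} [Group G] [Fintype G] {p : ℕ} [Fact p.Prime] {M : Ideal AlgInt} [M.IsPrime]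
  {B : Set (IrrCharacter G)} (hB : IsPBlock M B)

/-- The symmetrizing form of the block algebra. -/
theorem exists_form : ∃ τ : Alg hB →ₗ[Residue M] Residue M,
    (∀ x y, τ (x * y) = τ (y * x)) ∧ ∀ x, (∀ y, τ (x * y) = 0) → x = 0 := by
  obtain ⟨s, hs⟩ := (proj hB).toLinearMap.exists_rightInverse_of_surjective
    (LinearMap.range_eq_top.2 (proj_surjective hB))
  let τ : Alg hB →ₗ[Residue M] Residue M :=
    { toFun := fun x => (idem hB * s x).coeff 1
      map_add' := fun x y => by rw [map_add, mul_add, coeff_add, Finsupp.add_apply]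
      map_smul' := fun c x => by
        rw [map_smul, mul_smul_comm, RingHom.id_apply, coeff_smul, Finsupp.smul_apply] }
  have hval : ∀ z, τ (proj hB z) = (idem hB * z).coeff 1 := fun z => by
    have h1 : proj hB (s (proj hB z) - z) = 0 := by
      rw [map_sub, sub_eq_zero]
      exact LinearMap.congr_fun hs (proj hB z)
    rw [proj_eq_zero_iff, mul_sub, sub_eq_zero] at h1
    show (idem hB * s (proj hB z)).coeff 1 = _
    rw [h1]
  have hsymm : ∀ z w : MonoidAlgebra (Residue M) G, (z * w).coeff 1 = (w * z).coeff 1 := fun z w => by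
    rw [BrauerMap.coeff_mul_eq_sum, BrauerMap.coeff_mul_eq_sum]
    refine Fintype.sum_equiv (Equiv.inv G) _ _ fun g => ?_
    simp [mul_comm]
  refine ⟨τ, fun x y => ?_, fun x hx => ?_⟩
  · obtain ⟨z, rfl⟩ := proj_surjective hB x
    obtain ⟨w, rfl⟩ := proj_surjective hB y
    rw [← map_mul, ← map_mul, hval, hval, ← mul_assoc, hsymm, ← mul_assoc, ← idem_comm hB w, mul_assoc]
  · obtain ⟨z, rfl⟩ := proj_surjective hB x
    rw [proj_eq_zero_iff]
    ext g
    have h := hx (proj hB (single g⁻¹ 1))
    rw [← map_mul, hval, ← mul_assoc, coeff_mul_single_apply, inv_inv, one_mul, mul_one] at h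
    simpa using h

variable (hM : IsPModular p M) {D : Subgroup G}

include hB hM in
/-- With one Brauer character and at most four characters the defect group is no larger. -/
theorem card_defect_eq (hD : IsDefectGroup p M B D) (hl : blockRank p B = 1) (hk : Nat.card B ≤ 4) :
    Nat.card D = Nat.card B := by
  haveI := charP_residue hM
  haveI := Contrib.isAlgClosed_residue hM
  haveI : Nontrivial (Alg hB) := Module.nontrivial_of_finrank_pos (R := Residue M) (finrank_pos hB)
  obtain ⟨U⟩ := nonempty_matUnits (k := Residue M) (B := Alg hB)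
    fun m d Q hd hQ => (card_factors_le hB hM d Q hd hQ).trans hl.le
  obtain ⟨τ, hτ, hnd⟩ := exists_form hB
  have hmle := U.finrank_corner_le (U.corner_comm_of_four τ hτ hnd hk (finrank_quot_le hB))
    (finrank_quot_le hB)
  obtain ⟨S⟩ : Nonempty (Sylow p G) := inferInstance
  have hdvd := card_dvd_finrank_mulRight hB hM S.2 U.hi
  rw [U.finrank_mulRight] at hdvd
  have hdim := U.finrank_eq
  set f := U.n + 1
  set m := Module.finrank (Residue M) U.corner
  refine le_antisymm (le_trans ?_ hmle) ?_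
  · rw [card_defectGroup hM hB hD]
    set A := (Nat.card G).factorization p with hA
    have hpos := finrank_pos hB
    rw [hdim] at hpos
    have hf : f ≠ 0 := fun h => by simp [h] at hpos
    have hm0 : m ≠ 0 := fun h => by simp [h] at hpos
    have hfm : f * m ≠ 0 := mul_ne_zero hf hm0
    have h1 := congrArg (fun n => n.factorization p) hdim
    rw [finrank_alg, ← finsum_mem_eq_toFinset_sum] at h1
    simp only [S4491.result p M hM B hB] at h1
    rw [Nat.factorization_mul hf hfm, Nat.factorization_mul hf hm0, Finsupp.add_apply,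
      Finsupp.add_apply, ← hA] at h1
    have h2 : A ≤ f.factorization p + m.factorization p := by
      rw [Sylow.card_eq_multiplicity] at hdvd
      have := (Fact.out : p.Prime).pow_dvd_iff_le_factorization hfm |>.1 hdvd
      rwa [Nat.factorization_mul hf hm0, Finsupp.add_apply] at this
    have h3 : blockDefect p B ≤ A := Blocks.blockDefect_le B
    exact Nat.le_of_dvd (Nat.pos_of_ne_zero hm0)
      ((pow_dvd_pow p (by omega : blockDefect p B ≤ m.factorization p)).trans (Nat.ordProj_dvd m p))
  · obtain ⟨φ, d, -, hd, hsum⟩ := S4675.result p M hM B hB D hD hl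
    rw [← hsum, finsum_mem_eq_toFinset_sum, Nat.card_eq_card_toFinset, Finset.card_eq_sum_ones]
    refine Finset.sum_le_sum fun χ hχ => Nat.one_le_pow _ _ (Nat.pos_of_ne_zero fun h0 => ?_)
    have h1 := hd χ (Set.mem_toFinset.1 hχ) 1 (by
      show ¬ p ∣ orderOf (1 : G)
      rw [orderOf_one]; exact (Fact.out : p.Prime).not_dvd_one)
    rw [h0, Nat.cast_zero, zero_mul, (exists_degree_eq χ).1, Nat.cast_eq_zero] at h1
    exact (exists_degree_eq χ).2.1 h1

include hB hM in
/-- One Brauer character and at most four characters. -/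
theorem small_block (hD : IsDefectGroup p M B D) (hD1 : D ≠ ⊥) (hl : blockRank p B = 1)
    (hk : Nat.card B ≤ 4) :
    IsNilpotentBlock p M B ∧ Nat.card D = Nat.card B ∧ (p = 2 ∨ p = 3) := by
  have hp : p.Prime := Fact.out
  have heq := card_defect_eq hB hM hD hl hk
  have hDp := Blocks.isPGroup_of_isDefectGroup hD
  obtain ⟨n, hn⟩ := IsPGroup.iff_card.1 hDp
  have h1 : 1 < Nat.card D := (Subgroup.one_lt_card_iff_ne_bot D).2 hD1
  have hn0 : n ≠ 0 := fun h => by rw [h, pow_zero] at hn; omega
  have hp4 : p ≤ 4 := (Nat.le_self_pow hn0 p).trans (by omega)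
  have hp23 : p = 2 ∨ p = 3 := by
    have := hp.two_le
    rcases (by omega : p = 2 ∨ p = 3 ∨ p = 4) with h | h | h
    · exact Or.inl h
    · exact Or.inr h
    · exact absurd (h ▸ hp) (by norm_num)
  refine ⟨?_, heq, hp23⟩
  by_cases hcyc : IsCyclic D
  · exact isNilpotentBlock_of_cyclic hM hB hD hcyc hl
  have hn1 : n ≠ 1 := fun h => hcyc (by
    rw [h, pow_one] at hn
    exact isCyclic_of_prime_card hn)
  obtain ⟨rfl, rfl⟩ : p = 2 ∧ n = 2 := by
    have hlt : p ^ n ≤ 4 := by omega
    have h3 : 2 ^ n ≤ p ^ n := Nat.pow_le_pow_left hp.two_le n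
    have hn2 : n = 2 := by
      by_contra hne
      have : 2 ^ 3 ≤ 2 ^ n := Nat.pow_le_pow_right (by norm_num) (by omega)
      omega
    subst hn2
    rcases hp23 with rfl | rfl <;> simp_all
  have h4 : Nat.card D = 4 := by rw [hn]; norm_num
  have hV : IsKleinFour D := by
    refine ⟨h4, ?_⟩
    have hsq : ∀ x : D, x ^ 2 = 1 := fun x => by
      have h : orderOf x ∣ 4 := h4 ▸ orderOf_dvd_natCard x
      obtain ⟨j, hj, hje⟩ := (Nat.dvd_prime_pow Nat.prime_two).1 (show orderOf x ∣ 2 ^ 2 from h)
      have hj2 : j ≠ 2 := fun h2 => hcyc (isCyclic_of_orderOf_eq_card x (by rw [hje, h2, h4]; norm_num))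
      exact orderOf_dvd_iff_pow_eq_one.1 (hje ▸ (pow_dvd_pow 2 (by omega : j ≤ 1)))
    rcases (Nat.dvd_prime Nat.prime_two).1 (Monoid.exponent_dvd_of_forall_pow_eq_one hsq) with h | h
    · exfalso
      haveI : Subsingleton D := Monoid.exp_eq_one_iff.1 h
      rw [Nat.card_of_subsingleton (1 : D)] at h4
      omega
    · exact h
  obtain ⟨c, hmax⟩ := NilBlock.exists_maximal hM hB hD
  obtain ⟨hine, -, hr⟩ := KleinBlock.main (b := ⟨D, c⟩) hM hmax hV
  rw [hl] at hr
  have hab : ∀ x ∈ D, ∀ y ∈ D, x * y = y * x := KleinBlock.comm hV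
  rw [BrauerPairs.isNilpotentBlock_iff_of_comm hM (b := ⟨D, c⟩) hmax hab]
  intro x hxN hxst
  have hx : x ∈ BrauerPairs.pairStab hmax.1.1.2 :=
    (BrauerPairs.mem_pairStab_iff_stabilizesBlock (a := ⟨D, c⟩) hmax.1.1.2).2 ⟨hxN, hxst⟩
  have h := hr.symm
  rw [KleinBlock.inertia, Subgroup.relIndex_eq_one] at h
  exact h hx

end Cfsg.Agent.Lib.BlockAlg
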